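import Cfsg.Agent.Lib.Small.OMinIndex.Moves

/-!
# The duality of additive subgroups of a quadratic space

Additive subgroups are paired by an additive functional of the polar form.
-/

set_option autoImplicit false
set_option linter.unusedSectionVars false

namespace Cfsg.Agent.Small.OMinIndex

open Module QuadraticMap Cfsg.Agent.Classical Cfsg.Agent.Classical.OCount

variable {F : Type*} [Field F] [Finite F] {V : Type*} [AddCommGroup V] [Module F V] [FiniteDimensional F V]
  {Q : QuadraticForm F V}

instance ringChar_fact : Fact (Nat.Prime (ringChar F)) := ⟨CharP.char_is_prime F _⟩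

/-- An additive functional on the field, the trace. -/
noncomputable def chi (F : Type*) [Field F] [Finite F] : F →+ ZMod (ringChar F) :=
  letI := ZMod.algebra F (ringChar F)
  (Algebra.trace (ZMod (ringChar F)) F).toAddMonoidHom

theorem eq_zero_of_chi {t : F} (h : ∀ s : F, chi F (s * t) = 0) : t = 0 := by
  letI := ZMod.algebra F (ringChar F)
  by_contra ht
  refine FiniteField.trace_to_zmod_nondegenerate F ht |>.elim fun s hs => hs ?_
  rw [mul_comm]
  exact h s

/-- The pairing as an additive map. -/
noncomputable def pairing (Q : QuadraticForm F V) : V →+ V →+ ZMod (ringChar F) :=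
  AddMonoidHom.mk' (fun y => (chi F).comp (Q.polarBilin y).toAddMonoidHom)
    fun y z => AddMonoidHom.ext fun w => by
      simp only [AddMonoidHom.comp_apply, LinearMap.toAddMonoidHom_coe, map_add, LinearMap.add_apply,
        AddMonoidHom.add_apply]

theorem pairing_apply (y w : V) : pairing Q y w = chi F (polar Q y w) := rfl

/-- The annihilator of an additive subgroup. -/
noncomputable def dual (Q : QuadraticForm F V) (A : AddSubgroup V) : AddSubgroup V :=
  ⨅ w ∈ A, ((pairing Q).flip w).ker

theorem mem_dual {A : AddSubgroup V} {y : V} : y ∈ dual Q A ↔ ∀ w ∈ A, chi F (polar Q y w) = 0 := by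
  simp [dual, AddSubgroup.mem_iInf, pairing_apply]

theorem perp_of_mem_dual {A : AddSubgroup V} {y a : V} (hy : y ∈ dual Q A) (ha : ∀ t : F, t • a ∈ A) :
    polar Q y a = 0 :=
  eq_zero_of_chi fun s => by
    have h := mem_dual.1 hy _ (ha s)
    rwa [polar_smul_right, smul_eq_mul] at h

theorem mem_dual_submodule {U : Submodule F V} {y : V} :
    y ∈ dual Q U.toAddSubgroup ↔ ∀ u ∈ U, polar Q y u = 0 :=
  ⟨fun h _ hu => perp_of_mem_dual h fun t => U.smul_mem t hu,
    fun h => mem_dual.2 fun w hw => by rw [h w hw, map_zero]⟩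

theorem dual_le {A B : AddSubgroup V} (h : A ≤ B) : dual Q B ≤ dual Q A :=
  fun _ hy => mem_dual.2 fun w hw => mem_dual.1 hy w (h hw)

theorem le_dual_dual (A : AddSubgroup V) : A ≤ dual Q (dual Q A) :=
  fun w hw => mem_dual.2 fun y hy => by rw [polar_comm]; exact mem_dual.1 hy w hw

/-- The orthogonal of an additive subgroup has complementary order. -/
theorem card_mul_card_orth {W₀ : Type*} [AddCommGroup W₀] [Finite W₀] (p : ℕ) [Fact p.Prime] [Module (ZMod p) W₀]
    (f : W₀ →+ W₀ →+ ZMod p) (hl : ∀ y, (∀ w, f y w = 0) → y = 0) (hr : ∀ w, (∀ y, f y w = 0) → w = 0)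
    (hs : ∀ y w, f y w = f w y) (A : AddSubgroup W₀) :
    Nat.card A * Nat.card {y // ∀ w ∈ A, f y w = 0} = Nat.card W₀ := by
  let B : LinearMap.BilinForm (ZMod p) W₀ :=
    LinearMap.mk₂ (ZMod p) (fun y w => f y w) (fun y z w => by rw [map_add, AddMonoidHom.add_apply])
      (fun c y w => ZMod.map_smul (f.flip w) c y) (fun y z w => map_add _ _ _)
      (fun c y w => ZMod.map_smul (f y) c w)
  have hB : ∀ y w, B y w = f y w := fun y w => rfl
  have hn : B.Nondegenerate := ⟨hl, hr⟩
  let W := AddSubgroup.toZModSubmodule p A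
  have hW : Nat.card (B.orthogonal W) = Nat.card {y // ∀ w ∈ A, f y w = 0} :=
    Nat.card_congr (Equiv.subtypeEquivRight fun y => forall₂_congr fun w _ => by rw [hs y w]; rfl)
  haveI : Module.Finite (ZMod p) W₀ := Module.Finite.of_finite
  have hr := LinearMap.BilinForm.finrank_orthogonal hn W
  have hle := W.finrank_le
  rw [← hW, show Nat.card A = Nat.card W from rfl, natCard_eq_pow_finrank (K := ZMod p) (V := W),
    natCard_eq_pow_finrank (K := ZMod p) (V := B.orthogonal W),
    natCard_eq_pow_finrank (K := ZMod p) (V := W₀), ← pow_add, hr, Nat.add_sub_cancel' hle]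

theorem card_mul_card_dual (hQ : PND Q) (A : AddSubgroup V) :
    Nat.card A * Nat.card (dual Q A) = Nat.card V := by
  have : Finite V := Module.finite_of_finite F
  letI : Module (ZMod (ringChar F)) V := AddCommGroup.zmodModule fun x => by
    rw [← Nat.cast_smul_eq_nsmul F, ringChar.Nat.cast_ringChar, zero_smul]
  have hp : ∀ y : V, (∀ w, pairing Q y w = 0) → y = 0 := fun y hy => hQ y fun w => eq_zero_of_chi fun s => by
    have h := hy (s • w)
    rwa [pairing_apply, polar_smul_right, smul_eq_mul] at h
  have hs : ∀ y w : V, pairing Q y w = pairing Q w y := fun y w => by rw [pairing_apply, pairing_apply, polar_comm]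
  rw [← card_mul_card_orth (ringChar F) (pairing Q) hp (fun w hw => hp w fun y => by rw [hs]; exact hw y) hs A]
  exact congrArg _ (Nat.card_congr (Equiv.subtypeEquivRight fun y => mem_dual))

theorem dual_dual (hQ : PND Q) (A : AddSubgroup V) : dual Q (dual Q A) = A := by
  haveI : Finite V := Module.finite_of_finite F
  refine (AddSubgroup.eq_of_le_of_card_ge (le_dual_dual A) (le_of_eq ?_)).symm
  have h1 := card_mul_card_dual hQ A
  have h2 := card_mul_card_dual hQ (dual Q A)
  rw [← h1, mul_comm (Nat.card A)] at h2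
  exact Nat.eq_of_mul_eq_mul_left Nat.card_pos h2

theorem mem_of_perp (hQ : PND Q) {A : AddSubgroup V} {w : V} (h : ∀ y ∈ dual Q A, polar Q y w = 0) : w ∈ A := by
  rw [← dual_dual hQ A]
  exact mem_dual.2 fun y hy => by rw [polar_comm, h y hy, map_zero]

theorem mem_dual_map (g : Om Q) {A A' : AddSubgroup V} (h : ∀ w, g • w ∈ A' ↔ w ∈ A) {y : V} :
    g • y ∈ dual Q A' ↔ y ∈ dual Q A := by
  refine ⟨fun hy => mem_dual.2 fun w hw => ?_, fun hy => mem_dual.2 fun w hw => ?_⟩
  · rw [← polar_smul g]; exact mem_dual.1 hy _ ((h w).2 hw)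
  · rw [← smul_inv_smul g w, polar_smul]
    exact mem_dual.1 hy _ ((h _).1 (by rwa [smul_inv_smul]))

end Cfsg.Agent.Small.OMinIndex
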