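import Cfsg.Agent.Lib.Small.OMinIndex.Invariant

/-!
# When the good vectors span
-/

set_option autoImplicit false
set_option linter.unusedSectionVars false

namespace Cfsg.Agent.Small.OMinIndex

open Module QuadraticMap Cfsg.Agent.Classical Cfsg.Agent.Classical.OCount

variable {F : Type*} [Field F] [Finite F] {V : Type*} [AddCommGroup V] [Module F V] [FiniteDimensional F V]
  {Q : QuadraticForm F V}

theorem good_of_refl {C : Submodule F V} {z y : V} (hz : z ∈ C) (hy : y ∈ C) (hQz : Q z ≠ 0) (hQy : Q y ≠ 0)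
    (h1 : polar Q y z ≠ 0) (h2 : polar Q y z ^ 2 ≠ 4 * Q y * Q z) : Good Q C z := by
  refine ⟨hz, hQz, ORefl.refl Q y z, ?_, ORefl.refl_mem y z, ?_⟩
  · rw [ORefl.refl_apply]
    exact C.sub_mem hz (C.smul_mem _ hy)
  · rw [ORefl.refl_apply, polar_sub_right, polar_smul_right, ORefl.polar_self_two, polar_comm Q z y, smul_eq_mul]
    intro e
    have e' : polar Q y z ^ 2 * (polar Q y z ^ 2 - 4 * Q y * Q z) = 0 := by
      field_simp at e
      linear_combination e
    rcases mul_eq_zero.1 e' with h | h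
    · exact h1 (pow_eq_zero_iff two_ne_zero |>.1 h)
    · exact h2 (sub_eq_zero.1 h)

theorem four_ne (h2 : (2 : F) ≠ 0) : (4 : F) ≠ 0 := by
  rw [show (4 : F) = 2 * 2 by norm_num]
  exact mul_ne_zero h2 h2

theorem exists_scalar_avoid (hq : 5 ≤ Nat.card F) (c : F) : ∃ t : F, t ≠ 0 ∧ t ^ 2 ≠ c := by
  classical
  haveI := Fintype.ofFinite F
  rw [Nat.card_eq_fintype_card] at hq
  by_contra! hc
  have hle : (Finset.univ : Finset F) ⊆ insert 0 (Finset.univ.filter fun t : F => t ^ 2 = c) := fun t _ => by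
    rcases eq_or_ne t 0 with rfl | ht
    · exact Finset.mem_insert_self _ _
    · exact Finset.mem_insert_of_mem (Finset.mem_filter.2 ⟨Finset.mem_univ _, hc t ht⟩)
  have h3 : (Finset.univ.filter fun t : F => t ^ 2 = c).card ≤ 2 := by
    refine le_trans (Finset.card_le_card fun t ht => ?_) (Polynomial.card_nthRoots 2 c |>.trans' (Multiset.toFinset_card_le _))
    rw [Finset.mem_filter] at ht
    rw [Multiset.mem_toFinset, Polynomial.mem_nthRoots two_pos]
    exact ht.2
  have := (Finset.card_le_card hle).trans (Finset.card_insert_le _ _)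
  rw [Finset.card_univ] at this
  omega

theorem NonDeg.perp {C : Submodule F V} (hC : NonDeg Q C) (h2 : (2 : F) ≠ 0) {z : V} (hz : z ∈ C) (hQz : Q z ≠ 0) :
    NonDeg Q (perpIn Q C z) := by
  intro x hx h
  obtain ⟨hxC, hzx⟩ := mem_perpIn.1 hx
  have hzz : polar Q z z ≠ 0 := by rw [ORefl.polar_self_two]; exact mul_ne_zero h2 hQz
  refine hC x hxC fun u hu => ?_
  have h1 := h (u - (polar Q z u / polar Q z z) • z) (mem_perpIn.2 ⟨C.sub_mem hu (C.smul_mem _ hz), by
    rw [polar_sub_right, polar_smul_right, smul_eq_mul, div_mul_cancel₀ _ hzz, sub_self]⟩)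
  rwa [polar_sub_right, polar_smul_right, polar_comm Q x z, hzx, smul_zero, sub_zero] at h1

theorem good_odd {C : Submodule F V} (hC : NonDeg Q C) (h2 : (2 : F) ≠ 0) (hd : 2 ≤ finrank F C)
    (h : 5 ≤ Nat.card F ∨ 3 ≤ finrank F C ∨ ∀ x ∈ C, Q x = 0 → x = 0) {z : V} (hz : z ∈ C) (hQz : Q z ≠ 0) :
    Good Q C z := by
  have hC' := hC.perp h2 hz hQz
  have hd' := finrank_perpIn (Q := Q) C z
  obtain ⟨y₀, hy₀, hQy₀⟩ := hC'.exists_ns fun e => by rw [e, finrank_bot] at hd'; omega
  obtain ⟨hy₀C, hzy₀⟩ := mem_perpIn.1 hy₀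
  obtain ⟨y, hy, hzy, hQy, t, ht, ht'⟩ : ∃ y ∈ C, polar Q z y = 0 ∧ Q y ≠ 0 ∧
      ∃ t : F, t ≠ 0 ∧ Q y + t ^ 2 * Q z ≠ 0 := by
    rcases h with h | h | h
    · obtain ⟨t, ht, ht'⟩ := exists_scalar_avoid h (-Q y₀ / Q z)
      refine ⟨y₀, hy₀C, hzy₀, hQy₀, t, ht, fun e => ht' ?_⟩
      rw [eq_div_iff hQz]
      linear_combination e
    · by_cases e : Q y₀ + Q z = 0
      · have hC'' := hC'.perp h2 hy₀ hQy₀
        have hd'' := finrank_perpIn (Q := Q) (perpIn Q C z) y₀
        obtain ⟨y₁, hy₁, hQy₁⟩ := hC''.exists_ns fun e' => by rw [e', finrank_bot] at hd''; omega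
        obtain ⟨hy₁', h01⟩ := mem_perpIn.1 hy₁
        obtain ⟨hy₁C, hzy₁⟩ := mem_perpIn.1 hy₁'
        by_cases e1 : Q y₁ + Q z = 0
        · refine ⟨y₀ + y₁, C.add_mem hy₀C hy₁C, by rw [polar_add_right, hzy₀, hzy₁, add_zero], ?_, 1, one_ne_zero, ?_⟩
          · rw [map_two, h01]
            intro h0
            exact mul_ne_zero h2 hQz (by linear_combination e + e1 - h0)
          · rw [map_two, h01]
            intro h0
            exact hQz (by linear_combination e + e1 - h0)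
        · exact ⟨y₁, hy₁C, hzy₁, hQy₁, 1, one_ne_zero, by rwa [one_pow, one_mul]⟩
      · exact ⟨y₀, hy₀C, hzy₀, hQy₀, 1, one_ne_zero, by rwa [one_pow, one_mul]⟩
    · refine ⟨y₀, hy₀C, hzy₀, hQy₀, 1, one_ne_zero, fun e => ?_⟩
      have := h (y₀ + z) (C.add_mem hy₀C hz) (by rw [map_two, polar_comm, hzy₀]; linear_combination e)
      rw [add_eq_zero_iff_eq_neg] at this
      rw [this, polar_neg_right, ORefl.polar_self_two, neg_eq_zero] at hzy₀
      exact mul_ne_zero h2 hQz hzy₀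
  have hval : Q (y + t • z) = Q y + t ^ 2 * Q z := by
    rw [map_two, QuadraticMap.map_smul, polar_smul_right, polar_comm Q y z, hzy, smul_eq_mul, smul_zero, add_zero, _root_.sq]
  have hp : polar Q (y + t • z) z = t * (2 * Q z) := by
    rw [polar_add_left, polar_smul_left, polar_comm Q y z, hzy, ORefl.polar_self_two, smul_eq_mul, zero_add]
  refine good_of_refl hz (C.add_mem hy (C.smul_mem _ hz)) hQz (hval ▸ ht') ?_ ?_
  · rw [hp]; exact mul_ne_zero ht (mul_ne_zero h2 hQz)
  · rw [hp, hval]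
    intro e
    exact mul_ne_zero (mul_ne_zero (four_ne h2) hQy) hQz (by linear_combination -e)

theorem span_good_odd {C : Submodule F V} (hC : NonDeg Q C) (h2 : (2 : F) ≠ 0) (hd : 2 ≤ finrank F C)
    (h : 5 ≤ Nat.card F ∨ 3 ≤ finrank F C ∨ ∀ x ∈ C, Q x = 0 → x = 0) :
    (∃ z, Good Q C z) ∧ C ≤ Submodule.span F {z | Good Q C z} := by
  obtain ⟨z, hz, hQz⟩ := hC.exists_ns fun e => by rw [e, finrank_bot] at hd; omega
  refine ⟨⟨z, good_odd hC h2 hd h hz hQz⟩, fun c hc => ?_⟩
  have hns : ∀ w ∈ C, Q w ≠ 0 → w ∈ Submodule.span F {z | Good Q C z} :=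
    fun w hw hQw => Submodule.subset_span (good_odd hC h2 hd h hw hQw)
  by_cases hQc : Q c = 0
  · by_cases h1 : Q (c + z) = 0
    · have h3 : Q (c - z) ≠ 0 := fun e => mul_ne_zero h2 hQz (by
        rw [map_two, hQc] at h1
        rw [ORefl.map_sub_two, hQc] at e
        linear_combination h1 + e)
      have := Submodule.add_mem _ (hns _ (C.sub_mem hc hz) h3) (hns z hz hQz)
      rwa [sub_add_cancel] at this
    · have := Submodule.sub_mem _ (hns _ (C.add_mem hc hz) h1) (hns z hz hQz)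
      rwa [add_sub_cancel_right] at this
  · exact hns c hc hQc

section Frame

variable (hS : Space Q) {a f v : V} (hp : IsHPair Q (a, f)) (hv : v ∈ comp Q (a, f)) (hQv : Q v ≠ 0)
include hS hp hv hQv

/-- A vector of a complement orthogonal to all of it lies on the line of `v`. -/
theorem compIn_rad {k l : V} (hk : k ∈ subU Q a f v) (hl : l ∈ subU Q a f v) (hkl : IsHPair Q (k, l)) {c : V}
    (hc : c ∈ compIn Q (subU Q a f v) k l) (h : ∀ y ∈ compIn Q (subU Q a f v) k l, polar Q c y = 0) : c ∈ F ∙ v := by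
  obtain ⟨hcU, hck, hcl⟩ := mem_compIn.1 hc
  refine mem_span_of_perp hS hp (mem_perpIn.1 hcU).1 (fun u hu => ?_) hv
  have := h _ (mem_compIn.2 ⟨Submodule.sub_mem _ (Submodule.sub_mem _ hu (Submodule.smul_mem _ _ hk))
    (Submodule.smul_mem _ _ hl), (mem_comp.1 (exists_split hkl u)).1, (mem_comp.1 (exists_split hkl u)).2⟩)
  rwa [polar_sub_right, polar_sub_right, polar_smul_right, polar_smul_right, polar_comm Q c k, hck,
    polar_comm Q c l, hcl, smul_zero, smul_zero, sub_zero, sub_zero] at this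

theorem nice_two (h2 : (2 : F) = 0) : Nice Q a f v := by
  intro k l hk hl hkl
  obtain ⟨C, hC⟩ : ∃ C, C = compIn Q (subU Q a f v) k l := ⟨_, rfl⟩
  rw [← hC]
  have hvC : v ∈ C := by
    obtain ⟨-, -, k3⟩ := mem_subU.1 hk
    obtain ⟨-, -, l3⟩ := mem_subU.1 hl
    rw [hC]
    exact mem_compIn.2 ⟨mem_perpIn.2 ⟨hv, two_eq_zero_polar h2 v⟩, by rw [polar_comm]; exact k3,
      by rw [polar_comm]; exact l3⟩
  have hvperp : ∀ w ∈ C, polar Q w v = 0 := fun w hw => by
    rw [polar_comm]; rw [hC] at hw; exact (mem_subU.1 (mem_compIn.1 hw).1).2.2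
  have h4 : (4 : F) = 0 := by rw [show (4 : F) = 2 * 2 by norm_num, h2, zero_mul]
  have good : ∀ z ∈ C, z ∉ F ∙ v → Q z ≠ 0 → Good Q C z := by
    intro z hz hzv hQz
    obtain ⟨y, hy, hzy⟩ : ∃ y ∈ C, polar Q z y ≠ 0 := by
      by_contra! hc
      subst hC
      exact hzv (compIn_rad hS hp hv hQv hk hl hkl hz hc)
    obtain ⟨y', hy', hzy', hQy'⟩ : ∃ y' ∈ C, polar Q z y' ≠ 0 ∧ Q y' ≠ 0 := by
      by_cases hQy : Q y = 0
      · refine ⟨y + v, C.add_mem hy hvC, by rwa [polar_add_right, hvperp z hz, add_zero], ?_⟩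
        rwa [map_two, hQy, hvperp y hy, zero_add, add_zero]
      · exact ⟨y, hy, hzy, hQy⟩
    refine good_of_refl hz hy' hQz hQy' (by rwa [polar_comm]) ?_
    rw [h4, zero_mul, zero_mul]
    exact pow_ne_zero 2 (by rwa [polar_comm])
  obtain ⟨x, hx, hxv⟩ : ∃ x ∈ C, x ∉ F ∙ v := by
    by_contra! hc
    have h1 := Submodule.finrank_mono (show C ≤ F ∙ v from hc)
    rw [finrank_span_singleton (show v ≠ 0 from fun e => hQv (by rw [e, QuadraticMap.map_zero]))] at h1
    have h3 := finrank_perpIn (Q := Q) (comp Q (a, f)) v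
    have h5 := finrank_comp hp
    have h6 := finrank_comp_in (Q := Q) (U := subU Q a f v) k l
    have := hS.seven
    rw [hC] at h1
    change finrank F (perpIn Q (perpIn Q (perpIn Q (comp Q (a, f)) v) k) l) ≤ 1 at h1
    change finrank F (perpIn Q (comp Q (a, f)) v) ≤ finrank F (perpIn Q (perpIn Q (perpIn Q (comp Q (a, f)) v) k) l) + 2 at h6
    omega
  have shift : ∀ {w}, w ∈ C → w ∉ F ∙ v → w + v ∈ C ∧ w + v ∉ F ∙ v := fun {w} hw hwv =>
    ⟨C.add_mem hw hvC, fun h => hwv (by simpa using Submodule.sub_mem _ h (Submodule.mem_span_singleton_self v))⟩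
  have hadd : ∀ w ∈ C, ∀ t : F, Q (w + t • v) = Q w + t * t * Q v := fun w hw t => by
    rw [map_two, QuadraticMap.map_smul, polar_smul_right, hvperp w hw]; simp
  obtain ⟨z, hz, hzv, hQz⟩ : ∃ z ∈ C, z ∉ F ∙ v ∧ Q z ≠ 0 := by
    by_cases hQx : Q x = 0
    · exact ⟨x + v, (shift hx hxv).1, (shift hx hxv).2, by simpa [hQx] using (hadd x hx 1).trans_ne (by simpa [hQx] using hQv)⟩
    · exact ⟨x, hx, hxv, hQx⟩
  refine ⟨⟨z, good z hz hzv hQz⟩, ?_⟩
  obtain ⟨S, hSd⟩ : ∃ S, S = Submodule.span F ({z | Good Q C z} ∪ {z | z = v ∧ Nat.card F = 2}) := ⟨_, rfl⟩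
  rw [← hSd]
  have hvS : v ∈ S := by
    haveI := Fintype.ofFinite F
    by_cases h : Nat.card F = 2
    · exact hSd ▸ Submodule.subset_span (Or.inr ⟨rfl, h⟩)
    · obtain ⟨t, ht0, ht⟩ : ∃ t : F, t ≠ 0 ∧ Q z + t * t * Q v ≠ 0 := by
        classical
        by_contra! hc
        apply h
        rw [Nat.card_eq_fintype_card]
        have hle : (Finset.univ : Finset F).erase 0 ⊆ {1} := fun t ht => by
          rw [Finset.mem_erase] at ht
          rw [Finset.mem_singleton]
          have h1 := hc t ht.1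
          have h1' := hc 1 one_ne_zero
          have e : (t - 1) * (t - 1) * Q v = 0 := by linear_combination h1 - h1' + (1 - t) * Q v * h2
          simpa [sub_eq_zero, hQv] using e
        have h1 := Finset.card_le_card hle
        rw [Finset.card_erase_of_mem (Finset.mem_univ _), Finset.card_univ, Finset.card_singleton] at h1
        have := Fintype.one_lt_card (α := F)
        omega
      have hw : z + t • v ∉ F ∙ v := fun hm => hzv (by
        simpa using Submodule.sub_mem _ hm (Submodule.smul_mem _ t (Submodule.mem_span_singleton_self v)))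
      have h1 : z + t • v ∈ S := hSd ▸ Submodule.subset_span
        (Or.inl (good _ (C.add_mem hz (C.smul_mem _ hvC)) hw (by rw [hadd z hz]; exact ht)))
      have h1' : z ∈ S := hSd ▸ Submodule.subset_span (Or.inl (good z hz hzv hQz))
      have := S.sub_mem h1 h1'
      rw [add_sub_cancel_left] at this
      simpa [smul_smul, ht0] using S.smul_mem t⁻¹ this
  intro c hc
  by_cases hcv : c ∈ F ∙ v
  · obtain ⟨t, rfl⟩ := Submodule.mem_span_singleton.1 hcv
    exact S.smul_mem t hvS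
  by_cases hQc : Q c = 0
  · have h1 : c + v ∈ S := hSd ▸ Submodule.subset_span (Or.inl (good _ (shift hc hcv).1 (shift hc hcv).2 (by
      have := hadd c hc 1
      rw [one_smul, hQc, one_mul, one_mul, zero_add] at this
      rw [this]; exact hQv)))
    have := S.sub_mem h1 hvS
    rwa [add_sub_cancel_right] at this
  · exact hSd ▸ Submodule.subset_span (Or.inl (good c hc hcv hQc))

theorem nice_odd (h2 : (2 : F) ≠ 0) (h : 5 ≤ Nat.card F ∨ 8 ≤ finrank F V ∨
    ∀ k l, k ∈ subU Q a f v → l ∈ subU Q a f v → IsHPair Q (k, l) →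
      ∀ x ∈ compIn Q (subU Q a f v) k l, Q x = 0 → x = 0) : Nice Q a f v := by
  intro k l hk hl hkl
  have hC : NonDeg Q (compIn Q (subU Q a f v) k l) := fun c hc hcp => by
    obtain ⟨t, rfl⟩ := Submodule.mem_span_singleton.1 (compIn_rad hS hp hv hQv hk hl hkl hc hcp)
    have h0 := (mem_subU.1 (mem_compIn.1 hc).1).2.2
    rw [polar_smul_right, ORefl.polar_self_two, smul_eq_mul] at h0
    rw [(mul_eq_zero.1 h0).resolve_right (mul_ne_zero h2 hQv), zero_smul]
  have h3 := finrank_perpIn (Q := Q) (comp Q (a, f)) v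
  have h5 := finrank_comp hp
  have h6 := finrank_comp_in (Q := Q) (U := perpIn Q (comp Q (a, f)) v) k l
  have := hS.seven
  obtain ⟨h7, h8⟩ := span_good_odd hC h2
    (show 2 ≤ finrank F (perpIn Q (perpIn Q (perpIn Q (comp Q (a, f)) v) k) l) by omega) (by
    rcases h with h | h | h
    · exact Or.inl h
    · exact Or.inr (Or.inl (show 3 ≤ finrank F (perpIn Q (perpIn Q (perpIn Q (comp Q (a, f)) v) k) l) by omega))
    · exact Or.inr (Or.inr (h k l hk hl hkl)))
  exact ⟨h7, h8.trans (Submodule.span_mono Set.subset_union_left)⟩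

end Frame

end Cfsg.Agent.Small.OMinIndex
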