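import Cfsg.Agent.Lib.Small.OMinIndex.Anisotropic

/-!
# An annihilator with an anisotropic vector is small or everything
-/

set_option autoImplicit false
set_option linter.unusedSectionVars false

namespace Cfsg.Agent.Small.OMinIndex

open Module QuadraticMap Cfsg.Agent.Classical Cfsg.Agent.Classical.OCount

variable {F : Type*} [Field F] [Finite F] {V : Type*} [AddCommGroup V] [Module F V] [FiniteDimensional F V]
  {Q : QuadraticForm F V} {X : Type*} [MulAction (Om Q) X] [Finite X]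

/-- The numerical hypotheses on the degree for the anisotropic vectors. -/
structure AnisoBound (Q : QuadraticForm F V) (d : ℕ) : Prop where
  cls : ∀ a f : V, IsHPair Q (a, f) → ∀ c : F, c ≠ 0 →
    d ≤ 5 * compCount Q (a, f) (fun x => ∃ t : F, t ≠ 0 ∧ x = t ^ 2 * c)
  seven : Nat.card F = 3 → finrank F V = 7 → d < 360

theorem three_or_five (h2 : (2 : F) ≠ 0) : Nat.card F = 3 ∨ 5 ≤ Nat.card F := by
  haveI := Fintype.ofFinite F
  have h1 : 1 < Fintype.card F := Fintype.one_lt_card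
  have h0 := FiniteField.cast_card_eq_zero F
  rw [Nat.card_eq_fintype_card]
  by_contra! hc
  obtain h | h : Fintype.card F = 2 ∨ Fintype.card F = 4 := by omega
  · rw [h] at h0; exact h2 (by exact_mod_cast h0)
  · rw [h] at h0
    exact h2 (mul_self_eq_zero.1 (by push_cast at h0; linear_combination h0))

section Frame

variable (hS : Space Q) {a f : V} (hp : IsHPair Q (a, f))
include hS hp

theorem ns_line_or_top_comp (hd : AnisoBound Q (Nat.card X)) {x : X} {v : V} (hv : v ∈ comp Q (a, f))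
    (hQv : Q v ≠ 0) (hvx : v ∈ subB hS hp.1 x) :
    (∀ y ∈ subB hS hp.1 x, y ∈ Submodule.span F {a, v}) ∨ ∀ y, polar Q a y = 0 → y ∈ subB hS hp.1 x := by
  by_contra hcon
  push Not at hcon
  obtain ⟨⟨y, hy, hyv⟩, ⟨yt, hyt, hytn⟩⟩ := hcon
  have hne : Nonempty X := ⟨x⟩
  have c4 : ∀ w ∈ comp Q (a, f), Q w ≠ 0 → cc hS hp.1 X w ≤ 4 := fun w hw hQw =>
    cc_le_four hS hp (hd.cls a f hp) hw hQw hne
  -- the case of two nice vectors
  have htwo : ∀ {x : X} {v : V}, v ∈ comp Q (a, f) → Q v ≠ 0 → v ∈ subB hS hp.1 x → Nice Q a f v →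
      (∀ v' ∈ subU Q a f v, Q v' = 1 → Nice Q a f v') ∨ (∀ v' ∈ subU Q a f v, Q v' = -1 → Nice Q a f v') →
      ∀ y ∈ subB hS hp.1 x, y ∉ Submodule.span F {a, v} → ∀ z, polar Q a z = 0 → z ∈ subB hS hp.1 x := by
    intro x v hv hQv hvx hn hn' y hy hyv
    obtain ⟨k, hk, l, hl, hkl⟩ := exists_pair_U hS hp hv hQv
    have hkv : polar Q k v = 0 := by rw [polar_comm]; exact (mem_perpIn.1 hk).2
    obtain ⟨ε, hε, hnice⟩ : ∃ ε : F, ε ≠ 0 ∧ ∀ v' ∈ subU Q a f v, Q v' = ε → Nice Q a f v' := by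
      rcases hn' with h | h
      · exact ⟨1, one_ne_zero, h⟩
      · exact ⟨-1, neg_ne_zero.2 one_ne_zero, h⟩
    have hw : k + ε • l ∈ subU Q a f v := Submodule.add_mem _ hk (Submodule.smul_mem _ _ hl)
    have hQw : Q (k + ε • l) = ε := value_pair hkl ε
    refine top_of_nice hS hp hv hQv (c4 v hv hQv) hn hw (fun h => hε ?_) (by rw [hQw]; exact hε)
      (c4 _ (mem_perpIn.1 hw).1 (by rw [hQw]; exact hε)) (hnice _ hw hQw) hvx hy hyv
    obtain ⟨t, ht⟩ := Submodule.mem_span_singleton.1 h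
    have e := congrArg (polar Q k) ht
    rw [polar_smul_right, hkv, polar_add_right, polar_self_zero hkl.1, polar_smul_right, hkl.2.2] at e
    simpa using e.symm
  by_cases h2 : (2 : F) = 0
  · exact hytn (htwo hv hQv hvx (nice_two hS hp hv hQv h2)
      (Or.inl fun w hw hQw => nice_two hS hp (mem_perpIn.1 hw).1 (by rw [hQw]; exact one_ne_zero) h2)
      y hy hyv yt hyt)
  rcases Nat.lt_or_ge (finrank F V) 8 with hn8 | hn8
  swap
  · exact hytn (htwo hv hQv hvx (nice_odd hS hp hv hQv h2 (Or.inr (Or.inl hn8)))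
      (Or.inl fun w hw hQw => nice_odd hS hp (mem_perpIn.1 hw).1 (by rw [hQw]; exact one_ne_zero) h2
        (Or.inr (Or.inl hn8))) y hy hyv yt hyt)
  rcases three_or_five h2 with h3 | h5
  swap
  · exact hytn (htwo hv hQv hvx (nice_odd hS hp hv hQv h2 (Or.inl h5))
      (Or.inl fun w hw hQw => nice_odd hS hp (mem_perpIn.1 hw).1 (by rw [hQw]; exact one_ne_zero) h2 (Or.inl h5))
      y hy hyv yt hyt)
  -- seven dimensions over three elements
  have h7 : finrank F V = 7 := by have := hS.seven; omega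
  have hsel : ∀ w : V, (∀ v' ∈ subU Q a f w, Q v' = (1 : F) → Nice Q a f v') ∨
      ∀ v' ∈ subU Q a f w, Q v' = -1 → Nice Q a f v' := by
    intro w
    by_contra hc
    push Not at hc
    obtain ⟨⟨u, hu, hQu, hnu⟩, ⟨u', hu', hQu', hnu'⟩⟩ := hc
    exact (nice_or_neg hS hp h3 h7 h2 (mem_perpIn.1 hu).1 (mem_perpIn.1 hu').1
      (by rw [hQu]; exact one_ne_zero) (by rw [hQu', hQu])).elim hnu hnu'
  have hnn : ¬ Nice Q a f v := fun hn => hytn (htwo hv hQv hvx hn (hsel v) y hy hyv yt hyt)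
  -- `v` is not nice
  obtain ⟨k, hk, l, hl, hkl, s, hs, hs0, hQs⟩ : ∃ k ∈ subU Q a f v, ∃ l ∈ subU Q a f v, IsHPair Q (k, l) ∧
      ∃ s ∈ compIn Q (subU Q a f v) k l, s ≠ 0 ∧ Q s = 0 := by
    by_contra! hc
    exact hnn (nice_odd hS hp hv hQv h2 (Or.inr (Or.inr fun k l hk hl hkl x hx hQx => by
      by_contra hx0
      exact hc k hk l hl hkl x hx hx0 hQx)))
  have hcc : cc hS hp.1 X v ≤ 3 := by
    by_contra! hc
    have h1 := class_bound hS hp (X := X) hv hQv
    have h90 := (counts_of_hyperbolic hS hp h3 h7 hv hQv hk hl hkl hs hs0 hQs).1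
    haveI : Finite (comp Q (a, f)) := Module.finite_of_finite F
    have hle : Nat.card {w : comp Q (a, f) // res Q (a, f) w = Q v} ≤
        compCount Q (a, f) (fun x => ∃ t : F, t ≠ 0 ∧ x = t ^ 2 * Q v) :=
      Nat.card_le_card_of_injective
        (fun w => ⟨w.1, fun e => hQv (by rw [← w.2, e, QuadraticMap.map_zero]), 1, one_ne_zero,
          by rw [one_pow, one_mul]; exact w.2⟩) fun w w' e => Subtype.ext (congrArg (fun z => z.1) e)
    haveI : Nonempty (Orb hS hp.1 X) := hne.map (orb hS hp.1)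
    have h4 : 0 < Nat.card (Orb hS hp.1 X) := Nat.card_pos
    have h5 := Nat.mul_le_mul hc (le_trans h90 hle)
    have := hd.seven h3 h7
    omega
  -- values in an annihilator through `v` that is not everything
  have hval : ∀ (z : X), v ∈ subB hS hp.1 z → ¬ (∀ w, polar Q a w = 0 → w ∈ subB hS hp.1 z) →
      ∀ w ∈ comp Q (a, f), w ∈ subB hS hp.1 z → Q w = 0 ∨ Q w = Q v := by
    intro z hvz hnt w hw hwz
    rcases value_three hS h3 (x := Q w) hQv with h | h | h
    · exact Or.inl h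
    · exact Or.inr h
    have hQw : Q w ≠ 0 := by rw [h]; exact neg_ne_zero.2 hQv
    refine absurd (htwo hw hQw hwz ((nice_or_neg hS hp h3 h7 h2 hv hw hQv h).resolve_left hnn) (hsel w) v hvz ?_) hnt
    intro hm
    obtain ⟨p, t, e⟩ := Submodule.mem_span_pair.1 hm
    have hpa : p • a = 0 := eq_zero_of_comp_line hp (by
      rw [show p • a = v - t • w by rw [← e]; abel]
      exact Submodule.sub_mem _ hv (Submodule.smul_mem _ _ hw))
      (Submodule.smul_mem _ _ (Submodule.mem_span_singleton_self a))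
    rw [hpa, zero_add] at e
    have e1 := congrArg Q e
    rw [QuadraticMap.map_smul, h, smul_eq_mul] at e1
    rcases value_three hS h3 (x := t) one_ne_zero with rfl | rfl | rfl
    · rw [mul_zero, zero_mul] at e1; exact hQv e1.symm
    all_goals exact mul_ne_zero h2 hQv (by linear_combination -e1)
  -- a singular vector orthogonal to `v`
  have hnt : ¬ ∀ w, polar Q a w = 0 → w ∈ subB hS hp.1 x := fun h => hytn (h yt hyt)
  have hx1 := hval x hvx hnt
  have hadd : ∀ {p q : V}, p ∈ comp Q (a, f) ∧ p ∈ subB hS hp.1 x → q ∈ comp Q (a, f) ∧ q ∈ subB hS hp.1 x →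
      p + q ∈ comp Q (a, f) ∧ p + q ∈ subB hS hp.1 x :=
    fun h h' => ⟨Submodule.add_mem _ h.1 h'.1, (subB hS hp.1 x).add_mem h.2 h'.2⟩
  have e3 : (3 : F) = 0 := by
    haveI := Fintype.ofFinite F
    have h0 := FiniteField.cast_card_eq_zero F
    rw [← Nat.card_eq_fintype_card, h3] at h0
    exact_mod_cast h0
  obtain ⟨s₀, hs₀, hs₀x, hs₀0, hQs₀⟩ : ∃ s₀ ∈ subU Q a f v, s₀ ∈ subB hS hp.1 x ∧ s₀ ≠ 0 ∧ Q s₀ = 0 := by
    obtain ⟨w, hw⟩ : ∃ w, w = y - polar Q f y • a := ⟨_, rfl⟩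
    have hwm : w ∈ comp Q (a, f) ∧ w ∈ subB hS hp.1 x :=
      hw ▸ ⟨proj_mem hp (subB_perp hS hp.1 hy), proj_mem_subB hS hp hy⟩
    have hvm : v ∈ comp Q (a, f) ∧ v ∈ subB hS hp.1 x := ⟨hv, hvx⟩
    have hwn : -w ∈ comp Q (a, f) ∧ -w ∈ subB hS hp.1 x :=
      ⟨Submodule.neg_mem _ hwm.1, (subB hS hp.1 x).neg_mem hwm.2⟩
    have hwv : ∀ t : F, w ≠ t • v := fun t e =>
      hyv (Submodule.mem_span_pair.2 ⟨polar Q f y, t, by rw [← e, hw]; abel⟩)
    have p1 := hadd hvm hwm
    have p2 := hadd hvm hwn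
    have v1 := hx1 _ p1.1 p1.2
    have v2 := hx1 _ p2.1 p2.2
    rw [map_two] at v1
    rw [map_two, QuadraticMap.map_neg, polar_neg_right] at v2
    have pick : ∀ {s : V}, s ∈ comp Q (a, f) ∧ s ∈ subB hS hp.1 x → s ≠ 0 → Q s = 0 → polar Q v s = 0 →
        ∃ s₀ ∈ subU Q a f v, s₀ ∈ subB hS hp.1 x ∧ s₀ ≠ 0 ∧ Q s₀ = 0 :=
      fun {s} h1 h2 h3 h4 => ⟨s, mem_perpIn.2 ⟨h1.1, h4⟩, h1.2, h2, h3⟩
    rcases hx1 w hwm.1 hwm.2 with h0 | h0 <;> rw [h0] at v1 v2
    · refine pick hwm (fun e => hwv 0 (by rw [e, zero_smul])) h0 ?_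
      rcases v1 with v1 | v1
      · rcases v2 with v2 | v2
        · exact absurd (by linear_combination v1 + v2 : (2 : F) * Q v = 0) (mul_ne_zero h2 hQv)
        · linear_combination -v2
      · linear_combination v1
    · rcases v1 with v1 | v1
      · refine pick p1 (fun e => hwv (-1) (by rw [neg_one_smul, eq_neg_iff_add_eq_zero, add_comm]; exact e)) ?_ ?_
        · rw [map_two, h0]; exact v1
        · rw [polar_add_right, ORefl.polar_self_two]
          linear_combination v1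
      · refine pick p2 (fun e => hwv 1 (by rw [one_smul, eq_comm, ← add_neg_eq_zero]; exact e)) ?_ ?_
        · rw [map_two, QuadraticMap.map_neg, h0, polar_neg_right]
          linear_combination -v1 + (Q v) * e3
        · rw [polar_add_right, polar_neg_right, ORefl.polar_self_two]
          linear_combination -v1 + (Q v) * e3
  -- four pairwise non-orthogonal points
  obtain ⟨hsU, hsk, hsl⟩ := mem_compIn.1 hs
  obtain ⟨s', hs', hss⟩ := exists_partner_in hs hQs (by
    by_contra! hc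
    obtain ⟨c, rfl⟩ := Submodule.mem_span_singleton.1 (compIn_rad hS hp hv hQv hk hl hkl hs hc)
    rw [QuadraticMap.map_smul, smul_eq_mul, mul_eq_zero, or_iff_left hQv, mul_self_eq_zero] at hQs
    exact hs0 (by rw [hQs, zero_smul]))
  obtain ⟨hs'U, hs'k, hs'l⟩ := mem_compIn.1 hs'
  obtain ⟨hQk, hQl, hkl1⟩ := hkl
  obtain ⟨hQs1, hQs', hss1⟩ := hss
  change Q k = 0 at hQk
  change Q l = 0 at hQl
  change polar Q k l = 1 at hkl1
  change Q s' = 0 at hQs'
  change polar Q s s' = 1 at hss1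
  obtain ⟨P, hP⟩ : ∃ P : Fin 4 → V, P = ![k, l, k + l + (s - s'), k + l - (s - s')] := ⟨_, rfl⟩
  have hPU : ∀ i, P i ∈ subU Q a f v := by
    have h1 := Submodule.add_mem _ hk hl
    have h2 := Submodule.sub_mem _ hsU hs'U
    intro i
    rw [hP]
    fin_cases i
    exacts [hk, hl, Submodule.add_mem _ h1 h2, Submodule.sub_mem _ h1 h2]
  have q1 : polar Q l k = 1 := by rw [polar_comm, hkl1]
  have q2 : polar Q s k = 0 := by rw [polar_comm, hsk]
  have q3 : polar Q s l = 0 := by rw [polar_comm, hsl]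
  have q4 : polar Q s' k = 0 := by rw [polar_comm, hs'k]
  have q5 : polar Q s' l = 0 := by rw [polar_comm, hs'l]
  have q6 : polar Q s' s = 1 := by rw [polar_comm, hss1]
  have hPQ : ∀ i, Q (P i) = 0 := by
    intro i
    rw [hP]
    fin_cases i <;>
      simp [map_two, ORefl.map_sub_two, polar_add_left, polar_add_right, polar_sub_left, polar_sub_right, hQk, hQl,
        hkl1, hQs, hQs', hss1, hsk, hsl, hs'k, hs'l]
  have hPp : ∀ i j, i ≠ j → polar Q (P i) (P j) ≠ 0 := by
    intro i j hij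
    rw [hP]
    fin_cases i <;> fin_cases j <;> simp at hij <;>
      simp [polar_add_left, polar_add_right, polar_sub_left, polar_sub_right, polar_self_zero hQk,
        polar_self_zero hQl, polar_self_zero hQs, polar_self_zero hQs', hkl1, hss1, q1, q2, q3, q4, q5, q6, hsk, hsl,
        hs'k, hs'l]
    all_goals
      intro e
      exact one_ne_zero (α := F) (by linear_combination e - e3)
  have hUn : NonDeg Q (subU Q a f v) := fun u hu h => by
    obtain ⟨t, rfl⟩ := Submodule.mem_span_singleton.1 (mem_span_of_perp hS hp (mem_perpIn.1 hu).1 h hv)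
    have h0 := (mem_perpIn.1 hu).2
    rw [polar_smul_right, ORefl.polar_self_two, smul_eq_mul] at h0
    rw [(mul_eq_zero.1 h0).resolve_right (mul_ne_zero h2 hQv), zero_smul]
  have hU3 : 3 ≤ finrank F (subU Q a f v) := by
    have h1 := finrank_perpIn (Q := Q) (comp Q (a, f)) v
    have h2 := finrank_comp hp
    change 3 ≤ finrank F (perpIn Q (comp Q (a, f)) v)
    omega
  have hex : ∀ i, ∃ o : {o : Orb hS hp.1 X // v ∈ orbB hS hp.1 o},
      ¬ (∀ w, polar Q a w = 0 → w ∈ orbB hS hp.1 o.1) ∧ ∃ t : F, t ≠ 0 ∧ t • P i ∈ orbB hS hp.1 o.1 := by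
    intro i
    have hi0 : P i ≠ 0 := fun e => by
      obtain ⟨j, hj⟩ : ∃ j, i ≠ j := exists_ne i |>.imp fun _ h => h.symm
      exact hPp i j hj (by rw [e, polar_zero_left])
    obtain ⟨g, t, ht, hgt, hfix⟩ := exists_move_point hS hUn hU3 hs₀ (hPU i) hs₀0 hi0 hQs₀ (hPQ i)
    have hga : g • a = a := hfix a fun u hu => by rw [polar_comm]; exact (mem_subU.1 hu).1
    have hgv : g • v = v := hfix v fun u hu => by rw [polar_comm]; exact (mem_subU.1 hu).2.2
    have hmv : ∀ w, g • w ∈ subB hS hp.1 (g • x) ↔ w ∈ subB hS hp.1 x := fun w => by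
      have := mem_subB_move hS hp.1 g one_ne_zero (by rw [one_smul]; exact hga) x (v := w)
      rwa [inv_one, one_smul] at this
    refine ⟨⟨orb hS hp.1 (g • x), ?_⟩, fun htop => hnt fun w hw => (hmv w).1 (htop _ ?_), t, ht, ?_⟩
    · rw [orbB_mk, ← hgv]; exact (hmv v).2 hvx
    · rw [← hga, polar_smul, hw]
    · rw [orbB_mk, ← hgt]; exact (hmv s₀).2 hs₀x
  choose φ hφ t ht htP using hex
  have hni : ¬ Function.Injective φ := fun hi => by
    have := Nat.card_le_card_of_injective φ hi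
    rw [Nat.card_eq_fintype_card, Fintype.card_fin] at this
    exact absurd (le_trans this hcc) (by norm_num)
  obtain ⟨i, j, hij, hne'⟩ := Function.not_injective_iff.1 hni
  obtain ⟨z, hz⟩ := Quotient.exists_rep (φ i).1
  have hvz : v ∈ subB hS hp.1 z := by rw [← orbB_mk, orb, hz]; exact (φ i).2
  have hzt : ¬ ∀ w, polar Q a w = 0 → w ∈ subB hS hp.1 z := by rw [← orbB_mk, orb, hz]; exact hφ i
  obtain ⟨u, hu⟩ : ∃ u, u = t i • P i + t j • P j := ⟨_, rfl⟩
  have huz : u ∈ subB hS hp.1 z := by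
    rw [hu, ← orbB_mk, orb, hz]
    refine AddSubgroup.add_mem _ (htP i) ?_
    rw [hij]
    exact htP j
  have huU : u ∈ subU Q a f v :=
    hu ▸ Submodule.add_mem _ (Submodule.smul_mem _ _ (hPU i)) (Submodule.smul_mem _ _ (hPU j))
  obtain ⟨huW, hvu⟩ := mem_perpIn.1 huU
  have hQu : Q u ≠ 0 := by
    rw [hu, map_two, QuadraticMap.map_smul, QuadraticMap.map_smul, hPQ, hPQ, polar_smul_left, polar_smul_right]
    simp [ht i, ht j, hPp i j hne']
  rcases hval z hvz hzt u huW huz with h | h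
  · exact hQu h
  rcases hval z hvz hzt (v + u) (Submodule.add_mem _ hv huW) ((subB hS hp.1 z).add_mem hvz huz) with h' | h'
  · rw [map_two, h, hvu] at h'
    exact mul_ne_zero h2 hQv (by linear_combination h')
  · rw [map_two, h, hvu] at h'
    exact hQv (by linear_combination h')

/-- An annihilator with an anisotropic vector lies in a plane through `a` or is everything. -/
theorem ns_line_or_top (hd : AnisoBound Q (Nat.card X)) {x : X} {v : V} (hQv : Q v ≠ 0)
    (hvx : v ∈ subB hS hp.1 x) :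
    (∀ y ∈ subB hS hp.1 x, y ∈ Submodule.span F {a, v}) ∨ ∀ y, polar Q a y = 0 → y ∈ subB hS hp.1 x := by
  have hva := subB_perp hS hp.1 hvx
  rcases ns_line_or_top_comp hS hp hd (x := x) (proj_mem hp hva)
    (by rw [sub_eq_add_neg, ← neg_smul, form_add_line hp hva]; exact hQv) (proj_mem_subB hS hp hvx) with h | h
  · refine Or.inl fun y hy => ?_
    obtain ⟨s, t, e⟩ := Submodule.mem_span_pair.1 (h y hy)
    exact Submodule.mem_span_pair.2 ⟨s - t * polar Q f v, t, by rw [← e]; module⟩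
  · exact Or.inr h

end Frame

end Cfsg.Agent.Small.OMinIndex
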