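import Cfsg.Agent.Lib.Small.OMinIndex.Classes

/-!
# Annihilators with an anisotropic vector

Such an annihilator is contained in a plane through `a` or is the whole of `a^⊥`.
-/

set_option autoImplicit false
set_option linter.unusedSectionVars false

namespace Cfsg.Agent.Small.OMinIndex

open Module QuadraticMap Cfsg.Agent.Classical Cfsg.Agent.Classical.OCount

variable {F : Type*} [Field F] [Finite F] {V : Type*} [AddCommGroup V] [Module F V] [FiniteDimensional F V]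
  {Q : QuadraticForm F V} {X : Type*} [MulAction (Om Q) X] [Finite X]

section Frame

variable (hS : Space Q) {a f : V} (hp : IsHPair Q (a, f))
include hS hp

theorem cc_le_four (h5 : ∀ c : F, c ≠ 0 → Nat.card X ≤ 5 * compCount Q (a, f) (fun x => ∃ t : F, t ≠ 0 ∧ x = t ^ 2 * c))
    {v : V} (hv : v ∈ comp Q (a, f)) (hQv : Q v ≠ 0) (hne : Nonempty X) : cc hS hp.1 X v ≤ 4 := by
  by_contra! hc
  have h1 := class_bound hS hp (X := X) hv hQv
  have h2 := h5 (Q v) hQv
  haveI : Nonempty (Orb hS hp.1 X) := hne.map (orb hS hp.1)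
  have h3 : 0 < Nat.card (Orb hS hp.1 X) := Nat.card_pos
  have h4 := Nat.mul_le_mul_right (compCount Q (a, f) (fun x => ∃ t : F, t ≠ 0 ∧ x = t ^ 2 * Q v)) hc
  omega

theorem proj_mem_subB {x : X} {y : V} (hy : y ∈ subB hS hp.1 x) : y - polar Q f y • a ∈ subB hS hp.1 x :=
  (subB hS hp.1 x).sub_mem hy (line_le_subB hS hp.1 x _)

theorem subU_mem_subB {v : V} (hv : v ∈ comp Q (a, f)) (hQv : Q v ≠ 0) (hc : cc hS hp.1 X v ≤ 4)
    (hn : Nice Q a f v) {x : X} (hvx : v ∈ subB hS hp.1 x) {y : V} (hy : y ∈ subB hS hp.1 x)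
    (hyv : y ∉ Submodule.span F {a, v}) : ∀ u ∈ subU Q a f v, u ∈ subB hS hp.1 x :=
  subU_le_of_invariant hS hp hv hQv hn hvx (line_le_subB hS hp.1 x)
    (fun _ hg _ hy => goodGroup_invariant hS hp hv hc hvx hg hy) hy (subB_perp hS hp.1 hy) hyv

theorem top_of_two {v v' : V} (hvne : v ≠ 0) (hv : v ∈ comp Q (a, f)) (hv' : v' ∈ subU Q a f v) (hne : v' ∉ F ∙ v) (hQv : Q v' ≠ 0)
    {B : AddSubgroup V} (hBa : ∀ t : F, t • a ∈ B) (h1 : ∀ u ∈ subU Q a f v, u ∈ B)
    (h2 : ∀ u ∈ subU Q a f v', u ∈ B) : ∀ y, polar Q a y = 0 → y ∈ B := by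
  have hv0 : v ∈ F ∙ v' → v = 0 := fun h => by
    obtain ⟨t, ht⟩ := Submodule.mem_span_singleton.1 h
    rcases eq_or_ne t 0 with rfl | ht0
    · rw [← ht, zero_smul]
    · exact absurd (Submodule.mem_span_singleton.2 ⟨t⁻¹, by rw [← ht, smul_smul, inv_mul_cancel₀ ht0, one_smul]⟩) hne
  obtain ⟨u, hu, hvu⟩ : ∃ u ∈ subU Q a f v', polar Q v u ≠ 0 := by
    by_contra! hc
    exact hvne (hv0 (mem_span_of_perp hS hp hv hc (mem_perpIn.1 hv').1))
  intro y hy
  obtain ⟨w, hw⟩ : ∃ w, w = y - polar Q f y • a := ⟨_, rfl⟩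
  have hwW : w ∈ comp Q (a, f) := hw ▸ proj_mem hp hy
  have huW := (mem_perpIn.1 hu).1
  obtain ⟨c, hc⟩ : ∃ c, c = polar Q v w / polar Q v u := ⟨_, rfl⟩
  have h3 : w - c • u ∈ B := h1 _ (mem_perpIn.2 ⟨Submodule.sub_mem _ hwW (Submodule.smul_mem _ _ huW), by
    rw [polar_sub_right, polar_smul_right, smul_eq_mul, hc, div_mul_cancel₀ _ hvu, sub_self]⟩)
  have h4 : c • u ∈ B := h2 _ (Submodule.smul_mem _ _ hu)
  have h5 := B.add_mem (B.add_mem h3 h4) (hBa (polar Q f y))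
  rwa [sub_add_cancel, hw, sub_add_cancel] at h5

/-- The conclusion for `v` given a second nice vector. -/
theorem top_of_nice {v v' : V} (hv : v ∈ comp Q (a, f)) (hQv : Q v ≠ 0) (hc : cc hS hp.1 X v ≤ 4)
    (hn : Nice Q a f v) (hv' : v' ∈ subU Q a f v) (hne : v' ∉ F ∙ v) (hQv' : Q v' ≠ 0)
    (hc' : cc hS hp.1 X v' ≤ 4) (hn' : Nice Q a f v') {x : X} (hvx : v ∈ subB hS hp.1 x) {y : V}
    (hy : y ∈ subB hS hp.1 x) (hyv : y ∉ Submodule.span F {a, v}) :
    ∀ z, polar Q a z = 0 → z ∈ subB hS hp.1 x := by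
  have h1 := subU_mem_subB hS hp hv hQv hc hn hvx hy hyv
  have hv'W := (mem_perpIn.1 hv').1
  refine top_of_two hS hp (fun e => hQv (by rw [e, QuadraticMap.map_zero])) hv hv' hne hQv' (line_le_subB hS hp.1 x) h1
    (subU_mem_subB hS hp hv'W hQv' hc' hn' (h1 v' hv') hvx fun h => ?_)
  obtain ⟨s, t, e⟩ := Submodule.mem_span_pair.1 h
  have hs : s • a = 0 := eq_zero_of_comp_line hp (by
    rw [show s • a = v - t • v' by rw [← e]; abel]
    exact Submodule.sub_mem _ hv (Submodule.smul_mem _ _ hv'W)) (Submodule.smul_mem _ _ (Submodule.mem_span_singleton_self a))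
  rw [hs, zero_add] at e
  rcases eq_or_ne t 0 with rfl | ht
  · rw [zero_smul] at e
    exact hQv (by rw [← e, QuadraticMap.map_zero])
  · exact hne (Submodule.mem_span_singleton.2 ⟨t⁻¹, by rw [← e, smul_smul, inv_mul_cancel₀ ht, one_smul]⟩)

/-! ### Seven dimensions over three elements -/

omit hp in
theorem value_three (h3 : Nat.card F = 3) {x ν : F} (hν : ν ≠ 0) : x = 0 ∨ x = ν ∨ x = -ν := by
  classical
  haveI := Fintype.ofFinite F
  have h3' : Fintype.card F = 3 := by rwa [← Nat.card_eq_fintype_card]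
  rcases eq_or_ne x 0 with rfl | hx
  · exact Or.inl rfl
  have h1 : ∀ s : F, s ≠ 0 → s * s = 1 := fun s hs => by
    have := FiniteField.pow_card_sub_one_eq_one s hs
    rwa [h3', show (3 - 1 : ℕ) = 2 from rfl, _root_.sq] at this
  refine Or.inr (mul_self_eq_mul_self_iff.1 ?_)
  rw [h1 x hx, h1 ν hν]

/-- The counts in the five space when `v^⊥` is hyperbolic. -/
theorem counts_of_hyperbolic (h3 : Nat.card F = 3) (h7 : finrank F V = 7) {v k l : V} (hv : v ∈ comp Q (a, f))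
    (hQv : Q v ≠ 0) (hk : k ∈ subU Q a f v) (hl : l ∈ subU Q a f v) (hkl : IsHPair Q (k, l)) {s : V}
    (hs : s ∈ compIn Q (subU Q a f v) k l) (hs0 : s ≠ 0) (hQs : Q s = 0) :
    90 ≤ Nat.card {w : comp Q (a, f) // res Q (a, f) w = Q v} ∧
      81 ≤ Nat.card {w : comp Q (a, f) // res Q (a, f) w = 0} := by
  haveI := Fintype.ofFinite F
  have h3' : Fintype.card F = 3 := by rwa [← Nat.card_eq_fintype_card]
  obtain ⟨k', hk'⟩ : ∃ k' : comp Q (a, f), (k' : V) = k := ⟨⟨k, (mem_perpIn.1 hk).1⟩, rfl⟩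
  obtain ⟨l', hl'⟩ : ∃ l' : comp Q (a, f), (l' : V) = l := ⟨⟨l, (mem_perpIn.1 hl).1⟩, rfl⟩
  obtain ⟨hsU, hsk, hsl⟩ := mem_compIn.1 hs
  obtain ⟨hkU1, hkU2, hkv⟩ := mem_subU.1 hk
  obtain ⟨hlU1, hlU2, hlv⟩ := mem_subU.1 hl
  obtain ⟨s', hs'⟩ : ∃ s' : comp Q (a, f), (s' : V) = s := ⟨⟨s, (mem_perpIn.1 hsU).1⟩, rfl⟩
  obtain ⟨v', hv'⟩ : ∃ v' : comp Q (a, f), (v' : V) = v := ⟨⟨v, hv⟩, rfl⟩
  have hp1 : IsHPair (res Q (a, f)) (k', l') := by
    refine ⟨?_, ?_, ?_⟩
    · show Q (k' : V) = 0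
      rw [hk']; exact hkl.1
    · show Q (l' : V) = 0
      rw [hl']; exact hkl.2.1
    · show polar Q (k' : V) (l' : V) = 1
      rw [hk', hl']; exact hkl.2.2
  have hR := res_pnd (res_pnd hS.pnd hp) hp1
  obtain ⟨s₁, hs₁⟩ : ∃ s₁ : comp (res Q (a, f)) (k', l'), ((s₁ : comp Q (a, f)) : V) = s :=
    ⟨⟨s', mem_comp.2 ⟨show polar Q (k' : V) (s' : V) = 0 by rw [hk', hs']; exact hsk,
      show polar Q (l' : V) (s' : V) = 0 by rw [hl', hs']; exact hsl⟩⟩, hs'⟩
  obtain ⟨v₁, hv₁⟩ : ∃ v₁ : comp (res Q (a, f)) (k', l'), ((v₁ : comp Q (a, f)) : V) = v :=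
    ⟨⟨v', mem_comp.2 ⟨show polar Q (k' : V) (v' : V) = 0 by rw [hk', hv', polar_comm]; exact hkv,
      show polar Q (l' : V) (v' : V) = 0 by rw [hl', hv', polar_comm]; exact hlv⟩⟩, hv'⟩
  have hs₁0 : s₁ ≠ 0 := fun e => hs0 (by rw [← hs₁, e]; rfl)
  have hQs₁ : res (res Q (a, f)) (k', l') s₁ = 0 := by
    show Q ((s₁ : comp Q (a, f)) : V) = 0
    rw [hs₁, hQs]
  obtain ⟨y, hy, hy1⟩ : ∃ y : comp (res Q (a, f)) (k', l'), polar (res (res Q (a, f)) (k', l')) v₁ y = 0 ∧
      polar (res (res Q (a, f)) (k', l')) s₁ y = 1 := by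
    obtain ⟨y, hy1, hy2⟩ := ORefl.exists_polar_sep hR (H := F ∙ v₁) (x := s₁) (fun hm => by
      obtain ⟨c, hc⟩ := Submodule.mem_span_singleton.1 hm
      have e : res (res Q (a, f)) (k', l') s₁ = c * c * Q v := by
        rw [← hc, QuadraticMap.map_smul, smul_eq_mul]
        exact congrArg (fun z => c * c * Q z) hv₁
      rw [hQs₁, eq_comm, mul_eq_zero, or_iff_left hQv, mul_self_eq_zero] at e
      exact hs₁0 (by rw [← hc, e, zero_smul])) 1
    exact ⟨y, by rw [polar_comm]; exact hy1 v₁ (Submodule.mem_span_singleton_self _),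
      by rw [polar_comm]; exact hy2⟩
  have hsv : polar (res (res Q (a, f)) (k', l')) v₁ s₁ = 0 := by
    show polar Q ((v₁ : comp Q (a, f)) : V) ((s₁ : comp Q (a, f)) : V) = 0
    rw [hs₁, hv₁]
    exact (mem_subU.1 hsU).2.2
  obtain ⟨y', hy'⟩ : ∃ y', y' = y - res (res Q (a, f)) (k', l') y • s₁ := ⟨_, rfl⟩
  have hp2 : IsHPair (res (res Q (a, f)) (k', l')) (s₁, y') := by
    refine ⟨hQs₁, ?_, ?_⟩
    · show res (res Q (a, f)) (k', l') y' = 0
      rw [hy', ORefl.map_sub_two, QuadraticMap.map_smul, hQs₁, polar_smul_right,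
        polar_comm (res (res Q (a, f)) (k', l')) y s₁, hy1]
      simp
    · show polar (res (res Q (a, f)) (k', l')) s₁ y' = 1
      rw [hy', polar_sub_right, hy1, polar_smul_right, polar_self_zero hQs₁, smul_zero, sub_zero]
  have hv₂ : v₁ ∈ comp (res (res Q (a, f)) (k', l')) (s₁, y') := mem_comp.2 ⟨by rw [polar_comm]; exact hsv, by
    show polar (res (res Q (a, f)) (k', l')) y' v₁ = 0
    rw [hy', polar_sub_left, polar_smul_left, polar_comm (res (res Q (a, f)) (k', l')) s₁ v₁, hsv, polar_comm]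
    simpa using hy⟩
  have d0 := finrank_comp hp
  have d1 := finrank_comp hp1
  have d2 := finrank_comp hp2
  haveI : Finite (comp (res (res Q (a, f)) (k', l')) (s₁, y')) := Module.finite_of_finite F
  obtain ⟨v₂, hv₂'⟩ : ∃ v₂ : comp (res (res Q (a, f)) (k', l')) (s₁, y'), (v₂ : comp (res Q (a, f)) (k', l')) = v₁ :=
    ⟨⟨v₁, hv₂⟩, rfl⟩
  have hQv₁ : res (res (res Q (a, f)) (k', l')) (s₁, y') v₂ = Q v := by
    rw [res_apply, hv₂']; exact congrArg Q hv₁
  have c1 : 2 ≤ Nat.card {w // res (res (res Q (a, f)) (k', l')) (s₁, y') w = Q v} := by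
    refine Finite.one_lt_card_iff_nontrivial.2 ⟨⟨v₂, hQv₁⟩, ⟨-v₂, by rw [← hQv₁]; simp only [res_apply, Submodule.coe_neg, QuadraticMap.map_neg]⟩, ?_⟩
    intro e
    have e1 :=
      congrArg (fun w : {w // res (res (res Q (a, f)) (k', l')) (s₁, y') w = Q v} =>
        (((w.1 : comp (res Q (a, f)) (k', l')) : comp Q (a, f)) : V)) e
    simp only [Submodule.coe_neg, hv₂', hv₁] at e1
    haveI : CharP F 3 := charP_of_card_eq_prime (p := 3) h3'
    have h2 : (2 : F) ≠ 0 := fun e2 => by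
      have : ((3 : ℕ) : F) = 0 := CharP.cast_eq_zero F 3
      exact one_ne_zero (α := F) (by push_cast at this; linear_combination this - e2)
    exact hQv (by rw [OOmega.neg_fixed_free h2 e1.symm, QuadraticMap.map_zero])
  have c2 : 1 ≤ Nat.card {w // res (res (res Q (a, f)) (k', l')) (s₁, y') w = 0} := by
    haveI : Nonempty {w // res (res (res Q (a, f)) (k', l')) (s₁, y') w = 0} := ⟨⟨0, QuadraticMap.map_zero _⟩⟩
    exact Nat.card_pos
  have r2 : finrank F (comp (res (res Q (a, f)) (k', l')) (s₁, y')) = 1 := by omega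
  have r1 : finrank F (comp (res Q (a, f)) (k', l')) = 3 := by omega
  constructor
  · have e1 := card_value hp1 (Q v)
    have e2 := card_value hp2 (Q v)
    rw [r1, h3'] at e1
    rw [r2, h3'] at e2
    omega
  · have e1 := card_value hp1 0
    have e2 := card_value hp2 0
    rw [r1, h3'] at e1
    rw [r2, h3'] at e2
    omega

/-- Of two vectors with opposite values one is nice. -/
theorem nice_or_neg (h3 : Nat.card F = 3) (h7 : finrank F V = 7) (h2 : (2 : F) ≠ 0) {v w : V}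
    (hv : v ∈ comp Q (a, f)) (hw : w ∈ comp Q (a, f)) (hQv : Q v ≠ 0) (hQw : Q w = -Q v) :
    Nice Q a f v ∨ Nice Q a f w := by
  by_contra! hc
  have hQw' : Q w ≠ 0 := by rw [hQw]; exact neg_ne_zero.2 hQv
  have get : ∀ {v}, v ∈ comp Q (a, f) → Q v ≠ 0 → ¬ Nice Q a f v →
      90 ≤ Nat.card {w : comp Q (a, f) // res Q (a, f) w = Q v} ∧
        81 ≤ Nat.card {w : comp Q (a, f) // res Q (a, f) w = 0} := fun {v} hv hQv hn => by
    by_contra hcount
    refine hn (nice_odd hS hp hv hQv h2 (Or.inr (Or.inr fun k l hk hl hkl x hx hQx => ?_)))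
    by_contra hx0
    exact hcount (counts_of_hyperbolic hS hp h3 h7 hv hQv hk hl hkl hx hx0 hQx)
  obtain ⟨a1, a0⟩ := get hv hQv hc.1
  obtain ⟨b1, -⟩ := get hw hQw' hc.2
  rw [hQw] at b1
  classical
  haveI : Finite (comp Q (a, f)) := Module.finite_of_finite F
  haveI := Fintype.ofFinite (comp Q (a, f))
  have hd := finrank_comp hp
  have htot : Nat.card (comp Q (a, f)) = 243 := by
    rw [natCard_eq_pow_finrank (K := F), h3, show finrank F (comp Q (a, f)) = 5 by omega]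
    norm_num
  rw [Nat.card_eq_fintype_card, Fintype.card_subtype] at a1 a0 b1
  rw [Nat.card_eq_fintype_card] at htot
  have hd1 : Disjoint (Finset.univ.filter fun x : comp Q (a, f) => res Q (a, f) x = Q v)
      (Finset.univ.filter fun x : comp Q (a, f) => res Q (a, f) x = -Q v) :=
    Finset.disjoint_filter.2 fun x _ e1 e2 => mul_ne_zero h2 hQv (by rw [e1] at e2; linear_combination e2)
  have hd2 : Disjoint ((Finset.univ.filter fun x : comp Q (a, f) => res Q (a, f) x = Q v) ∪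
      (Finset.univ.filter fun x : comp Q (a, f) => res Q (a, f) x = -Q v))
      (Finset.univ.filter fun x : comp Q (a, f) => res Q (a, f) x = 0) := by
    rw [Finset.disjoint_union_left]
    exact ⟨Finset.disjoint_filter.2 fun x _ e1 e2 => hQv (e1.symm.trans e2),
      Finset.disjoint_filter.2 fun x _ e1 e2 => neg_ne_zero.2 hQv (e1.symm.trans e2)⟩
  have hle := Finset.card_le_univ (((Finset.univ.filter fun x : comp Q (a, f) => res Q (a, f) x = Q v) ∪
      (Finset.univ.filter fun x : comp Q (a, f) => res Q (a, f) x = -Q v)) ∪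
      (Finset.univ.filter fun x : comp Q (a, f) => res Q (a, f) x = 0))
  rw [Finset.card_union_of_disjoint hd2, Finset.card_union_of_disjoint hd1] at hle
  omega

end Frame

end Cfsg.Agent.Small.OMinIndex
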