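import Cfsg.Agent.Lib.Classical.OrthRoot
import Cfsg.Agent.Lib.Classical.OrthCenter
import Cfsg.Agent.Lib.Small.QuadBasis

/-!
# The orthogonal group `Ω` through its Siegel elements

The derived group of the isometry group of a quadratic space of dimension at least seven over a finite
field, its Siegel elements `E a w` and the products of reflections lying in it.
-/

set_option autoImplicit false
set_option linter.unusedSectionVars false

namespace Cfsg.Agent.Small.OMinIndex

open Module QuadraticMap Cfsg.Agent.Classical Cfsg.Agent.Classical.OCount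

variable {F : Type*} [Field F] [Finite F] {V : Type*} [AddCommGroup V] [Module F V] [FiniteDimensional F V]
  {Q : QuadraticForm F V}

/-- The spaces considered. -/
structure Space (Q : QuadraticForm F V) : Prop where
  pnd : PND Q
  seven : 7 ≤ finrank F V

/-- The group `Ω(Q)`. -/
abbrev Om (Q : QuadraticForm F V) := ↥(OOmega.rootGroup Q)

theorem smul_def (g : Om Q) (v : V) : g • v = g.1.1 v := rfl

theorem smul_scalar (g : Om Q) (t : F) (v : V) : g • (t • v) = t • g • v := map_smul g.1.1 t v

theorem form_smul (g : Om Q) (v : V) : Q (g • v) = Q v := g.1.2 v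

theorem polar_smul (g : Om Q) (v w : V) : polar Q (g • v) (g • w) = polar Q v w := ORefl.polar_iso g.1.2 v w

theorem om_ext {g h : Om Q} (e : ∀ v : V, g • v = h • v) : g = h :=
  Subtype.ext (Subtype.ext (LinearEquiv.ext e))

theorem smul_inj (g : Om Q) {v w : V} (h : g • v = g • w) : v = w := MulAction.injective g h

theorem smul_zero' (g : Om Q) : g • (0 : V) = 0 := map_zero g.1.1

theorem two_eq_zero_polar (h2 : (2 : F) = 0) (x : V) : polar Q x x = 0 := by
  rw [ORefl.polar_self_two, h2, zero_mul]

namespace Space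

variable (hS : Space Q)
include hS

theorem card_ne : Nat.card F ≠ 2 ∨ finrank F V ≠ 4 := Or.inr (by have := hS.seven; omega)

theorem exists_pair_in : ∃ p : V × V, IsHPair Q p ∧ ∃ r : comp Q p × comp Q p, IsHPair (res Q p) r := by
  haveI := Fintype.ofFinite F
  obtain ⟨x, -, hx0, hx⟩ := QuadBasis.exists_singular Q (W := (⊤ : Submodule F V))
    (by rw [finrank_top]; have := hS.seven; omega)
  obtain ⟨f, hp⟩ := OOmega.exists_pair hS.pnd hx0 hx
  have hd := finrank_comp hp
  obtain ⟨y, -, hy0, hy⟩ := QuadBasis.exists_singular (res Q (x, f))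
    (W := (⊤ : Submodule F ↥(comp Q (x, f)))) (by rw [finrank_top]; have := hS.seven; omega)
  obtain ⟨z, hz⟩ := OOmega.exists_pair (res_pnd hS.pnd hp) hy0 hy
  exact ⟨(x, f), hp, ⟨(y, z), hz⟩⟩

theorem commutator_eq : commutator ↥(ORefl.Iso Q) = OOmega.rootGroup Q := by
  obtain ⟨p, hp, hr⟩ := hS.exists_pair_in
  exact OOmega.commutator_eq_root_of_pair hS.pnd hS.card_ne hp hr

theorem mem_of_abel {g : ↥(ORefl.Iso Q)} (h : Abelianization.of g = 1) : g ∈ OOmega.rootGroup Q := by
  rwa [← hS.commutator_eq, ← Abelianization.ker_of, MonoidHom.mem_ker]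

/-- Two reflections of equal value classes. -/
theorem exists_refl_two {u v : V} (hu : Q u ≠ 0) {t : F} (ht : t ≠ 0) (hv : Q v = t ^ 2 * Q u) :
    ∃ g : Om Q, ∀ x, g • x = ORefl.refl Q u (ORefl.refl Q v x) := by
  refine ⟨⟨OOmega.rf Q u * OOmega.rf Q v, hS.mem_of_abel ?_⟩, fun x => rfl⟩
  rw [map_mul, OOmega.map_rf_class hS.pnd Abelianization.of hu ht hv, ← map_mul, OOmega.rf_mul_self, map_one]

/-- Four reflections whose values pair off. -/
theorem exists_refl_four {u v u' v' : V} (hu : Q u ≠ 0) (hv : Q v ≠ 0) (hu' : Q u' = Q u) (hv' : Q v' = Q v) :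
    ∃ g : Om Q, ∀ x, g • x = ORefl.refl Q u (ORefl.refl Q v (ORefl.refl Q u' (ORefl.refl Q v' x))) := by
  refine ⟨⟨OOmega.rf Q u * (OOmega.rf Q v * (OOmega.rf Q u' * OOmega.rf Q v')), hS.mem_of_abel ?_⟩,
    fun x => rfl⟩
  simp only [map_mul]
  rw [OOmega.map_rf_eq hS.pnd Abelianization.of hu hu', OOmega.map_rf_eq hS.pnd Abelianization.of hv hv',
    mul_left_comm (Abelianization.of (OOmega.rf Q v)), ← mul_assoc, ← map_mul, ← map_mul,
    OOmega.rf_mul_self, OOmega.rf_mul_self, map_one, one_mul]

end Space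

open scoped _root_.Classical in
/-- The Siegel element, `1` where it is not defined. -/
noncomputable def E (a w : V) : Om Q :=
  if h : ∃ g : Om Q, ∀ x, g • x = x + polar Q a x • w - (polar Q w x + Q w * polar Q a x) • a then h.choose
  else 1

section Siegel

variable (hS : Space Q) {a w : V} (ha : Q a = 0) (hw : polar Q a w = 0)
include hS ha hw

theorem E_apply (x : V) :
    (E a w : Om Q) • x = x + polar Q a x • w - (polar Q w x + Q w * polar Q a x) • a := by
  have h : ∃ g : Om Q, ∀ x, g • x = x + polar Q a x • w - (polar Q w x + Q w * polar Q a x) • a :=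
    ⟨⟨⟨ORefl.siegel ha hw, ORefl.siegel_mem ha hw⟩, by
      rw [← hS.commutator_eq]; exact OOmega.siegel_mem_commutator hS.pnd hS.card_ne ha hw⟩,
      fun x => ORefl.siegel_apply ha hw x⟩
  rw [E, dif_pos h]
  exact h.choose_spec x

theorem E_apply_perp {x : V} (hx : polar Q a x = 0) : (E a w : Om Q) • x = x - polar Q w x • a := by
  rw [E_apply hS ha hw, hx]
  simp

theorem E_fix {x : V} (hx : polar Q a x = 0) (hwx : polar Q w x = 0) : (E a w : Om Q) • x = x := by
  rw [E_apply_perp hS ha hw hx, hwx, zero_smul, sub_zero]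

theorem E_fix_self : (E a w : Om Q) • a = a :=
  E_fix hS ha hw (polar_self_zero ha) (by rw [polar_comm]; exact hw)

theorem E_partner {x : V} (hx : polar Q a x = 1) :
    (E a w : Om Q) • x = x + w - (polar Q w x + Q w) • a := by
  rw [E_apply hS ha hw, hx, one_smul, mul_one]

theorem conj_E (g : Om Q) : g * E a w * g⁻¹ = E (g • a) (g • w) := by
  refine om_ext fun x => ?_
  obtain ⟨y, rfl⟩ : ∃ y, g • y = x := ⟨g⁻¹ • x, smul_inv_smul g x⟩
  rw [mul_smul, mul_smul, inv_smul_smul, E_apply hS ha hw,
    E_apply hS ((form_smul g a).trans ha) ((polar_smul g a w).trans hw), smul_sub, smul_add, smul_scalar,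
    smul_scalar, polar_smul, polar_smul, form_smul]

theorem E_mul {w' : V} (hw' : polar Q a w' = 0) : (E a w : Om Q) * E a w' = E a (w + w') := by
  refine om_ext fun x => ?_
  have hs : polar Q a (w + w') = 0 := by rw [polar_add_right, hw, hw', add_zero]
  have haw : polar Q w a = 0 := by rw [polar_comm]; exact hw
  rw [mul_smul, E_apply hS ha hw', E_apply hS ha hw, E_apply hS ha hs]
  simp only [polar_add_right, polar_sub_right, polar_smul_right, polar_add_left, hw', haw, polar_self_zero ha,
    map_two, smul_eq_mul, mul_zero, add_zero, sub_zero]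
  module

theorem E_inv : (E a w : Om Q)⁻¹ = E a (-w) := by
  have hn : polar Q a (-w) = 0 := by rw [polar_neg_right, hw, neg_zero]
  refine inv_eq_of_mul_eq_one_right (om_ext fun x => ?_)
  rw [E_mul hS ha hw hn, add_neg_cancel, E_apply hS ha (polar_zero_right Q a), one_smul, polar_zero_left,
    QuadraticMap.map_zero]
  simp

theorem E_smul_left (t : F) : (E (t • a) w : Om Q) = E a (t • w) := by
  have h1 : Q (t • a) = 0 := by rw [QuadraticMap.map_smul, ha, smul_zero]
  have h2 : polar Q (t • a) w = 0 := by rw [polar_smul_left, hw, smul_zero]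
  have h3 : polar Q a (t • w) = 0 := by rw [polar_smul_right, hw, smul_zero]
  refine om_ext fun x => ?_
  rw [E_apply hS h1 h2, E_apply hS ha h3, polar_smul_left, polar_smul_left, QuadraticMap.map_smul]
  simp only [smul_eq_mul]
  module

theorem E_add_smul (t : F) : (E a (w + t • a) : Om Q) = E a w := by
  have h2 : polar Q a (w + t • a) = 0 := by
    rw [polar_add_right, hw, polar_smul_right, polar_self_zero ha, smul_zero, add_zero]
  have haw : polar Q w a = 0 := by rw [polar_comm]; exact hw
  refine om_ext fun x => ?_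
  rw [E_apply hS ha h2, E_apply hS ha hw, map_two, QuadraticMap.map_smul, ha, polar_smul_right, haw,
    polar_add_left, polar_smul_left]
  simp only [smul_eq_mul]
  module

theorem E_swap (hww : Q w = 0) : (E a w : Om Q) = E w (-a) := by
  have h2 : polar Q w (-a) = 0 := by rw [polar_neg_right, polar_comm, hw, neg_zero]
  refine om_ext fun x => ?_
  rw [E_apply hS ha hw, E_apply hS hww h2, hww, QuadraticMap.map_neg, ha, polar_neg_left]
  module

theorem E_eq_one_iff : (E a w : Om Q) = 1 ↔ a = 0 ∨ w ∈ F ∙ a := by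
  constructor
  · intro h
    by_cases ha0 : a = 0
    · exact Or.inl ha0
    obtain ⟨f, hf⟩ := OOmega.exists_pair hS.pnd ha0 ha
    have h1 := congrArg (fun g : Om Q => g • f) h
    rw [one_smul, E_partner hS ha hw hf.2.2, add_sub_assoc, add_eq_left, sub_eq_zero] at h1
    exact Or.inr (h1 ▸ Submodule.smul_mem _ _ (Submodule.mem_span_singleton_self a))
  · intro h
    refine om_ext fun x => ?_
    rw [one_smul, E_apply hS ha hw]
    rcases h with rfl | h
    · simp
    · obtain ⟨t, rfl⟩ := Submodule.mem_span_singleton.mp h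
      rw [QuadraticMap.map_smul, ha, smul_zero, polar_smul_left]
      simp only [smul_eq_mul]
      module

end Siegel

section Siegel2

variable (hS : Space Q)
include hS

theorem E_zero {a : V} (ha : Q a = 0) : (E a 0 : Om Q) = 1 :=
  (E_eq_one_iff hS ha (polar_zero_right Q a)).2 (Or.inr (zero_mem _))

/-- Linearity in the axis for a singular second vector. -/
theorem E_add_left {a a' w : V} (ha : Q a = 0) (ha' : Q a' = 0) (haa : polar Q a a' = 0) (hw : Q w = 0)
    (h1 : polar Q a w = 0) (h2 : polar Q a' w = 0) : (E (a + a') w : Om Q) = E a w * E a' w := by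
  have hs : Q (a + a') = 0 := by rw [map_two, ha, ha', haa, add_zero, add_zero]
  have hsw : polar Q (a + a') w = 0 := by rw [polar_add_left, h1, h2, add_zero]
  rw [E_swap hS hs hsw hw, E_swap hS ha h1 hw, E_swap hS ha' h2 hw,
    E_mul hS hw (by rw [polar_neg_right, polar_comm, h1, neg_zero]) (by rw [polar_neg_right, polar_comm, h2, neg_zero]),
    neg_add]

theorem closure_E : Subgroup.closure {g : Om Q | ∃ a w, Q a = 0 ∧ polar Q a w = 0 ∧ g = E a w} = ⊤ := by
  rw [eq_top_iff]
  rintro ⟨g, hg⟩ -
  unfold OOmega.rootGroup at hg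
  induction hg using Subgroup.closure_induction with
  | mem y hy =>
    obtain ⟨e, v, he, hv, -, hy⟩ := hy
    refine Subgroup.subset_closure ⟨e, v, he, hv, om_ext fun x => ?_⟩
    rw [E_apply hS he hv]
    change y.1 x = _
    rw [hy, ORefl.siegel_apply]
  | one => exact one_mem _
  | mul a b _ _ iha ihb => exact mul_mem iha ihb
  | inv a _ iha => exact inv_mem iha

theorem eq_top_of_E {K : Subgroup (Om Q)} (h : ∀ a w, Q a = 0 → polar Q a w = 0 → E a w ∈ K) : K = ⊤ := by
  rw [eq_top_iff, ← closure_E hS, Subgroup.closure_le]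
  rintro g ⟨a, w, ha, hw, rfl⟩
  exact h a w ha hw

end Siegel2

end Cfsg.Agent.Small.OMinIndex
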