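import Cfsg.Agent.Lib.Small.OMinIndex.Nice

/-!
# The number of annihilators through a vector depends on the class of the vector only
-/

set_option autoImplicit false
set_option linter.unusedSectionVars false

namespace Cfsg.Agent.Small.OMinIndex

open Module QuadraticMap Cfsg.Agent.Classical Cfsg.Agent.Classical.OCount

variable {F : Type*} [Field F] [Finite F] {V : Type*} [AddCommGroup V] [Module F V] [FiniteDimensional F V]
  {Q : QuadraticForm F V} {X : Type*} [MulAction (Om Q) X]

/-- The vectors of `comp Q p` other than zero with value in `P`. -/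
noncomputable def compCount (Q : QuadraticForm F V) (p : V × V) (P : F → Prop) : ℕ :=
  Nat.card {w : comp Q p // w ≠ 0 ∧ P (Q (w : V))}

/-- The vectors of `a^⊥` off the line with value in `P`. -/
def perpSet (Q : QuadraticForm F V) (a : V) (P : F → Prop) : Set V :=
  {y | polar Q a y = 0 ∧ y ∉ F ∙ a ∧ P (Q y)}

section Frame

variable (hS : Space Q) {a f : V} (hp : IsHPair Q (a, f))

include hp in
theorem form_add_line {w : V} (hw : polar Q a w = 0) (t : F) : Q (w + t • a) = Q w := by
  rw [map_two, QuadraticMap.map_smul, hp.1, polar_smul_right, polar_comm, hw]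
  simp

include hp in
theorem proj_mem {y : V} (hy : polar Q a y = 0) : y - polar Q f y • a ∈ comp Q (a, f) := by
  have := exists_split hp y
  rwa [show polar Q (a, f).1 y = 0 from hy, zero_smul, sub_zero] at this

include hp in
theorem eq_zero_of_comp_line {w : V} (hw : w ∈ comp Q (a, f)) (h : w ∈ F ∙ a) : w = 0 := by
  obtain ⟨t, rfl⟩ := Submodule.mem_span_singleton.1 h
  have h1 : polar Q f (t • a) = 0 := (mem_comp.1 hw).2
  rw [polar_smul_right, show polar Q f a = 1 by rw [polar_comm]; exact hp.2.2, smul_eq_mul, mul_one] at h1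
  rw [h1, zero_smul]

include hp in
theorem card_perpSet (P : F → Prop) : Nat.card (perpSet Q a P) = Nat.card F * compCount Q (a, f) P := by
  rw [compCount, ← Nat.card_prod]
  have hfa : polar Q f a = 1 := by rw [polar_comm]; exact hp.2.2
  refine Nat.card_congr
    { toFun := fun y => (polar Q f y.1, ⟨⟨_, proj_mem hp y.2.1⟩, fun e => ?_, ?_⟩)
      invFun := fun z => ⟨(z.2.1 : V) + z.1 • a, ?_, ?_, ?_⟩
      left_inv := fun y => Subtype.ext (sub_add_cancel _ _)
      right_inv := fun z => ?_ }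
  · have e' : y.1 - polar Q f y.1 • a = 0 := congrArg Subtype.val e
    exact y.2.2.1 (Submodule.mem_span_singleton.2 ⟨_, (sub_eq_zero.1 e').symm⟩)
  · show P (Q (y.1 - polar Q f y.1 • a))
    rw [sub_eq_add_neg, ← neg_smul, form_add_line hp y.2.1]
    exact y.2.2.2
  · rw [polar_add_right, polar_smul_right, polar_self_zero hp.1, (mem_comp.1 z.2.1.2).1, smul_zero, add_zero]
  · intro h
    refine z.2.2.1 (Subtype.ext (eq_zero_of_comp_line hp z.2.1.2 ?_))
    simpa using Submodule.sub_mem _ h (Submodule.smul_mem _ z.1 (Submodule.mem_span_singleton_self a))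
  · rw [form_add_line hp (mem_comp.1 z.2.1.2).1]
    exact z.2.2.2
  · obtain ⟨t, ⟨w, hw⟩, h⟩ := z
    have e : polar Q f (w + t • a) = t := by
      rw [polar_add_right, polar_smul_right, show polar Q f w = 0 from (mem_comp.1 hw).2, hfa]
      simp
    refine Prod.ext e (Subtype.ext (Subtype.ext ?_))
    show w + t • a - polar Q f (w + t • a) • a = w
    rw [e, add_sub_cancel_right]

include hS hp in
theorem exists_singular_pair_in {U : Submodule F V} (hU : NonDeg Q U) (h3 : 3 ≤ finrank F U) :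
    ∃ r : V × V, IsHPair Q r ∧ r.1 ∈ U ∧ r.2 ∈ U := by
  haveI := Fintype.ofFinite F
  obtain ⟨k, hk, hk0, hQk⟩ := QuadBasis.exists_singular Q h3
  obtain ⟨l, hl, hkl⟩ := exists_partner_in hk hQk (by
    by_contra! hc
    exact hk0 (hU k hk hc))
  exact ⟨(k, l), hkl, hk, hl⟩

include hS hp in
theorem nonDeg_comp_top : NonDeg Q (comp Q (a, f)) := fun x hx h => by
  have := res_pnd hS.pnd hp ⟨x, hx⟩ fun w => h w w.2
  exact congrArg Subtype.val this

include hS hp in
theorem finrank_comp_ge : 5 ≤ finrank F (comp Q (a, f)) := by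
  have := finrank_comp hp
  have := hS.seven
  omega

variable [Finite X]

include hS hp in
theorem cc_proj {y : V} : cc hS hp.1 X (y - polar Q f y • a) = cc hS hp.1 X y := by
  rw [sub_eq_add_neg, ← neg_smul, cc_add_line]

include hS hp in
/-- Anisotropic vectors with values in one square class. -/
theorem cc_value {v w : V} (hv : v ∈ comp Q (a, f)) (hw : w ∈ comp Q (a, f)) (hQv : Q v ≠ 0) {t : F} (ht : t ≠ 0)
    (hQ : Q w = t ^ 2 * Q v) : cc hS hp.1 X w = cc hS hp.1 X v := by
  obtain ⟨r, hr, hr1, hr2⟩ := exists_singular_pair_in hS hp (nonDeg_comp_top hS hp)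
    (le_trans (by norm_num) (finrank_comp_ge hS hp))
  obtain ⟨g, g1, g2, -⟩ := exists_torus_two hS hp hr hr1 hr2 (inv_ne_zero ht)
  have hv' : t⁻¹⁻¹ • g • v ∈ comp Q (a, f) := by
    obtain ⟨h1, h2⟩ := mem_comp.1 hv
    refine mem_comp.2 ⟨?_, ?_⟩
    · have h : polar Q (g • a) (g • v) = 0 := (polar_smul g a v).trans h1
      rw [g1, polar_smul_left, smul_eq_mul] at h
      rw [polar_smul_right, (mul_eq_zero.1 h).resolve_left (inv_ne_zero ht), smul_zero]
    · have h : polar Q (g • f) (g • v) = 0 := (polar_smul g f v).trans h2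
      rw [g2, polar_smul_left, smul_eq_mul, inv_inv] at h
      rw [polar_smul_right, (mul_eq_zero.1 h).resolve_left ht, smul_zero]
  have hQv' : Q (t⁻¹⁻¹ • g • v) = Q w := by
    rw [QuadraticMap.map_smul, form_smul, inv_inv, hQ, smul_eq_mul, _root_.sq]
  obtain ⟨h, h1, -, h3⟩ := exists_move_value_comp hS hp hv' hw
    (by rw [hQv', hQ]; exact mul_ne_zero (pow_ne_zero 2 ht) hQv) hQv'.symm
  have e1 := cc_move hS hp.1 (X := X) h (one_ne_zero (α := F)) (by rw [one_smul]; exact h1) (t⁻¹⁻¹ • g • v)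
  rw [inv_one, one_smul, h3] at e1
  rw [e1, cc_move hS hp.1 (X := X) g (inv_ne_zero ht) g1 v]

include hS hp in
/-- Singular vectors. -/
theorem cc_singular {v w : V} (hv : v ∈ comp Q (a, f)) (hw : w ∈ comp Q (a, f)) (hv0 : v ≠ 0) (hw0 : w ≠ 0)
    (hQv : Q v = 0) (hQw : Q w = 0) : cc hS hp.1 X w = cc hS hp.1 X v := by
  have hW := nonDeg_comp_top hS hp
  have h5 := finrank_comp_ge hS hp
  obtain ⟨g, t, ht, hg, hfix⟩ := exists_move_point hS hW (le_trans (by norm_num) h5) hv hw hv0 hw0 hQv hQw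
  have hga : g • a = a := hfix a fun u hu => by rw [polar_comm]; exact (mem_comp.1 hu).1
  have e1 := cc_move hS hp.1 (X := X) g (one_ne_zero (α := F)) (by rw [one_smul]; exact hga) v
  rw [inv_one, one_smul, hg] at e1
  obtain ⟨l, hl, hwl⟩ := exists_partner_in hw hQw (by
    by_contra! hc
    exact hw0 (hW w hw hc))
  have hd := finrank_comp_in (Q := Q) (U := comp Q (a, f)) w l
  obtain ⟨r, hr, hr1, hr2⟩ := exists_singular_pair_in hS hp (nonDeg_comp hW hw hl hwl) (by omega)
  obtain ⟨⟨r1, r1w⟩, r1l⟩ := (mem_perpIn.1 hr1).imp_left mem_perpIn.1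
  obtain ⟨⟨r2, r2w⟩, r2l⟩ := (mem_perpIn.1 hr2).imp_left mem_perpIn.1
  obtain ⟨h, h1, -, -, -, h5'⟩ := exists_torus_two hS hp hr r1 r2 ht
  have e2 := cc_move hS hp.1 (X := X) h ht h1 (t • w)
  rw [smul_scalar, h5' w (mem_comp.1 hw).1 (mem_comp.1 hw).2 (by rw [polar_comm]; exact r1w)
    (by rw [polar_comm]; exact r2w), smul_smul, inv_mul_cancel₀ ht, one_smul] at e2
  rw [e2, e1]

include hS hp in
/-- The bound for a square class. -/
theorem class_bound {v : V} (hv : v ∈ comp Q (a, f)) (hQv : Q v ≠ 0) :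
    Nat.card (Orb hS hp.1 X) + cc hS hp.1 X v * compCount Q (a, f) (fun x => ∃ t : F, t ≠ 0 ∧ x = t ^ 2 * Q v) ≤
      Nat.card X := by
  haveI : Finite V := Module.finite_of_finite F
  have ha0 : a ≠ 0 := fun e => one_ne_zero (α := F) (by
    rw [← show polar Q a f = 1 from hp.2.2, e, polar_zero_left])
  have h := set_bound hS hp.1 (X := X) ha0 (S := perpSet Q a fun x => ∃ t : F, t ≠ 0 ∧ x = t ^ 2 * Q v)
    (fun y hy => hy.2.1) (c := cc hS hp.1 X v) (fun y ⟨hy, _, t, ht, hQy⟩ => by
      rw [← cc_proj hS hp (y := y), cc_value hS hp hv (proj_mem hp hy) hQv ht (by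
        rw [sub_eq_add_neg, ← neg_smul, form_add_line hp hy, hQy])])
  rw [card_perpSet hp, mul_left_comm, ← Nat.left_distrib] at h
  exact Nat.le_of_mul_le_mul_left h Nat.card_pos

include hS hp in
/-- The bound for the singular vectors. -/
theorem singular_bound {v : V} (hv : v ∈ comp Q (a, f)) (hv0 : v ≠ 0) (hQv : Q v = 0) :
    Nat.card (Orb hS hp.1 X) + cc hS hp.1 X v * compCount Q (a, f) (fun x => x = 0) ≤ Nat.card X := by
  haveI : Finite V := Module.finite_of_finite F
  have ha0 : a ≠ 0 := fun e => one_ne_zero (α := F) (by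
    rw [← show polar Q a f = 1 from hp.2.2, e, polar_zero_left])
  have h := set_bound hS hp.1 (X := X) ha0 (S := perpSet Q a fun x => x = 0)
    (fun y hy => hy.2.1) (c := cc hS hp.1 X v) (fun y ⟨hy, hya, hQy⟩ => by
      rw [← cc_proj hS hp (y := y), cc_singular hS hp hv (proj_mem hp hy) hv0
        (fun e => hya (Submodule.mem_span_singleton.2 ⟨_, (sub_eq_zero.1 e).symm⟩)) hQv (by
          rw [sub_eq_add_neg, ← neg_smul, form_add_line hp hy, hQy])])
  rw [card_perpSet hp, mul_left_comm, ← Nat.left_distrib] at h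
  exact Nat.le_of_mul_le_mul_left h Nat.card_pos

end Frame

end Cfsg.Agent.Small.OMinIndex
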