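import Cfsg.Agent.Lib.Small.OMinIndex.Main
import Cfsg.Agent.Lib.Classical.Elusive.OrthTsCount

/-!
# The numbers of a model and the conditions they put on a small degree
-/

set_option autoImplicit false
set_option linter.unusedSectionVars false

universe u

namespace Cfsg.Agent.Small.OMinIndex

open Module QuadraticMap Cfsg.Agent.Classical Cfsg.Agent.Classical.OCount
open Cfsg.Agent.Classical.Elusive

variable {F : Type u} [Field F] [Fintype F]

/-- `j` pairs and a rest of dimension `e` taking the value `c` exactly `N c` times. -/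
structure Model {V : Type u} [AddCommGroup V] [Module F V] (Q : QuadraticForm F V) (j e : ℕ) (N : F → ℕ) :
    Prop where
  pnd : PND Q
  dim : finrank F V = 2 * j + e
  values : ∀ c, Nat.card {v : V // Q v = c} = valNum (Fintype.card F) e j (N c)
  zero : N 0 = 1

variable {V : Type u} [AddCommGroup V] [Module F V] [FiniteDimensional F V] {Q : QuadraticForm F V}
  {j e : ℕ} {N : F → ℕ}

theorem Model.shape (h : Model Q j e N) : OTs.Shape Q j e :=
  ⟨h.pnd, h.dim, by rw [h.values, h.zero]⟩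

theorem Model.space (h : Model Q j e N) (h7 : 7 ≤ 2 * j + e) : Space Q := ⟨h.pnd, h.dim ▸ h7⟩

theorem Model.res (h : Model Q j e N) {p : V × V} (hp : IsHPair Q p) : Model (res Q p) (j - 1) e N := by
  obtain ⟨h1, h2, -⟩ := h.shape.comp hp
  refine ⟨h1, h2, fun c => ?_, h.zero⟩
  have hp1 : p.1 ≠ 0 := fun h0 => by
    have := hp.2.2
    rw [h0, polar_zero_left] at this
    exact zero_ne_one this
  have hj := h.shape.pos hp1 hp.1
  obtain ⟨k, rfl⟩ : ∃ k, j = k + 1 := ⟨j - 1, by omega⟩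
  rw [Nat.add_sub_cancel] at h2 ⊢
  have hv := card_value hp c
  rw [h.values, valNum_succ Fintype.card_pos, h2] at hv
  exact (Nat.eq_of_mul_eq_mul_left Fintype.card_pos (Nat.add_left_cancel hv)).symm

theorem card_singular (h : Model Q j e N) :
    Nat.card {v : V // v ≠ 0 ∧ Q v = 0} =
      (Fintype.card F ^ j - 1) * (Fintype.card F ^ (j - 1 + e) + 1) := by
  classical
  haveI : Finite V := Module.finite_of_finite F
  haveI := Fintype.ofFinite V
  have h1 := h.values 0
  rw [h.zero, OTs.valNum_one Fintype.card_pos, Nat.card_eq_fintype_card, Fintype.card_subtype] at h1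
  rw [Nat.card_eq_fintype_card, Fintype.card_subtype, ← Nat.add_sub_cancel (_ * _) 1, ← h1,
    ← Finset.card_erase_of_mem (show (0 : V) ∈ Finset.univ.filter (fun v => Q v = 0) by simp)]
  congr 1
  ext v
  simp

theorem compCount_zero (h : Model Q j e N) {p : V × V} (hp : IsHPair Q p) :
    compCount Q p (fun x => x = 0) = (Fintype.card F ^ (j - 1) - 1) * (Fintype.card F ^ (j - 1 - 1 + e) + 1) := by
  rw [compCount, ← card_singular (h.res hp)]
  rfl

theorem compCountIn_eq (h : Model Q j e N) {a f u u' : V} (hp : IsHPair Q (a, f)) (hu : u ∈ comp Q (a, f))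
    (hu' : u' ∈ comp Q (a, f)) (huu : IsHPair Q (u, u')) :
    compCountIn Q a f u u' =
      (Fintype.card F ^ (j - 1 - 1) - 1) * (Fintype.card F ^ (j - 1 - 1 - 1 + e) + 1) := by
  have hr : IsHPair (res Q (a, f)) (⟨u, hu⟩, ⟨u', hu'⟩) := huu
  rw [← card_singular ((h.res hp).res hr), compCountIn]
  refine Nat.card_congr
    { toFun := fun s => ⟨⟨⟨s.1, (mem_compIn.1 s.2.1).1⟩, mem_comp.2 (mem_compIn.1 s.2.1).2⟩,
        fun e0 => s.2.2.1 (congrArg (fun z => z.1.1) e0), s.2.2.2⟩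
      invFun := fun s => ⟨s.1.1.1, mem_compIn.2 ⟨s.1.1.2, mem_comp.1 s.1.2⟩,
        fun e0 => s.2.1 (Subtype.ext (Subtype.ext e0)), s.2.2⟩
      left_inv := fun s => rfl
      right_inv := fun s => rfl }

theorem class_ge (h : Model Q j e N) {p : V × V} (hp : IsHPair Q p) {c : F} (hc : c ≠ 0) {T : ℕ}
    (hT : Nat.card {t : F // t * t = 1} ≤ T) :
    (Fintype.card F - 1) * valNum (Fintype.card F) e (j - 1) 0 ≤
      compCount Q p (fun x => ∃ t : F, t ≠ 0 ∧ x = t ^ 2 * c) * T := by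
  classical
  haveI : Finite V := Module.finite_of_finite F
  obtain ⟨C, hC⟩ : ∃ C : Type u, C = {w : comp Q p // w ≠ 0 ∧ ∃ t : F, t ≠ 0 ∧ Q (w : V) = t ^ 2 * c} := ⟨_, rfl⟩
  choose t₀ ht₀ hQ₀ using fun y : {w : comp Q p // w ≠ 0 ∧ ∃ t : F, t ≠ 0 ∧ Q (w : V) = t ^ 2 * c} => y.2.2
  calc (Fintype.card F - 1) * valNum (Fintype.card F) e (j - 1) 0
      ≤ (Fintype.card F - 1) * valNum (Fintype.card F) e (j - 1) (N c) :=
        Nat.mul_le_mul_left _ (Nat.add_le_add_left (Nat.mul_le_mul_left _ (Nat.zero_le _)) _)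
    _ = Nat.card (Fˣ × {w : comp Q p // res Q p w = c}) := by
        rw [Nat.card_prod, (h.res hp).values, Nat.card_eq_fintype_card (α := Fˣ), Fintype.card_units]
    _ ≤ Nat.card ({w : comp Q p // w ≠ 0 ∧ ∃ t : F, t ≠ 0 ∧ Q (w : V) = t ^ 2 * c} × {t : F // t * t = 1}) := by
        have hy : ∀ z : Fˣ × {w : comp Q p // res Q p w = c},
            (z.1 : F) • z.2.1 ≠ 0 ∧ ∃ t : F, t ≠ 0 ∧ Q (((z.1 : F) • z.2.1 : comp Q p) : V) = t ^ 2 * c := fun z => by
          have hQ : Q (z.2.1 : V) = c := z.2.2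
          refine ⟨smul_ne_zero z.1.ne_zero fun e0 => hc ?_, z.1, z.1.ne_zero, ?_⟩
          · rw [← hQ, e0, ZeroMemClass.coe_zero, QuadraticMap.map_zero]
          · rw [SetLike.val_smul, QuadraticMap.map_smul, hQ, smul_eq_mul, _root_.sq]
        refine Nat.card_le_card_of_injective (fun z => (⟨(z.1 : F) • z.2.1, hy z⟩,
          ⟨(z.1 : F) * (t₀ ⟨(z.1 : F) • z.2.1, hy z⟩)⁻¹, ?_⟩)) fun z z' e0 => ?_
        · have h1 := hQ₀ ⟨(z.1 : F) • z.2.1, hy z⟩
          rw [SetLike.val_smul, QuadraticMap.map_smul, show Q (z.2.1 : V) = c from z.2.2, smul_eq_mul] at h1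
          have h2 := mul_right_cancel₀ hc h1
          rw [mul_mul_mul_comm, h2, ← _root_.sq, ← mul_pow, mul_inv_cancel₀ (ht₀ _), one_pow]
        · obtain ⟨e1, e2⟩ := Prod.ext_iff.1 e0
          dsimp only at e1 e2
          have e2' := congrArg Subtype.val e2
          dsimp only at e2'
          rw [e1] at e2'
          have e3 : (z.1 : F) = z'.1 := mul_right_cancel₀ (inv_ne_zero (ht₀ _)) e2'
          have e4 := congrArg Subtype.val e1
          dsimp only at e4
          rw [e3] at e4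
          exact Prod.ext (Units.ext e3) (Subtype.ext (smul_right_injective _ z'.1.ne_zero e4))
    _ ≤ _ := by
        rw [Nat.card_prod]
        exact Nat.mul_le_mul_left _ hT

/-- The numerical conditions. -/
theorem bounds_of (h : Model Q j e N) (hj : 3 ≤ j) {T : ℕ} (hT : Nat.card {t : F // t * t = 1} ≤ T) {P : ℕ}
    (haniso : P * T ≤ 5 * ((Fintype.card F - 1) * valNum (Fintype.card F) e (j - 1) 0))
    (hseven : Fintype.card F = 3 → 2 * j + e = 7 → P ≤ 360)
    (hreg : P ≤ 2 * Fintype.card F ^ (2 * j + e - 2))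
    (hpts : P * (Fintype.card F - 1) ≤ (Fintype.card F ^ j - 1) * (Fintype.card F ^ (j - 1 + e) + 1))
    (hval : ∀ c : F, c ≠ 0 → P * T ≤ valNum (Fintype.card F) e j (N c))
    {q x z w : ℕ} (hq : Fintype.card F = q) (hx : q ^ (j - 1) = x) (hz : q ^ (j - 1 - 1 + e) = z)
    (hw : q ^ (j - 1 - 1 - 1 + e) = w)
    (hcov : P ≤ (w + 1) * ((x - 1) * (z + 1)) ∨
      (w = q ∧ P ≤ (q + 2) * ((x - 1) * (z + 1)) ∧
        P * T ≤ (q + 1) * ((x - 1) * (z + 1)) * T + (q - 1) * valNum q e (j - 1) 0 ∧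
        ((4 ≤ q ∧ P ≤ (q + 1) * ((x - 1) * (z + 1)) + 2 * ((q + 1) * (z + 1)) ∧
            (e = 0 → P ≤ (q + 1) * (z + 1) * (x + 1))) ∨
          P ≤ (q + 1) * (z + 1) * x))) : Bounds Q j P := by
  have hq1 : 1 < q := hq ▸ Fintype.one_lt_card
  have hcF : Nat.card F = q := Nat.card_eq_fintype_card.trans hq
  have hT0 : 0 < T := by
    haveI : Nonempty {t : F // t * t = 1} := ⟨⟨1, mul_one 1⟩⟩
    exact lt_of_lt_of_le Nat.card_pos hT
  have hSW : ∀ a f : V, IsHPair Q (a, f) → compCount Q (a, f) (fun y => y = 0) = (x - 1) * (z + 1) := fun a f hp => by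
    rw [compCount_zero h hp, hq, hx, hz]
  refine ⟨fun d hd => ⟨fun a f hp c hc => ?_, fun h3 h7 => ?_⟩, fun d hd => ⟨?_, ?_⟩, ?_, ?_, fun c hc => ?_⟩
  · refine Nat.le_of_mul_le_mul_right ?_ hT0
    rw [mul_assoc]
    exact ((Nat.mul_le_mul_right T hd.le).trans haniso).trans (Nat.mul_le_mul_left 5 (class_ge h hp hc hT))
  · rw [h.dim] at h7
    exact lt_of_lt_of_le hd (hseven (Nat.card_eq_fintype_card.symm.trans h3) h7)
  · exact OTs.ts_le j h.shape
  · intro a f u u' hp hu hu' huu c hc hle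
    rw [hSW a f hp] at hc
    rw [compCountIn_eq h hp hu hu' huu, hq, hw, hcF] at hle ⊢
    obtain ⟨M, hM⟩ : ∃ M, M = q ^ (j - 2) - 1 := ⟨_, rfl⟩
    rw [show j - 1 - 1 = j - 2 by omega, ← hM] at hle
    rw [← hM]
    have hM0 : 0 < M := by
      have := Nat.one_lt_pow (n := j - 2) (a := q) (by omega) hq1
      omega
    rw [mul_comm] at hle
    have hcw := Nat.le_of_mul_le_mul_right hle hM0
    rcases hcov with hA | ⟨hwq, hB, hcls, hrest⟩
    · exact absurd (lt_of_le_of_lt (Nat.mul_le_mul_right _ hcw) hc) (by omega)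
    have hcu : c = q + 1 := by
      refine le_antisymm (Nat.le_of_not_lt fun hlt => ?_) (hwq ▸ hcw)
      have := Nat.mul_le_mul_right ((x - 1) * (z + 1)) (show q + 2 ≤ c from hlt)
      omega
    subst hcu
    have hcls' : ∀ a f : V, IsHPair Q (a, f) → ∀ t : F, t ≠ 0 → d < (q + 1) * compCount Q (a, f) (fun y => y = 0) +
        compCount Q (a, f) (fun y => ∃ s : F, s ≠ 0 ∧ y = s ^ 2 * t) := fun a f hp t ht => by
      refine Nat.lt_of_mul_lt_mul_right (a := T) ?_
      rw [hSW a f hp, Nat.add_mul]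
      refine lt_of_lt_of_le ((Nat.mul_lt_mul_right hT0).2 hd) (hcls.trans (Nat.add_le_add_left ?_ _))
      have h5 := class_ge h hp ht hT
      rwa [hq] at h5
    rcases hrest with ⟨h4, h5, h6⟩ | h5
    · refine Or.inl ⟨rfl, by rw [hwq, show j - 1 - 1 = j - 2 by omega, ← hM, mul_comm],
        ⟨hcF ▸ h4, hj, (q + 1) * (z + 1), by positivity, fun a f hp => ⟨?_, ?_, ?_⟩, fun h2 => ⟨?_, ?_⟩⟩⟩
      · rw [hcF, hx, hSW a f hp]; ring
      · rw [hcF, hSW a f hp]; omega
      · intro t ht; rw [hcF]; exact hcls' a f hp t ht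
      · obtain rfl : e = 0 := by rw [h.dim] at h2; omega
        rw [card_singular h, hcF, hq]; simp
      · obtain rfl : e = 0 := by rw [h.dim] at h2; omega
        rw [hcF, hx]
        exact lt_of_lt_of_le hd (h6 rfl)
    · refine Or.inr ⟨by omega, hcls' a f hp, ?_⟩
      rw [hcF, hx, hSW a f hp]
      have hx2 : 2 ≤ x := hx ▸ Nat.one_lt_pow (by omega) hq1
      calc d * (x - 1) < (q + 1) * (z + 1) * x * (x - 1) :=
            (Nat.mul_lt_mul_right (by omega)).2 (lt_of_lt_of_le hd h5)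
        _ = x * ((q + 1) * ((x - 1) * (z + 1))) := by ring
  · rw [h.dim, Nat.card_eq_fintype_card]; exact hreg
  · rw [card_singular h, Nat.card_eq_fintype_card]; exact hpts
  · rw [h.values]
    exact (Nat.mul_le_mul_left P hT).trans (hval c hc)

end Cfsg.Agent.Small.OMinIndex
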