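import Cfsg.Agent.Lib.Small.OMinIndex.Classes

/-!
# A stabiliser with root elements fixes a line

When every point that is not regular is of hyperplane type, the stabiliser of `x` fixes a line or is everything.
-/

set_option autoImplicit false
set_option linter.unusedSectionVars false

namespace Cfsg.Agent.Small.OMinIndex

open Module QuadraticMap Cfsg.Agent.Classical Cfsg.Agent.Classical.OCount

variable {F : Type*} [Field F] [Finite F] {V : Type*} [AddCommGroup V] [Module F V] [FiniteDimensional F V]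
  {Q : QuadraticForm F V} {X : Type*} [MulAction (Om Q) X]

/-- All Siegel elements at `a` fix `x`. -/
def Full (a : V) (x : X) : Prop := ∀ w, polar Q a w = 0 → (E a w : Om Q) • x = x

variable (hS : Space Q)
include hS

theorem exists_pair_perp {a f v : V} (hp : IsHPair Q (a, f)) (hv : v ∈ comp Q (a, f)) :
    ∃ k ∈ subU Q a f v, ∃ l ∈ subU Q a f v, IsHPair Q (k, l) := by
  by_cases hQv : Q v = 0
  · have hW := nonDeg_comp_top hS hp
    have h5 := finrank_comp_ge hS hp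
    rcases eq_or_ne v 0 with rfl | hv0
    · obtain ⟨r, hr, hr1, hr2⟩ := exists_singular_pair_in hS hp hW (le_trans (by norm_num) h5)
      exact ⟨r.1, mem_perpIn.2 ⟨hr1, polar_zero_left Q _⟩, r.2, mem_perpIn.2 ⟨hr2, polar_zero_left Q _⟩, hr⟩
    obtain ⟨v', hv', hvv⟩ := exists_partner_in hv hQv (by
      by_contra! hc
      exact hv0 (hW v hv hc))
    have hd := finrank_comp_in (Q := Q) (U := comp Q (a, f)) v v'
    obtain ⟨r, hr, hr1, hr2⟩ := exists_singular_pair_in hS hp (nonDeg_comp hW hv hv' hvv) (by omega)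
    obtain ⟨r1, r2⟩ := And.intro (mem_perpIn.1 hr1).1 (mem_perpIn.1 hr2).1
    exact ⟨r.1, r1, r.2, r2, hr⟩
  · exact exists_pair_U hS hp hv hQv

/-- A vector orthogonal to the singular vectors of `v^⊥` off the line of `v` is on it. -/
theorem mem_line_of_perp {a f v : V} (hp : IsHPair Q (a, f)) (hv : v ∈ comp Q (a, f)) {z : V}
    (h : ∀ y, Q y = 0 → polar Q v y = 0 → y ∉ F ∙ v → polar Q z y = 0) : z ∈ F ∙ v := by
  obtain ⟨k, hk, l, hl, hkl⟩ := exists_pair_perp hS hp hv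
  obtain ⟨ha, hf⟩ := mem_comp.1 hv
  have hkv := (mem_perpIn.1 hk).2
  have hlv := (mem_perpIn.1 hl).2
  have hsep : ∀ {y b : V}, polar Q v b = 0 → polar Q b y ≠ 0 → y ∉ F ∙ v := by
    intro y b hb hby hm
    obtain ⟨t, rfl⟩ := Submodule.mem_span_singleton.1 hm
    rw [polar_smul_right, polar_comm, hb, smul_zero] at hby
    exact hby rfl
  have hfa : polar Q f a = 1 := by rw [polar_comm]; exact hp.2.2
  have hza : polar Q z a = 0 := h a hp.1 (by rw [polar_comm]; exact ha)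
    (hsep (b := f) (by rw [polar_comm]; exact hf) (by rw [hfa]; exact one_ne_zero))
  have hzf : polar Q z f = 0 := h f hp.2.1 (by rw [polar_comm]; exact hf)
    (hsep (b := a) (by rw [polar_comm]; exact ha) (by rw [show polar Q a f = 1 from hp.2.2]; exact one_ne_zero))
  have hzk : polar Q z k = 0 := h k hkl.1 hkv
    (hsep (b := l) hlv (by rw [polar_comm, show polar Q k l = 1 from hkl.2.2]; exact one_ne_zero))
  have hzl : polar Q z l = 0 := h l hkl.2.1 hlv
    (hsep (b := k) hkv (by rw [show polar Q k l = 1 from hkl.2.2]; exact one_ne_zero))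
  refine mem_span_of_perp hS hp (mem_comp.2 ⟨by rw [polar_comm]; exact hza, by rw [polar_comm]; exact hzf⟩)
    (fun u hu => ?_) hv
  obtain ⟨u₀, hu₀⟩ : ∃ u₀, u₀ = u - polar Q l u • k - polar Q k u • l := ⟨_, rfl⟩
  have h0 : polar Q k u₀ = 0 ∧ polar Q l u₀ = 0 :=
    mem_comp.1 (hu₀ ▸ exists_split hkl u : u₀ ∈ comp Q (k, l))
  have hv0 : polar Q v u₀ = 0 := by
    rw [hu₀, polar_sub_right, polar_sub_right, polar_smul_right, polar_smul_right, hkv, hlv, (mem_perpIn.1 hu).2]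
    simp
  have hs : Q ((1 : F) • k + (-Q u₀) • l + u₀) = 0 := by
    have := apply_symm (Q := Q) hkl 1 (-Q u₀) ⟨u₀, mem_comp.mpr h0⟩
    simpa using this
  have h1 := h _ hs (by
      rw [polar_add_right, polar_add_right, polar_smul_right, polar_smul_right, hkv, hlv, hv0]; simp)
    (hsep (b := l) hlv (by
      rw [polar_add_right, polar_add_right, polar_smul_right, polar_smul_right, h0.2,
        polar_self_zero hkl.2.1, polar_comm Q l k, show polar Q k l = 1 from hkl.2.2]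
      simp))
  rw [polar_add_right, polar_add_right, polar_smul_right, polar_smul_right, hzk, hzl, smul_zero, smul_zero,
    zero_add, zero_add, hu₀, polar_sub_right, polar_sub_right, polar_smul_right, polar_smul_right, hzk, hzl,
    smul_zero, smul_zero, sub_zero, sub_zero] at h1
  exact h1

variable {x : X}

theorem hyp_smul {a v : V} (ha : Q a = 0) (h : Hyp (Q := Q) a v x) {t : F} (ht : t ≠ 0) :
    Hyp (Q := Q) (t • a) v x := by
  refine ⟨by rw [polar_smul_left, h.1, smul_zero], fun w hw hvw => ?_⟩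
  rw [polar_smul_left, smul_eq_mul] at hw
  have hw' := (mul_eq_zero.1 hw).resolve_left ht
  rw [E_smul_left hS ha hw']
  exact h.2 _ (by rw [polar_smul_right, hw', smul_zero]) (by rw [polar_smul_right, hvw, smul_zero])

theorem full_smul {a : V} (ha : Q a = 0) {t : F} (ht : t ≠ 0) : Full (Q := Q) (t • a) x ↔ Full (Q := Q) a x := by
  constructor
  · intro h w hw
    have h1 := h (t⁻¹ • w) (by rw [polar_smul_left, polar_smul_right, hw, smul_zero, smul_zero])
    rwa [E_smul_left hS ha (by rw [polar_smul_right, hw, smul_zero]), smul_smul, mul_inv_cancel₀ ht, one_smul] at h1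
  · intro h w hw
    rw [polar_smul_left, smul_eq_mul] at hw
    have hw' := (mul_eq_zero.1 hw).resolve_left ht
    rw [E_smul_left hS ha hw']
    exact h _ (by rw [polar_smul_right, hw', smul_zero])

theorem hyp_transport {a v : V} (ha : Q a = 0) {g : Om Q} (hg : g • x = x) (h : Hyp (Q := Q) a v x) :
    Hyp (Q := Q) (g • a) (g • v) x := by
  refine ⟨by rw [polar_smul]; exact h.1, fun w hw hvw => ?_⟩
  obtain ⟨u, rfl⟩ : ∃ u, g • u = w := ⟨g⁻¹ • w, smul_inv_smul g w⟩
  rw [polar_smul] at hw hvw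
  rw [← conj_E hS ha hw, mul_smul, mul_smul, inv_smul_eq_iff.2 hg.symm, h.2 u hw hvw, hg]

theorem full_transport {a : V} (ha : Q a = 0) {g : Om Q} (hg : g • x = x) (h : Full (Q := Q) a x) :
    Full (Q := Q) (g • a) x := fun w hw =>
  (hyp_transport hS ha hg (v := 0) ⟨polar_zero_right Q a, fun w hw _ => h w hw⟩).2 w hw
    (by rw [smul_zero', polar_zero_left])

theorem fixes_E_of_perp {a v b : V} (ha : Q a = 0) (h : Hyp (Q := Q) a v x) (hb : Q b = 0) (hab : polar Q a b = 0)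
    (hvb : polar Q v b = 0) (t : F) : (E b (t • a) : Om Q) • x = x := by
  have h1 : Q (t • a) = 0 := by rw [QuadraticMap.map_smul, ha, smul_zero]
  have h2 : polar Q b (t • a) = 0 := by rw [polar_smul_right, polar_comm, hab, smul_zero]
  rw [E_swap hS hb h2 h1, E_smul_left hS ha (by rw [polar_neg_right, hab, neg_zero])]
  exact h.2 _ (by rw [polar_smul_right, polar_neg_right, hab, neg_zero, smul_zero])
    (by rw [polar_smul_right, polar_neg_right, hvb, neg_zero, smul_zero])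

theorem not_reg_of_perp {a v b : V} (ha : Q a = 0) (h : Hyp (Q := Q) a v x) (hb : Q b = 0) (hab : polar Q a b = 0)
    (hvb : polar Q v b = 0) (hne : a ∉ F ∙ b) : ¬ Reg (Q := Q) b x := fun hr => by
  have h1 := fixes_E_of_perp hS ha h hb hab hvb 1
  rw [one_smul] at h1
  exact hne (hr a (by rw [polar_comm]; exact hab) h1)

/-- Two hyperplanes at one point give everything. -/
theorem span_of_not_full {a v v' : V} (ha : Q a = 0) (hnf : ¬ Full (Q := Q) a x) (h : Hyp (Q := Q) a v x)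
    (h' : Hyp (Q := Q) a v' x) : v' ∈ Submodule.span F {a, v} := by
  by_contra hc
  obtain ⟨y, hy, hy'⟩ := ORefl.exists_polar_sep hS.pnd hc 1
  have hya : polar Q a y = 0 := by rw [polar_comm]; exact hy a (Submodule.subset_span (Or.inl rfl))
  have hyv : polar Q v y = 0 := by rw [polar_comm]; exact hy v (Submodule.subset_span (Or.inr rfl))
  refine hnf fun w hw => ?_
  obtain ⟨w₁, hw₁⟩ : ∃ w₁, w₁ = polar Q v' w • y := ⟨_, rfl⟩
  have h1 : polar Q a w₁ = 0 := by rw [hw₁, polar_smul_right, hya, smul_zero]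
  have h2 : polar Q a (w - w₁) = 0 := by rw [polar_sub_right, hw, h1, sub_zero]
  have e1 := h.2 w₁ h1 (by rw [hw₁, polar_smul_right, hyv, smul_zero])
  have e2 := h'.2 (w - w₁) h2 (by
    rw [polar_sub_right, hw₁, polar_smul_right, polar_comm Q v' y, hy', smul_eq_mul, mul_one, sub_self])
  rw [show w = w - w₁ + w₁ by abel, ← E_mul hS ha h2 h1, mul_smul, e1, e2]

theorem ne_line_of_not_full {a v : V} (hnf : ¬ Full (Q := Q) a x) (h : Hyp (Q := Q) a v x) : v ∉ F ∙ a :=
  fun hm => by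
    obtain ⟨t, rfl⟩ := Submodule.mem_span_singleton.1 hm
    exact hnf fun w hw => h.2 w hw (by rw [polar_smul_left, hw, smul_zero])

theorem hyp_add_line {a v : V} (ha : Q a = 0) (h : Hyp (Q := Q) a v x) (t : F) : Hyp (Q := Q) a (v + t • a) x :=
  ⟨by rw [polar_add_right, polar_smul_right, h.1, polar_self_zero ha, smul_zero, add_zero], fun w hw hvw =>
    h.2 w hw (by rwa [polar_add_left, polar_smul_left, hw, smul_zero, add_zero] at hvw)⟩

/-- The two hyperplanes at a pair of points agree. -/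
theorem common_vector {a a' v v' : V} (hp : IsHPair Q (a, a')) (hv : v ∈ comp Q (a, a')) (hv' : v' ∈ comp Q (a, a'))
    (h : Hyp (Q := Q) a v x) (h' : Hyp (Q := Q) a' v' x) (hnf : ¬ Full (Q := Q) a' x) : v' ∈ F ∙ v := by
  haveI := Fintype.ofFinite F
  obtain ⟨k, hk, l, hl, hkl⟩ := exists_pair_perp hS hp hv
  refine mem_span_of_perp hS hp hv' (fun u hu => perp_of_singular hk hl hkl (fun b hb hQb => ?_) hu) hv
  by_contra hvb
  obtain ⟨hbW, hvb0⟩ := mem_perpIn.1 hb
  have hd1 := finrank_perpIn (Q := Q) (comp Q (a, a')) v'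
  have hd2 := finrank_perpIn (Q := Q) (perpIn Q (comp Q (a, a')) v') b
  have hd := finrank_comp hp
  obtain ⟨a₁, ha₁, ha₁0, hQa₁⟩ := QuadBasis.exists_singular Q (W := perpIn Q (perpIn Q (comp Q (a, a')) v') b)
    (by have := hS.seven; omega)
  obtain ⟨⟨ha₁W, hv'a₁⟩, hba₁⟩ := (mem_perpIn.1 ha₁).imp_left mem_perpIn.1
  obtain ⟨haa₁, ha'a₁⟩ := mem_comp.1 ha₁W
  obtain ⟨hab, ha'b⟩ := mem_comp.1 hbW
  change polar Q a a₁ = 0 at haa₁
  change polar Q a' a₁ = 0 at ha'a₁
  change polar Q a b = 0 at hab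
  change polar Q a' b = 0 at ha'b
  have ha : Q a = 0 := hp.1
  have ha' : Q a' = 0 := hp.2.1
  have hfa : polar Q a' a = 1 := by rw [polar_comm]; exact hp.2.2
  have hba : polar Q a₁ b = 0 := by rw [polar_comm]; exact hba₁
  have e1 := h'.2 a₁ ha'a₁ hv'a₁
  have e2 := h.2 b hab hvb0
  have ca : (E a' a₁ : Om Q) • a = a + a₁ := by
    rw [E_partner hS ha' ha'a₁ hfa, polar_comm Q a₁ a, haa₁, hQa₁, add_zero, zero_smul, sub_zero]
  have cb : (E a' a₁ : Om Q) • b = b := E_fix hS ha' ha'a₁ ha'b hba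
  have e3 : (E (a + a₁) b : Om Q) • x = x := by
    rw [← ca]
    nth_rw 1 [← cb]
    rw [← conj_E hS ha hab, mul_smul, mul_smul, inv_smul_eq_iff.2 e1.symm, e2, e1]
  rw [E_add_left hS ha hQa₁ haa₁ hQb hab hba, mul_smul, smul_eq_iff_eq_inv_smul, inv_smul_eq_iff.2 e2.symm] at e3
  have hga' : (E a₁ b : Om Q) • a' = a' :=
    E_fix hS hQa₁ hba (by rw [polar_comm]; exact ha'a₁) (by rw [polar_comm]; exact ha'b)
  have h'' := hyp_transport hS ha' e3 h'
  rw [hga', E_apply_perp hS hQa₁ hba (by rw [polar_comm]; exact hv'a₁)] at h''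
  obtain ⟨α, β, e⟩ := Submodule.mem_span_pair.1 (span_of_not_full hS ha' hnf h' h'')
  have hbv' : polar Q b v' ≠ 0 := by rw [polar_comm]; exact hvb
  have ea := congrArg (polar Q a) e
  rw [polar_add_right, polar_smul_right, polar_smul_right, show polar Q a a' = 1 from hp.2.2,
    show polar Q a v' = 0 from (mem_comp.1 hv').1, polar_sub_right, show polar Q a v' = 0 from (mem_comp.1 hv').1,
    polar_smul_right, haa₁] at ea
  simp only [smul_eq_mul, mul_one, mul_zero, add_zero, sub_zero] at ea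
  rw [ea, zero_smul, zero_add] at e
  have eb := congrArg (polar Q b) e
  rw [polar_smul_right, polar_sub_right, polar_smul_right, hba₁, smul_zero, sub_zero, smul_eq_mul] at eb
  have hβ : β = 1 := mul_right_cancel₀ hbv' (eb.trans (one_mul _).symm)
  rw [hβ, one_smul, eq_comm, sub_eq_self] at e
  exact ha₁0 ((smul_eq_zero.1 e).resolve_left hbv')

/-- A singular vector is reached from the second point of a pair. -/
theorem exists_reach {a a' y : V} (hp : IsHPair Q (a, a')) (hQy : Q y = 0) (hay : polar Q a y = 1) :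
    polar Q a (y - a') = 0 ∧ (E a (y - a') : Om Q) • a' = y := by
  have hw : polar Q a (y - a') = 0 := by
    rw [polar_sub_right, hay, show polar Q a a' = 1 from hp.2.2, sub_self]
  refine ⟨hw, ?_⟩
  have hsum : polar Q (y - a') a' + Q (y - a') = 0 := by
    rw [polar_sub_left, ORefl.map_sub_two, hQy, show Q a' = 0 from hp.2.1, polar_self_zero hp.2.1]
    ring
  rw [E_partner hS hp.1 hw hp.2.2, hsum, zero_smul, sub_zero, add_sub_cancel]

/-- Two full points fix `x` outright. -/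
theorem fixed_of_two_full {a a' : V} (hp : IsHPair Q (a, a')) (h : Full (Q := Q) a x) (h' : Full (Q := Q) a' x)
    (g : Om Q) : g • x = x := by
  have step : ∀ {c c' : V}, IsHPair Q (c, c') → Full (Q := Q) c x → Full (Q := Q) c' x → ∀ y, Q y = 0 →
      polar Q c y ≠ 0 → Full (Q := Q) y x := by
    intro c c' hc hf hf' y hQy hcy
    obtain ⟨y₁, hy₁⟩ : ∃ y₁, y₁ = (polar Q c y)⁻¹ • y := ⟨_, rfl⟩
    obtain ⟨hw, hE⟩ := exists_reach hS hc (y := y₁) (by rw [hy₁, QuadraticMap.map_smul, hQy, smul_zero])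
      (by rw [hy₁, polar_smul_right, smul_eq_mul, inv_mul_cancel₀ hcy])
    have := full_transport hS hc.2.1 (hf _ hw) hf'
    rw [hE, hy₁] at this
    exact (full_smul hS hQy (inv_ne_zero hcy)).1 this
  have hall : ∀ y, Q y = 0 → y ≠ 0 → Full (Q := Q) y x := by
    intro y hQy hy0
    have ha0 : a ≠ 0 := fun e => one_ne_zero (α := F) (by
      rw [← show polar Q a a' = 1 from hp.2.2, e, polar_zero_left])
    obtain ⟨k, -, hQk, hka, hky⟩ := exists_common (Q := Q) (U := ⊤) (nonDeg_top hS.pnd)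
      (by rw [finrank_top]; have := hS.seven; omega) Submodule.mem_top Submodule.mem_top ha0 hy0 hp.1 hQy
    obtain ⟨k₁, hk₁⟩ : ∃ k₁, k₁ = (polar Q k a)⁻¹ • k := ⟨_, rfl⟩
    have hk₁Q : Q k₁ = 0 := by rw [hk₁, QuadraticMap.map_smul, hQk, smul_zero]
    have hpk : IsHPair Q (k₁, a) := ⟨hk₁Q, hp.1, by
      change polar Q k₁ a = 1
      rw [hk₁, polar_smul_left, smul_eq_mul, inv_mul_cancel₀ hka]⟩
    refine step hpk ?_ h y hQy ?_
    · refine step hp h h' k₁ hk₁Q ?_
      rw [polar_comm, show polar Q k₁ a = 1 from hpk.2.2]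
      exact one_ne_zero
    · rw [hk₁, polar_smul_left]
      exact mul_ne_zero (inv_ne_zero hka) hky
  have htop : MulAction.stabilizer (Om Q) x = ⊤ := eq_top_of_E hS fun b w hb hw => by
    rcases eq_or_ne b 0 with rfl | hb0
    · rw [(E_eq_one_iff hS hb hw).2 (Or.inl rfl)]; exact one_mem _
    · exact hall b hb hb0 w hw
  exact (htop ▸ Subgroup.mem_top g : g ∈ MulAction.stabilizer (Om Q) x)

/-- The points of a common hyperplane. -/
theorem not_full_of_step {a a' v y : V} (hp : IsHPair Q (a, a')) (h : Hyp (Q := Q) a v x)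
    (h' : Hyp (Q := Q) a' v x) (hnf : ¬ Full (Q := Q) a' x) (hQy : Q y = 0) (hvy : polar Q v y = 0)
    (hay : polar Q a y ≠ 0) : ¬ Full (Q := Q) y x ∧ Hyp (Q := Q) y v x := by
  obtain ⟨y₁, hy₁⟩ : ∃ y₁, y₁ = (polar Q a y)⁻¹ • y := ⟨_, rfl⟩
  obtain ⟨hw, hE⟩ := exists_reach hS hp (y := y₁) (by rw [hy₁, QuadraticMap.map_smul, hQy, smul_zero])
    (by rw [hy₁, polar_smul_right, smul_eq_mul, inv_mul_cancel₀ hay])
  have hvw : polar Q v (y₁ - a') = 0 := by
    rw [polar_sub_right, hy₁, polar_smul_right, hvy, polar_comm Q v a', h'.1, smul_zero, sub_zero]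
  have hgx := h.2 _ hw hvw
  have hgv : (E a (y₁ - a') : Om Q) • v = v :=
    E_fix hS hp.1 hw h.1 (by rw [polar_comm]; exact hvw)
  have h1 := hyp_transport hS hp.2.1 hgx h'
  rw [hE, hgv] at h1
  have hQy₁ : Q y₁ = 0 := by rw [hy₁, QuadraticMap.map_smul, hQy, smul_zero]
  refine ⟨fun hf => hnf ?_, ?_⟩
  · have h2 := full_transport hS hQy₁ (inv_smul_eq_iff.2 hgx.symm)
      (hy₁ ▸ (full_smul hS hQy (inv_ne_zero hay)).2 hf)
    rwa [inv_smul_eq_iff.2 hE.symm] at h2
  · have := hyp_smul hS hQy₁ h1 hay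
    rwa [hy₁, smul_smul, mul_inv_cancel₀ hay, one_smul] at this

theorem not_full_of_pair {a a' v y : V} (hp : IsHPair Q (a, a')) (h : Hyp (Q := Q) a v x)
    (h' : Hyp (Q := Q) a' v x) (hnf : ¬ Full (Q := Q) a x) (hnf' : ¬ Full (Q := Q) a' x) (hQy : Q y = 0)
    (hvy : polar Q v y = 0) (hyv : y ∉ F ∙ v) : ¬ Full (Q := Q) y x ∧ Hyp (Q := Q) y v x := by
  by_cases hay : polar Q a y = 0
  swap
  · exact not_full_of_step hS hp h h' hnf' hQy hvy hay
  obtain ⟨y', hQy', hvy', hay', hy'y⟩ : ∃ y', Q y' = 0 ∧ polar Q v y' = 0 ∧ polar Q a y' = 1 ∧ polar Q y' y ≠ 0 := by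
    by_cases hb : polar Q a' y = 0
    swap
    · exact ⟨a', hp.2.1, by rw [polar_comm]; exact h'.1, hp.2.2, hb⟩
    have hyW : y ∈ comp Q (a, a') := mem_comp.2 ⟨hay, hb⟩
    have hvW : v ∈ comp Q (a, a') := mem_comp.2 ⟨h.1, h'.1⟩
    obtain ⟨l, hl, hyl⟩ := exists_partner_in (U := subU Q a a' v) (mem_perpIn.2 ⟨hyW, hvy⟩) hQy (by
      by_contra! hc
      exact hyv (mem_span_of_perp hS hp hyW hc hvW))
    obtain ⟨l1, l2, l3⟩ := mem_subU.1 hl
    refine ⟨a' + l, ?_, ?_, ?_, ?_⟩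
    · rw [map_two, show Q a' = 0 from hp.2.1, show Q l = 0 from hyl.2.1, l2]; simp
    · rw [polar_add_right, polar_comm Q v a', h'.1, l3, add_zero]
    · rw [polar_add_right, show polar Q a a' = 1 from hp.2.2, l1, add_zero]
    · rw [polar_add_left, hb, polar_comm Q l y, show polar Q y l = 1 from hyl.2.2, zero_add]
      exact one_ne_zero
  obtain ⟨-, hy'H⟩ := not_full_of_step hS hp h h' hnf' hQy' hvy' (by rw [hay']; exact one_ne_zero)
  exact not_full_of_step hS (a := y') (a' := a) ⟨hQy', hp.1, (polar_comm Q y' a).trans hay'⟩ hy'H h hnf hQy hvy hy'y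

/-- The stabiliser of `x` fixes a line. -/
theorem exists_fixed_line (hhyp : ∀ a : V, Q a = 0 → a ≠ 0 → ¬ Reg (Q := Q) a x → ∃ v, Hyp (Q := Q) a v x)
    (hnr : ∃ a : V, Q a = 0 ∧ a ≠ 0 ∧ ¬ Reg (Q := Q) a x) (hmove : ∃ g : Om Q, g • x ≠ x) :
    ∃ v : V, v ≠ 0 ∧ ∀ g : Om Q, g • x = x → g • v ∈ F ∙ v := by
  have norm : ∀ {a a' : V}, IsHPair Q (a, a') → ∀ {v}, Hyp (Q := Q) a v x →
      v + (-polar Q a' v) • a ∈ comp Q (a, a') ∧ Hyp (Q := Q) a (v + (-polar Q a' v) • a) x :=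
    fun {a a'} hp {v} h => ⟨by
      have := proj_mem hp h.1
      rwa [sub_eq_add_neg, ← neg_smul] at this, hyp_add_line hS hp.1 h _⟩
  have twofull : ∀ {a a' : V}, IsHPair Q (a, a') → Full (Q := Q) a x → ¬ Full (Q := Q) a' x := fun hp h h' =>
    hmove.elim fun g hg => hg (fixed_of_two_full hS hp h h' g)
  have F1 : ∀ e : V, Q e = 0 → Full (Q := Q) e x → ∀ s : V, Q s = 0 → s ≠ 0 → ¬ Reg (Q := Q) s x →
      polar Q e s = 0 := by
    intro e he hf s hs hs0 hsr
    by_contra hes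
    obtain ⟨v, hv⟩ := hhyp s hs hs0 hsr
    obtain ⟨e₁, he₁⟩ : ∃ e₁, e₁ = (polar Q e s)⁻¹ • e := ⟨_, rfl⟩
    have hp : IsHPair Q (e₁, s) := ⟨by
        change Q e₁ = 0
        rw [he₁, QuadraticMap.map_smul, he, smul_zero], hs, by
        change polar Q e₁ s = 1
        rw [he₁, polar_smul_left, smul_eq_mul, inv_mul_cancel₀ hes]⟩
    have hf₁ : Full (Q := Q) e₁ x := he₁ ▸ (full_smul hS he (inv_ne_zero hes)).2 hf
    have hnf := twofull hp hf₁
    obtain ⟨hv1, hv2⟩ := norm (a := s) (a' := e₁) (isHPair_symm hp) hv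
    have := common_vector hS hp (v := 0) (Submodule.zero_mem _)
      (mem_comp.2 ⟨(mem_comp.1 hv1).2, (mem_comp.1 hv1).1⟩) ⟨polar_zero_right Q _, fun w hw _ => hf₁ w hw⟩ hv2 hnf
    rw [Submodule.span_zero_singleton, Submodule.mem_bot] at this
    exact ne_line_of_not_full hS hnf hv2 (by rw [this]; exact Submodule.zero_mem _)
  obtain ⟨a, ha, ha0, har, hanf⟩ : ∃ a : V, Q a = 0 ∧ a ≠ 0 ∧ ¬ Reg (Q := Q) a x ∧ ¬ Full (Q := Q) a x := by
    by_contra! hc
    obtain ⟨e, he, he0, her⟩ := hnr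
    have hf := hc e he he0 her
    obtain ⟨e', hp⟩ := OOmega.exists_pair hS.pnd he0 he
    obtain ⟨⟨k, l⟩, hkl, hk, hl⟩ := exists_singular_pair_in hS hp (nonDeg_comp_top hS hp)
      (le_trans (by norm_num) (finrank_comp_ge hS hp))
    change k ∈ comp Q (e, e') at hk
    change l ∈ comp Q (e, e') at hl
    have hnot : ∀ {b : V}, b ∈ comp Q (e, e') → e ∉ F ∙ b := fun {b} hb hm => by
      obtain ⟨t, ht⟩ := Submodule.mem_span_singleton.1 hm
      have h1 : polar Q e e' = 1 := hp.2.2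
      rw [← ht, polar_smul_left, polar_comm Q b e', show polar Q e' b = 0 from (mem_comp.1 hb).2, smul_zero] at h1
      exact zero_ne_one h1
    have hne : ∀ {b c : V}, polar Q b c = 1 → b ≠ 0 := fun {b c} h e0 => by
      rw [e0, polar_zero_left] at h; exact zero_ne_one h
    have hall : ∀ {b : V}, b ∈ comp Q (e, e') → Q b = 0 → b ≠ 0 → Full (Q := Q) b x := fun {b} hb hQb hb0 =>
      hc b hQb hb0 (not_reg_of_perp hS he (v := 0) ⟨polar_zero_right Q e, fun w hw _ => hf w hw⟩ hQb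
        (mem_comp.1 hb).1 (polar_zero_left Q b) (hnot hb))
    exact twofull hkl (hall hk hkl.1 (hne hkl.2.2))
      (hall hl hkl.2.1 (hne ((polar_comm Q l k).trans hkl.2.2)))
  -- a pair of points with a common hyperplane
  obtain ⟨v₀, hv₀⟩ := hhyp a ha ha0 har
  obtain ⟨a₀, hp₀⟩ := OOmega.exists_pair hS.pnd ha0 ha
  obtain ⟨hv₀', hv₀H⟩ := norm hp₀ hv₀
  obtain ⟨k, hk, l, hl, hkl⟩ := exists_pair_perp hS hp₀ hv₀'
  have hSk : ∀ {b c : V}, b ∈ subU Q a a₀ (v₀ + (-polar Q a₀ v₀) • a) → Q b = 0 → polar Q b c = 1 →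
      c ∈ subU Q a a₀ (v₀ + (-polar Q a₀ v₀) • a) → b ≠ 0 ∧ ¬ Reg (Q := Q) b x := by
    intro b c hb hQb hbc hc
    obtain ⟨b1, b2, b3⟩ := mem_subU.1 hb
    refine ⟨fun e => by rw [e, polar_zero_left] at hbc; exact zero_ne_one hbc,
      not_reg_of_perp hS ha hv₀H hQb b1 b3 fun hm => ?_⟩
    obtain ⟨t, ht⟩ := Submodule.mem_span_singleton.1 hm
    have h1 : polar Q a a₀ = 1 := hp₀.2.2
    rw [← ht, polar_smul_left, polar_comm Q b a₀, b2, smul_zero] at h1
    exact zero_ne_one h1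
  have hlk : polar Q l k = 1 := (polar_comm Q l k).trans hkl.2.2
  obtain ⟨hk0, hkr⟩ := hSk hk hkl.1 hkl.2.2 hl
  obtain ⟨hl0, hlr⟩ := hSk hl hkl.2.1 hlk hk
  have hknf : ¬ Full (Q := Q) k x := fun h => one_ne_zero (α := F)
    (hkl.2.2.symm.trans (F1 k hkl.1 h l hkl.2.1 hl0 hlr))
  have hlnf : ¬ Full (Q := Q) l x := fun h => one_ne_zero (α := F)
    (hlk.symm.trans (F1 l hkl.2.1 h k hkl.1 hk0 hkr))
  obtain ⟨vk, hvk⟩ := hhyp k hkl.1 hk0 hkr
  obtain ⟨vl, hvl⟩ := hhyp l hkl.2.1 hl0 hlr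
  obtain ⟨hvk', hvkH⟩ := norm hkl hvk
  obtain ⟨hvl', hvlH⟩ := norm (isHPair_symm hkl) hvl
  obtain ⟨v, hv⟩ : ∃ v, v = vk + (-polar Q l vk) • k := ⟨_, rfl⟩
  rw [← hv] at hvk' hvkH
  have hv0 : v ≠ 0 := fun e => ne_line_of_not_full hS hknf hvkH (by rw [e]; exact Submodule.zero_mem _)
  obtain ⟨c, hc⟩ := Submodule.mem_span_singleton.1 (common_vector hS hkl hvk'
    (mem_comp.2 ⟨(mem_comp.1 hvl').2, (mem_comp.1 hvl').1⟩) hvkH hvlH hlnf)
  have hc0 : c ≠ 0 := fun e => ne_line_of_not_full hS hlnf hvlH (by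
    rw [← hc, e, zero_smul]; exact Submodule.zero_mem _)
  have hlH : Hyp (Q := Q) l v x := ⟨(mem_comp.1 hvk').2, fun w hw hvw => hvlH.2 w hw (by
    rw [← hc, polar_smul_left, hvw, smul_zero])⟩
  have hK : ∀ y : V, Q y = 0 → polar Q v y = 0 → y ∉ F ∙ v →
      ¬ Full (Q := Q) y x ∧ Hyp (Q := Q) y v x :=
    fun y h1 h2 h3 => not_full_of_pair hS hkl hvkH hlH hknf hlnf h1 h2 h3
  have hKS : ∀ y : V, Q y = 0 → polar Q v y = 0 → y ∉ F ∙ v → y ≠ 0 ∧ ¬ Reg (Q := Q) y x := by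
    intro y h1 h2 h3
    refine ⟨fun e => h3 (by rw [e]; exact Submodule.zero_mem _), fun hr => ?_⟩
    obtain ⟨w, hw, hvw, hwy⟩ : ∃ w, polar Q y w = 0 ∧ polar Q v w = 0 ∧ w ∉ F ∙ y := by
      have d1 := finrank_perpIn (Q := Q) (⊤ : Submodule F V) y
      have d2 := finrank_perpIn (Q := Q) (perpIn Q (⊤ : Submodule F V) y) v
      rw [finrank_top] at d1
      obtain ⟨w, hw, hwy⟩ : ∃ w ∈ perpIn Q (perpIn Q (⊤ : Submodule F V) y) v, w ∉ F ∙ y := by
        by_contra! hc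
        have h4 := Submodule.finrank_mono (show perpIn Q (perpIn Q (⊤ : Submodule F V) y) v ≤ F ∙ y from hc)
        have h5 : finrank F (F ∙ y) ≤ 1 := by
          rw [finrank_span_singleton (show y ≠ 0 from fun e => h3 (by rw [e]; exact Submodule.zero_mem _))]
        have := hS.seven
        omega
      obtain ⟨⟨-, w1⟩, w2⟩ := (mem_perpIn.1 hw).imp_left mem_perpIn.1
      exact ⟨w, w1, w2, hwy⟩
    exact hwy (hr w hw ((hK y h1 h2 h3).2.2 w hw hvw))
  -- every point is orthogonal to `v`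
  have hall : ∀ s : V, Q s = 0 → s ≠ 0 → ¬ Reg (Q := Q) s x → polar Q v s = 0 := by
    intro s hs hs0 hsr
    by_contra hvs
    obtain ⟨y, hQy, hvy, hyv, hsy⟩ : ∃ y, Q y = 0 ∧ polar Q v y = 0 ∧ y ∉ F ∙ v ∧ polar Q s y ≠ 0 := by
      by_contra! hc
      obtain ⟨t, ht⟩ := Submodule.mem_span_singleton.1 (mem_line_of_perp hS hkl hvk' hc)
      refine hvs ?_
      rw [← ht, QuadraticMap.map_smul, smul_eq_mul, mul_eq_zero, mul_self_eq_zero] at hs
      rcases hs with hs | hs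
      · rw [← ht, hs, zero_smul, polar_zero_right]
      · rw [← ht, polar_smul_right, polar_self_zero hs, smul_zero]
    obtain ⟨y₁, hy₁⟩ : ∃ y₁, y₁ = (polar Q s y)⁻¹ • y := ⟨_, rfl⟩
    have hQy₁ : Q y₁ = 0 := by rw [hy₁, QuadraticMap.map_smul, hQy, smul_zero]
    have hvy₁ : polar Q v y₁ = 0 := by rw [hy₁, polar_smul_right, hvy, smul_zero]
    have hy₁v : y₁ ∉ F ∙ v := fun hm => hyv (by
      rw [hy₁] at hm
      exact (Submodule.smul_mem_iff _ (inv_ne_zero hsy)).1 hm)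
    obtain ⟨hy₁nf, hy₁H⟩ := hK y₁ hQy₁ hvy₁ hy₁v
    obtain ⟨hy₁0, hy₁r⟩ := hKS y₁ hQy₁ hvy₁ hy₁v
    have hys : IsHPair Q (y₁, s) := ⟨hQy₁, hs, by
      change polar Q y₁ s = 1
      rw [hy₁, polar_smul_left, polar_comm Q y s, smul_eq_mul, inv_mul_cancel₀ hsy]⟩
    have hsnf : ¬ Full (Q := Q) s x := fun hf => one_ne_zero (α := F) (by
      rw [← show polar Q y₁ s = 1 from hys.2.2, polar_comm]
      exact F1 s hs hf y₁ hQy₁ hy₁0 hy₁r)
    obtain ⟨vs, hvsH⟩ := hhyp s hs hs0 hsr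
    obtain ⟨v1mem, v1H⟩ := norm hys hy₁H
    obtain ⟨u1, u2⟩ := norm (isHPair_symm hys) hvsH
    obtain ⟨c, hc⟩ := Submodule.mem_span_singleton.1
      (common_vector hS hys v1mem (mem_comp.2 ⟨(mem_comp.1 u1).2, (mem_comp.1 u1).1⟩) v1H u2 hsnf)
    have hsH : Hyp (Q := Q) s (v + (-polar Q s v) • y₁) x := ⟨(mem_comp.1 v1mem).2, fun w hw hvw => u2.2 w hw (by
      rw [← hc, polar_smul_left, hvw, smul_zero])⟩
    obtain ⟨b, hb, d, hd, hbd⟩ := exists_pair_perp hS hys v1mem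
    obtain ⟨b1, b2, b3⟩ := mem_subU.1 hb
    obtain ⟨d1, d2, d3⟩ := mem_subU.1 hd
    have hvb : polar Q v b = 0 := by
      rw [polar_add_left, polar_smul_left, b1, smul_zero, add_zero] at b3; exact b3
    have hbv : b ∉ F ∙ v := fun hm => by
      obtain ⟨t, ht⟩ := Submodule.mem_span_singleton.1 hm
      rw [← ht, polar_smul_right, polar_comm Q s v, smul_eq_mul] at b2
      have h1 : polar Q b d = 1 := hbd.2.2
      rw [← ht, (mul_eq_zero.1 b2).resolve_right hvs, zero_smul, polar_zero_left] at h1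
      exact zero_ne_one h1
    have hbv₁ : b ∉ F ∙ (v + (-polar Q s v) • y₁) := fun hm => by
      obtain ⟨t, ht⟩ := Submodule.mem_span_singleton.1 hm
      have h1 : polar Q b d = 1 := hbd.2.2
      rw [← ht, polar_smul_left, d3, smul_zero] at h1
      exact zero_ne_one h1
    obtain ⟨hbnf, hbH⟩ := hK b hbd.1 hvb hbv
    obtain ⟨-, hbH₁⟩ := not_full_of_pair hS hys v1H hsH hy₁nf hsnf hbd.1 b3 hbv₁
    obtain ⟨α, β, e⟩ := Submodule.mem_span_pair.1 (span_of_not_full hS hbd.1 hbnf hbH hbH₁)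
    have e1 := congrArg (polar Q s) e
    rw [polar_add_right, polar_smul_right, polar_smul_right, b2,
      show polar Q s (v + (-polar Q s v) • y₁) = 0 from (mem_comp.1 v1mem).2, smul_zero, zero_add,
      smul_eq_mul, polar_comm Q s v] at e1
    rw [(mul_eq_zero.1 e1).resolve_right hvs, zero_smul, add_zero, polar_comm Q s v] at e
    have e2 := congrArg (polar Q d) e
    have hd3 : polar Q d (v + (-polar Q v s) • y₁) = 0 := by rw [polar_comm, polar_comm Q v s]; exact d3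
    rw [polar_smul_right, hd3, polar_comm Q d b, show polar Q b d = 1 from hbd.2.2, smul_eq_mul, mul_one] at e2
    rw [e2, zero_smul] at e
    exact ne_line_of_not_full hS hy₁nf hy₁H (Submodule.mem_span_singleton.2
      ⟨polar Q v s, by linear_combination (norm := module) e⟩)
  refine ⟨v, hv0, fun g hg => ?_⟩
  have hgi : g⁻¹ • x = x := inv_smul_eq_iff.2 hg.symm
  refine mem_line_of_perp hS hkl hvk' fun y h1 h2 h3 => ?_
  obtain ⟨-, hyH⟩ := hK y h1 h2 h3
  obtain ⟨hy0, hyr⟩ := hKS y h1 h2 h3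
  have h4 : polar Q v (g⁻¹ • y) = 0 := by
    refine hall _ (by rw [form_smul, h1]) (fun e => hy0 (smul_inj g⁻¹ (by rw [e, smul_zero']))) fun hr => hyr ?_
    intro w hw hwx
    have h5 : polar Q (g⁻¹ • y) (g⁻¹ • w) = 0 := by rw [polar_smul, hw]
    have h6 := hr _ h5 (by rw [← conj_E hS h1 hw, mul_smul, mul_smul, inv_inv, hg, hwx, hgi])
    obtain ⟨t, ht⟩ := Submodule.mem_span_singleton.1 h6
    rw [← smul_scalar] at ht
    exact Submodule.mem_span_singleton.2 ⟨t, smul_inj _ ht⟩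
  rw [← smul_inv_smul g y, polar_smul]
  exact h4

end Cfsg.Agent.Small.OMinIndex
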