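import Cfsg.Agent.Lib.Small.OMinIndex.Perfect
import Cfsg.Agent.Lib.Char.Burnside

/-!
# An annihilator containing an anisotropic vector

If at most four annihilators contain the anisotropic `v`, each is invariant under the good group of
`v^⊥`; then one with a further vector contains all of `v^⊥`.
-/

set_option autoImplicit false
set_option linter.unusedSectionVars false

namespace Cfsg.Agent.Small.OMinIndex

open Module QuadraticMap Cfsg.Agent.Classical Cfsg.Agent.Classical.OCount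

variable {F : Type*} [Field F] [Finite F] {V : Type*} [AddCommGroup V] [Module F V] [FiniteDimensional F V]
  {Q : QuadraticForm F V} {X : Type*} [MulAction (Om Q) X]

theorem isSolvable_perm_le_four {α : Type*} [Fintype α] (h : Fintype.card α ≤ 4) :
    Group.IsSolvable (Equiv.Perm α) := by
  classical
  refine Cfsg.Agent.Char.isSolvable_of_two_primes Nat.prime_two Nat.prime_three _ rfl fun r hr hdvd => ?_
  rw [Nat.card_eq_fintype_card, Fintype.card_perm] at hdvd
  have h4 : r ∣ Nat.factorial 4 := hdvd.trans (Nat.factorial_dvd_factorial h)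
  have hle : r ≤ 4 := (hr.dvd_factorial).mp h4
  have := hr.two_le
  interval_cases r <;> simp_all (config := { decide := true })

/-- The part of `⟨a,f⟩^⊥` orthogonal to `v`. -/
abbrev subU (Q : QuadraticForm F V) (a f v : V) : Submodule F V := perpIn Q (comp Q (a, f)) v

theorem mem_subU {a f v x : V} :
    x ∈ subU Q a f v ↔ polar Q a x = 0 ∧ polar Q f x = 0 ∧ polar Q v x = 0 := by
  simp only [mem_perpIn, mem_comp, and_assoc]

/-- The good vectors are plentiful. -/
def Nice (Q : QuadraticForm F V) (a f v : V) : Prop :=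
  ∀ k l, k ∈ subU Q a f v → l ∈ subU Q a f v → IsHPair Q (k, l) →
    (∃ z, Good Q (compIn Q (subU Q a f v) k l) z) ∧
      compIn Q (subU Q a f v) k l ≤
        Submodule.span F ({z | Good Q (compIn Q (subU Q a f v) k l) z} ∪ {z | z = v ∧ Nat.card F = 2})

section Frame

variable (hS : Space Q) {a f v : V} (hp : IsHPair Q (a, f)) (hv : v ∈ comp Q (a, f))

include hS hp in
theorem mem_span_of_perp {x : V} (hx : x ∈ comp Q (a, f)) (h : ∀ u ∈ subU Q a f v, polar Q x u = 0)
    (hv : v ∈ comp Q (a, f)) : x ∈ F ∙ v := by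
  by_contra hc
  obtain ⟨y, hy, hyx⟩ := ORefl.exists_polar_sep hS.pnd (x := x) (H := Submodule.span F {a, f} ⊔ (F ∙ v)) (fun hm => by
    obtain ⟨p, hpm, q, hq, rfl⟩ := Submodule.mem_sup.1 hm
    obtain ⟨s, t, rfl⟩ := Submodule.mem_span_pair.1 hpm
    obtain ⟨c, rfl⟩ := Submodule.mem_span_singleton.1 hq
    obtain ⟨h1, h2⟩ := mem_comp.1 hx
    obtain ⟨v1, v2⟩ := mem_comp.1 hv
    simp only [polar_add_right, polar_smul_right, polar_self_zero hp.1, polar_self_zero hp.2.1, hp.2.2, v1, v2,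
      show polar Q f a = 1 by rw [polar_comm]; exact hp.2.2, smul_eq_mul, mul_zero, mul_one, add_zero, zero_add]
      at h1 h2
    subst h1 h2
    exact hc (by simpa using Submodule.smul_mem (F ∙ v) c (Submodule.mem_span_singleton_self v))) 1
  have hyU : y ∈ subU Q a f v := mem_subU.2
    ⟨by rw [polar_comm]; exact hy a (Submodule.mem_sup_left (Submodule.mem_span_pair.2 ⟨1, 0, by simp⟩)),
      by rw [polar_comm]; exact hy f (Submodule.mem_sup_left (Submodule.mem_span_pair.2 ⟨0, 1, by simp⟩)),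
      by rw [polar_comm]; exact hy v (Submodule.mem_sup_right (Submodule.mem_span_singleton_self v))⟩
  exact one_ne_zero (hyx.symm.trans ((polar_comm Q y x).trans (h y hyU)))

include hS hp hv in
theorem exists_partner_U (hQv : Q v ≠ 0) {s : V} (hs : s ∈ subU Q a f v) (hs0 : s ≠ 0) (hQs : Q s = 0) :
    ∃ l ∈ subU Q a f v, IsHPair Q (s, l) := by
  refine exists_partner_in hs hQs ?_
  by_contra! hc
  obtain ⟨c, rfl⟩ := Submodule.mem_span_singleton.1 (mem_span_of_perp hS hp (mem_perpIn.1 hs).1 hc hv)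
  rw [QuadraticMap.map_smul, smul_eq_mul] at hQs
  exact hs0 (by rw [mul_self_eq_zero.1 ((mul_eq_zero.1 hQs).resolve_right hQv), zero_smul])

include hS hp hv in
theorem exists_pair_U (hQv : Q v ≠ 0) :
    ∃ k ∈ subU Q a f v, ∃ l ∈ subU Q a f v, IsHPair Q (k, l) := by
  haveI := Fintype.ofFinite F
  have h1 := finrank_perpIn (Q := Q) (comp Q (a, f)) v
  have h2 := finrank_comp hp
  obtain ⟨k, hk, hk0, hQk⟩ := QuadBasis.exists_singular Q (W := subU Q a f v) (by
      have := hS.seven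
      change 3 ≤ finrank F (perpIn Q (comp Q (a, f)) v)
      omega)
  exact ⟨k, hk, exists_partner_U hS hp hv hQv hk hk0 hQk⟩

include hS hp hv in
theorem perp_U_of_singular (hQv : Q v ≠ 0) {x : V} (hx : ∀ s ∈ subU Q a f v, Q s = 0 → polar Q x s = 0) :
    ∀ u ∈ subU Q a f v, polar Q x u = 0 := by
  obtain ⟨k, hk, l, hl, hkl⟩ := exists_pair_U hS hp hv hQv
  exact fun u hu => perp_of_singular hk hl hkl hx hu

include hS hp hv in
/-- The good group fixes `a`, `f` and `v`. -/
theorem goodGroup_fix {g : Om Q} (hg : g ∈ GoodGroup Q (subU Q a f v)) : g • a = a ∧ g • f = f ∧ g • v = v := by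
  induction hg using Subgroup.closure_induction with
  | mem g hg =>
    obtain ⟨k, l, z, hk, -, hkl, hz, rfl⟩ := hg
    obtain ⟨hzU, hkz, -⟩ := mem_compIn.1 hz.mem
    obtain ⟨k1, k2, k3⟩ := mem_subU.1 hk
    obtain ⟨z1, z2, z3⟩ := mem_subU.1 hzU
    refine ⟨E_fix hS hkl.1 hkz ?_ ?_, E_fix hS hkl.1 hkz ?_ ?_, E_fix hS hkl.1 hkz ?_ ?_⟩ <;>
      rw [polar_comm] <;> assumption
  | one => exact ⟨one_smul _ _, one_smul _ _, one_smul _ _⟩
  | mul g h _ _ ihg ihh =>
    exact ⟨by rw [mul_smul, ihh.1, ihg.1], by rw [mul_smul, ihh.2.1, ihg.2.1],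
      by rw [mul_smul, ihh.2.2, ihg.2.2]⟩
  | inv g _ ih =>
    exact ⟨by rw [inv_smul_eq_iff, ih.1], by rw [inv_smul_eq_iff, ih.2.1], by rw [inv_smul_eq_iff, ih.2.2]⟩

include hS hp hv in
/-- With at most four annihilators through `v` the good group preserves each. -/
theorem goodGroup_invariant [Finite X] (hc : cc hS hp.1 X v ≤ 4) {x : X} (hx : v ∈ subB hS hp.1 x)
    {g : Om Q} (hg : g ∈ GoodGroup Q (subU Q a f v)) {y : V} (hy : y ∈ subB hS hp.1 x) :
    g • y ∈ subB hS hp.1 x := by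
  obtain ⟨M, hM⟩ : ∃ M, M = GoodGroup Q (subU Q a f v) := ⟨_, rfl⟩
  have hfix : ∀ g : M, (g : Om Q) • a = (1 : F) • a := fun g => by
    rw [one_smul]; exact (goodGroup_fix hS hp hv (hM ▸ g.2)).1
  have hmv : ∀ (g : M) (o : Orb hS hp.1 X), v ∈ orbB hS hp.1 o ↔
      v ∈ orbB hS hp.1 (orbMap hS hp.1 g.1 one_ne_zero (hfix g) o) := fun g o => by
    rw [← mem_orbB_move hS hp.1 g.1 one_ne_zero (hfix g) o, inv_one, one_smul,
      (goodGroup_fix hS hp hv (hM ▸ g.2)).2.2]
  haveI := Fintype.ofFinite {o : Orb hS hp.1 X // v ∈ orbB hS hp.1 o}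
  haveI : Group.IsSolvable (Equiv.Perm {o : Orb hS hp.1 X // v ∈ orbB hS hp.1 o}) :=
    isSolvable_perm_le_four (by rw [← Nat.card_eq_fintype_card]; exact hc)
  let θ : M →* Equiv.Perm {o : Orb hS hp.1 X // v ∈ orbB hS hp.1 o} :=
    MonoidHom.mk' (fun g => (Equiv.ofBijective _ (orbMap_bijective hS hp.1 g.1 one_ne_zero (hfix g))).subtypeEquiv
      (hmv g)) fun g h => Equiv.ext fun o => Subtype.ext (by
        obtain ⟨o, ho⟩ := o
        induction o using Quotient.inductionOn with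
        | h z => exact congrArg (orb hS hp.1) (mul_smul g.1 h.1 z))
  have h1 := perfect_map_eq_bot (by rw [hM]; exact goodGroup_perfect hS _) θ ⟨g, hM ▸ hg⟩
  have h2 : orb hS hp.1 (g • x) = orb hS hp.1 x :=
    congrArg Subtype.val (DFunLike.congr_fun h1
      (⟨orb hS hp.1 x, hx⟩ : {o : Orb hS hp.1 X // v ∈ orbB hS hp.1 o}))
  have h3 := (mem_subB_move hS hp.1 g one_ne_zero (by rw [one_smul]; exact (goodGroup_fix hS hp hv hg).1) x
    (v := y)).2 hy
  rw [inv_one, one_smul] at h3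
  rwa [← orbB_mk, h2, orbB_mk] at h3

include hS hp hv in
/-- A subgroup invariant under the good group with a vector outside `⟨a, v⟩` contains `v^⊥`. -/
theorem subU_le_of_invariant (hQv : Q v ≠ 0) (hn : Nice Q a f v) {B : AddSubgroup V} (hB : v ∈ B)
    (hBa : ∀ t : F, t • a ∈ B) (hinv : ∀ g ∈ GoodGroup Q (subU Q a f v), ∀ y ∈ B, g • y ∈ B) {x : V} (hxB : x ∈ B)
    (hxa : polar Q a x = 0) (hx : x ∉ Submodule.span F {a, v}) : ∀ u ∈ subU Q a f v, u ∈ B := by
  obtain ⟨U, hU⟩ : ∃ U, U = subU Q a f v := ⟨_, rfl⟩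
  rw [← hU] at hinv ⊢
  have hdiff : ∀ {k l z y}, k ∈ U → l ∈ U → IsHPair Q (k, l) → Good Q (compIn Q U k l) z → y ∈ B →
      (E k z : Om Q) • y - y ∈ B := fun hk hl hkl hz hy =>
    B.sub_mem (hinv _ (E_mem_good hS hk hl hkl hz) _ hy) hy
  have hnice : ∀ k l, k ∈ U → l ∈ U → IsHPair Q (k, l) → ∃ z, Good Q (compIn Q U k l) z := fun k l hk hl hkl => by
    rw [hU] at hk hl ⊢; exact (hn k l hk hl hkl).1
  have hpartner : ∀ s, s ∈ U → s ≠ 0 → Q s = 0 → ∃ l ∈ U, IsHPair Q (s, l) := by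
    rw [hU]; exact fun s => exists_partner_U hS hp hv hQv
  -- a vector of `U` outside the radical
  obtain ⟨y, hyB, k₀, hk₀, hy0⟩ : ∃ y ∈ B, ∃ u ∈ U, polar Q y u ≠ 0 := by
    obtain ⟨x', hx'⟩ : ∃ x', x' = x - polar Q f x • a := ⟨_, rfl⟩
    have hx'B : x' ∈ B := hx' ▸ B.sub_mem hxB (hBa _)
    have hx'W : x' ∈ comp Q (a, f) := by
      have := exists_split hp x
      rwa [show polar Q (a, f).1 x = 0 from hxa, zero_smul, sub_zero, ← hx'] at this
    by_contra! hc
    have h0 : ∀ s ∈ U, Q s = 0 → polar Q x' s = 0 := fun s hs hQs => hc x' hx'B s hs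
    obtain ⟨c, hc'⟩ := Submodule.mem_span_singleton.1
      (mem_span_of_perp hS hp hx'W (fun u hu => hc x' hx'B u (hU ▸ hu)) hv)
    exact hx (Submodule.mem_span_pair.2 ⟨polar Q f x, c, by rw [hc', hx']; abel⟩)
  obtain ⟨k, hk, hQk, hyk⟩ : ∃ k ∈ U, Q k = 0 ∧ polar Q y k ≠ 0 := by
    by_contra! hc
    exact hy0 (perp_U_of_singular hS hp hv hQv (fun s hs hQs => hc s (hU ▸ hs) hQs) k₀ (hU ▸ hk₀))
  obtain ⟨l, hl, hkl⟩ := hpartner k hk (fun e => hyk (by rw [e, polar_zero_right])) hQk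
  obtain ⟨z, hz⟩ := hnice k l hk hl hkl
  obtain ⟨z', hz', hQ', hne⟩ := hz.exists_sym
  obtain ⟨-, hkz, hlz⟩ := mem_compIn.1 hz.mem
  obtain ⟨-, hkz', hlz'⟩ := mem_compIn.1 hz'.mem
  -- a whole singular line
  obtain ⟨y₁, hy₁B, hky₁, z₂, hz₂, hzy₁⟩ : ∃ y₁ ∈ B, polar Q k y₁ = 0 ∧
      ∃ z₂, Good Q (compIn Q U k l) z₂ ∧ polar Q z₂ y₁ ≠ 0 := by
    refine ⟨_, hdiff hk hl hkl hz hyB, ?_⟩
    rw [E_apply hS hQk hkz, show y + polar Q k y • z - (polar Q z y + Q z * polar Q k y) • k - y =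
      polar Q k y • z - (polar Q z y + Q z * polar Q k y) • k by abel]
    have hky : polar Q k y ≠ 0 := by rw [polar_comm]; exact hyk
    refine ⟨by simp [polar_add_right, polar_sub_right, polar_smul_right, hkz, polar_self_zero hQk], ?_⟩
    have e : ∀ {w}, polar Q w k = 0 → polar Q w (polar Q k y • z + -((polar Q z y + Q z * polar Q k y) • k)) =
        polar Q k y * polar Q w z := fun {w} hw => by
      rw [polar_add_right, polar_smul_right, polar_neg_right, polar_smul_right, hw]; simp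
    simp only [← sub_eq_add_neg] at e
    by_cases h2 : polar Q z z ≠ 0
    · exact ⟨z, hz, by rw [e (by rw [polar_comm, hkz])]; exact mul_ne_zero hky h2⟩
    · refine ⟨z', hz', ?_⟩
      rw [e (by rw [polar_comm, hkz'])]
      refine mul_ne_zero hky fun hb => hne ?_
      push Not at h2
      rw [ORefl.polar_self_two] at h2
      have h2' : (2 : F) = 0 := (mul_eq_zero.1 h2).resolve_right hz.ne
      rw [polar_comm Q z z', hb]
      linear_combination (-2 * Q z ^ 2) * h2'
  obtain ⟨B', hB'⟩ : ∃ B' : Submodule F V, ∀ w, w ∈ B' ↔ ∀ s : F, s • w ∈ B :=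
    ⟨{ carrier := {w | ∀ s : F, s • w ∈ B}
       zero_mem' := fun s => by rw [smul_zero]; exact B.zero_mem
       add_mem' := fun h1 h2 s => by rw [smul_add]; exact B.add_mem (h1 s) (h2 s)
       smul_mem' := fun c _ h s => by rw [smul_smul]; exact h _ }, fun w => Iff.rfl⟩
  have hinv' : ∀ g ∈ GoodGroup Q U, ∀ w ∈ B', g • w ∈ B' := fun g hg w hw => by
    rw [hB'] at hw ⊢
    exact fun s => by rw [← smul_scalar]; exact hinv g hg _ (hw s)
  obtain ⟨-, hkz₂, -⟩ := mem_compIn.1 hz₂.mem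
  have hkB : k ∈ B' := (hB' k).2 fun s => by
    rcases eq_or_ne s 0 with rfl | hs
    · rw [zero_smul]; exact B.zero_mem
    obtain ⟨r, hr⟩ : ∃ r, r = -s / polar Q z₂ y₁ := ⟨_, rfl⟩
    have hr0 : r ≠ 0 := hr ▸ div_ne_zero (neg_ne_zero.2 hs) hzy₁
    have := hdiff hk hl hkl (hz₂.smul hr0) hy₁B
    rwa [E_apply_perp hS hQk (by rw [polar_smul_right, hkz₂, smul_zero]) hky₁, polar_smul_left, smul_eq_mul, hr,
      div_mul_cancel₀ _ hzy₁, sub_sub_cancel_left, ← neg_smul, neg_neg] at this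
  -- the rest of `U`
  have hlk : IsHPair Q (l, k) := isHPair_symm hkl
  have hgood : ∀ {w}, Good Q (compIn Q U k l) w → w - Q w • l ∈ B' := by
    intro w hw
    obtain ⟨-, hkw, hlw⟩ := mem_compIn.1 hw.mem
    have h1 := B'.sub_mem (hinv' _ (E_mem_good hS hl hk hlk (by rw [compIn_comm]; exact hw)) _ hkB) hkB
    rwa [E_partner hS hlk.1 hlw hlk.2.2, polar_comm Q w k, hkw, zero_add, add_sub_assoc, add_sub_cancel_left] at h1
  have hlB : l ∈ B' := by
    have h1 := B'.sub_mem (hgood hz) (hgood hz')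
    rw [hQ', sub_sub_sub_cancel_right] at h1
    have h2 := B'.sub_mem (hinv' _ (E_mem_good hS hl hk hlk (by rw [compIn_comm]; exact hz)) _ h1) h1
    rw [E_apply_perp hS hlk.1 hlz (by rw [polar_sub_right, hlz, hlz', sub_zero]), sub_sub_cancel_left, ← neg_smul] at h2
    refine (Submodule.smul_mem_iff _ ?_).1 h2
    rw [neg_ne_zero, polar_sub_right, ORefl.polar_self_two, sub_ne_zero]
    intro e
    exact hne (by rw [← e]; ring)
  have hC : compIn Q U k l ≤ B' := by
    rw [hU] at hk hl ⊢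
    refine (hn k l hk hl hkl).2.trans (Submodule.span_le.2 ?_)
    rintro w (hw | ⟨rfl, h2⟩)
    · have := B'.add_mem (hgood (hU.symm ▸ hw)) (B'.smul_mem (Q w) hlB)
      simpa using this
    · refine (hB' w).2 fun s => ?_
      haveI := Fintype.ofFinite F
      rw [Nat.card_eq_fintype_card] at h2
      rcases eq_or_ne s 0 with rfl | hs
      · rw [zero_smul]; exact B.zero_mem
      · have := FiniteField.pow_card_sub_one_eq_one s hs
        rw [h2, pow_one] at this
        rw [this, one_smul]; exact hB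
  intro u hu
  have h0 : u - polar Q l u • k - polar Q k u • l ∈ compIn Q U k l := by
    refine mem_compIn.2 ⟨U.sub_mem (U.sub_mem hu (U.smul_mem _ hk)) (U.smul_mem _ hl), ?_⟩
    exact mem_comp.1 (exists_split hkl u)
  have := B'.add_mem (B'.add_mem (hC h0) (B'.smul_mem (polar Q l u) hkB)) (B'.smul_mem (polar Q k u) hlB)
  rw [show u - polar Q l u • k - polar Q k u • l + polar Q l u • k + polar Q k u • l = u by abel, hB'] at this
  simpa using this 1

end Frame

end Cfsg.Agent.Small.OMinIndex
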