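import Cfsg.Agent.Lib.Small.OMinIndex.Classes

/-!
# Not every point is regular

If the radical of every point stabiliser acts semiregularly and the degree is less than twice its order, it is
regular; then a short root element of the Levi part fixes a point.
-/

set_option autoImplicit false
set_option linter.unusedSectionVars false

namespace Cfsg.Agent.Small.OMinIndex

open Module QuadraticMap Cfsg.Agent.Classical Cfsg.Agent.Classical.OCount

variable {F : Type*} [Field F] [Finite F] {V : Type*} [AddCommGroup V] [Module F V] [FiniteDimensional F V]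
  {Q : QuadraticForm F V} {X : Type*} [MulAction (Om Q) X] [Finite X]

theorem NonDeg.mem_of_perp_perp {C : Submodule F V} (hC : NonDeg Q C) {u x : V} (hu : u ∈ C) (hu0 : u ≠ 0)
    (hx : x ∈ C) (h : ∀ y ∈ perpIn Q C u, polar Q x y = 0) : x ∈ F ∙ u := by
  obtain ⟨y₀, hy₀, hy₀u⟩ : ∃ y ∈ C, polar Q u y ≠ 0 := by
    by_contra! hc
    exact hu0 (hC u hu hc)
  have e : x - (polar Q x y₀ / polar Q u y₀) • u = 0 := by
    refine hC _ (C.sub_mem hx (C.smul_mem _ hu)) fun y hy => ?_
    have := h (y - (polar Q u y / polar Q u y₀) • y₀) (mem_perpIn.2 ⟨C.sub_mem hy (C.smul_mem _ hy₀), by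
      rw [polar_sub_right, polar_smul_right, smul_eq_mul, div_mul_cancel₀ _ hy₀u, sub_self]⟩)
    rw [polar_sub_right, polar_smul_right, smul_eq_mul] at this
    rw [polar_sub_left, polar_smul_left, smul_eq_mul]
    linear_combination this
  exact Submodule.mem_span_singleton.2 ⟨_, (sub_eq_zero.1 e).symm⟩

variable (hS : Space Q)
include hS

theorem exists_short_vector {C : Submodule F V} (hC : NonDeg Q C) (h3 : 3 ≤ finrank F C) :
    ∃ u ∈ C, Q u ≠ 0 ∧ (5 ≤ Nat.card F ∨ 4 ≤ finrank F C ∨ (2 : F) = 0 ∨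
      ∀ x ∈ perpIn Q C u, Q x = 0 → x = 0) := by
  haveI := Fintype.ofFinite F
  by_cases h2 : (2 : F) = 0
  · obtain ⟨u, hu, hQu⟩ := hC.exists_ns fun e => by rw [e, finrank_bot] at h3; omega
    exact ⟨u, hu, hQu, Or.inr (Or.inr (Or.inl h2))⟩
  by_cases hbig : 5 ≤ Nat.card F ∨ 4 ≤ finrank F C
  · obtain ⟨u, hu, hQu⟩ := hC.exists_ns fun e => by rw [e, finrank_bot] at h3; omega
    refine ⟨u, hu, hQu, ?_⟩
    tauto
  push Not at hbig
  have hF : Nat.card F = 3 := by
    have h1 : 1 < Fintype.card F := Fintype.one_lt_card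
    have h0 := FiniteField.cast_card_eq_zero F
    rw [Nat.card_eq_fintype_card] at hbig ⊢
    by_contra hne
    obtain h | h : Fintype.card F = 2 ∨ Fintype.card F = 4 := by omega
    · rw [h] at h0; exact h2 (by exact_mod_cast h0)
    · rw [h] at h0; exact h2 (mul_self_eq_zero.1 (by push_cast at h0; linear_combination h0))
  have hsq : ∀ s : F, s * s = 0 ∨ s * s = 1 := fun s => by
    rcases eq_or_ne s 0 with rfl | hs
    · exact Or.inl (mul_zero _)
    · have := FiniteField.pow_card_sub_one_eq_one s hs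
      rw [← Nat.card_eq_fintype_card, hF, show (3 - 1 : ℕ) = 2 from rfl, _root_.sq] at this
      exact Or.inr this
  obtain ⟨k, hk, hk0, hQk⟩ := QuadBasis.exists_singular Q h3
  obtain ⟨l, hl, hkl⟩ := exists_partner_in hk hQk (by
    by_contra! hc
    exact hk0 (hC k hk hc))
  have hd := finrank_comp_in (Q := Q) (U := C) k l
  obtain ⟨w, hw, hQw⟩ := (nonDeg_comp hC hk hl hkl).exists_ns fun e => by rw [e, finrank_bot] at hd; omega
  obtain ⟨⟨hwC, hwk⟩, hwl⟩ := (mem_perpIn.1 hw).imp_left mem_perpIn.1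
  refine ⟨k + (-Q w) • l, C.add_mem hk (C.smul_mem _ hl), ?_, Or.inr (Or.inr (Or.inr ?_))⟩
  · rw [value_pair hkl]; exact neg_ne_zero.2 hQw
  intro x hx hQx
  obtain ⟨hxC, hux⟩ := mem_perpIn.1 hx
  rw [polar_add_left, polar_smul_left, smul_eq_mul] at hux
  obtain ⟨r, hr⟩ : ∃ r, r = x - polar Q l x • k - polar Q k x • l := ⟨_, rfl⟩
  have hrC : r ∈ compIn Q C k l := by
    refine mem_compIn.2 ⟨hr ▸ C.sub_mem (C.sub_mem hxC (C.smul_mem _ hk)) (C.smul_mem _ hl), ?_⟩
    rw [hr]
    exact mem_comp.1 (exists_split hkl x)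
  have hd' := finrank_perpIn (Q := Q) (perpIn Q (perpIn Q C k) l) w
  obtain ⟨γ, hγ⟩ : ∃ γ, γ = polar Q w r / polar Q w w := ⟨_, rfl⟩
  have hww : polar Q w w ≠ 0 := by rw [ORefl.polar_self_two]; exact mul_ne_zero h2 hQw
  have hrw : r = γ • w := by
    by_contra hne
    have h1 : r - γ • w ∈ perpIn Q (perpIn Q (perpIn Q C k) l) w := mem_perpIn.2
      ⟨Submodule.sub_mem _ hrC (Submodule.smul_mem _ _ hw), by
        rw [polar_sub_right, polar_smul_right, smul_eq_mul, hγ, div_mul_cancel₀ _ hww, sub_self]⟩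
    have hdim : finrank F (perpIn Q (perpIn Q C k) l) ≤ 1 := by
      by_contra hbad
      obtain ⟨hk', hl'⟩ : k ∉ perpIn Q (perpIn Q C k) l ∧ l ∉ perpIn Q C k := by
        refine ⟨fun h => one_ne_zero (α := F) ?_, fun h => one_ne_zero (α := F) ?_⟩
        · have := (mem_perpIn.1 h).2
          rwa [polar_comm, show polar Q k l = 1 from hkl.2.2] at this
        · have := (mem_perpIn.1 h).2
          rwa [show polar Q k l = 1 from hkl.2.2] at this
      have l1 : perpIn Q (perpIn Q C k) l < perpIn Q C k :=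
        lt_of_le_not_ge inf_le_left fun h => hk' (h (mem_perpIn.2 ⟨hk, polar_self_zero hQk⟩))
      have l2 : perpIn Q C k < C := lt_of_le_not_ge inf_le_left fun h => hl' (h hl)
      have := Submodule.finrank_lt_finrank_of_lt l1
      have := Submodule.finrank_lt_finrank_of_lt l2
      omega
    have := Submodule.finrank_mono (show (F ∙ (r - γ • w)) ⊔ (F ∙ w) ≤ perpIn Q (perpIn Q C k) l from
      sup_le ((Submodule.span_singleton_le_iff_mem _ _).2 (mem_perpIn.1 h1).1)
        ((Submodule.span_singleton_le_iff_mem _ _).2 hw))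
    have hlt : F ∙ w < (F ∙ (r - γ • w)) ⊔ (F ∙ w) := lt_of_le_not_ge le_sup_right fun h => by
      obtain ⟨t, ht⟩ := Submodule.mem_span_singleton.1
        (h (Submodule.mem_sup_left (Submodule.mem_span_singleton_self _)))
      have h1' := (mem_perpIn.1 h1).2
      rw [← ht, polar_smul_right, smul_eq_mul] at h1'
      rw [(mul_eq_zero.1 h1').resolve_right hww, zero_smul, eq_comm, sub_eq_zero] at ht
      exact hne ht
    have := Submodule.finrank_lt_finrank_of_lt hlt
    rw [finrank_span_singleton (show w ≠ 0 from fun e => hQw (by rw [e, QuadraticMap.map_zero]))] at this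
    omega
  have hx' : x = polar Q l x • k + polar Q k x • l + γ • w := by rw [← hrw, hr]; abel
  obtain ⟨α, hα⟩ : ∃ α, α = polar Q l x := ⟨_, rfl⟩
  have hbeta : polar Q k x = α * Q w := by rw [hα]; linear_combination hux
  have hval : Q x = α * polar Q k x + γ * γ * Q w := by
    have h := apply_symm (Q := Q) hkl (polar Q l x) (polar Q k x) ⟨γ • w, mem_comp.2 ⟨by
      rw [polar_smul_right]; simp [hwk], by rw [polar_smul_right]; simp [hwl]⟩⟩
    change Q (polar Q l x • k + polar Q k x • l + γ • w) = polar Q l x * polar Q k x + Q (γ • w) at h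
    rw [← hx', QuadraticMap.map_smul, smul_eq_mul, ← hα] at h
    exact h
  rw [hQx, hbeta] at hval
  have h0 : α * α + γ * γ = 0 := (mul_eq_zero.1 (show (α * α + γ * γ) * Q w = 0 by linear_combination -hval)).resolve_right hQw
  rcases hsq α with e1 | e1 <;> rcases hsq γ with e2 | e2 <;> rw [e1, e2] at h0
  · rw [hx', ← hα, hbeta, mul_self_eq_zero.1 e1, mul_self_eq_zero.1 e2, zero_mul]
    simp
  · simp at h0
  · simp at h0
  · exact absurd (by linear_combination h0) h2

/-- Some radical of a point stabiliser does not act semiregularly. -/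
theorem exists_not_reg [Nonempty X] (hlt : Nat.card X < 2 * Nat.card F ^ (finrank F V - 2)) :
    ∃ (a : V) (x : X), Q a = 0 ∧ a ≠ 0 ∧ ¬ Reg (Q := Q) a x := by
  by_contra! hreg
  haveI : Finite V := Module.finite_of_finite F
  obtain ⟨⟨a, f⟩, hp, -⟩ := hS.exists_pair_in
  have ha : Q a = 0 := hp.1
  have ha0 : a ≠ 0 := fun e => one_ne_zero (α := F) (by
    rw [← show polar Q a f = 1 from hp.2.2, e, polar_zero_left])
  have huniq : ∀ (x : X) {w w' : V}, w ∈ comp Q (a, f) → w' ∈ comp Q (a, f) →
      (E a w : Om Q) • x = (E a w' : Om Q) • x → w = w' := by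
    intro x w w' hw hw' h
    have h1 := (mem_comp.1 hw).1
    have h2 := (mem_comp.1 hw').1
    have h3 : polar Q a (-w') = 0 := by rw [polar_neg_right, h2, neg_zero]
    have h4 := hreg a x ha ha0 (-w' + w) (by rw [polar_add_right, h3, h1, add_zero]) (by
      rw [← E_mul hS ha h3 h1, mul_smul, h, ← mul_smul, ← E_inv hS ha h2, inv_mul_cancel, one_smul])
    have h5 := eq_zero_of_comp_line hp (Submodule.add_mem _ (Submodule.neg_mem _ hw') hw) h4
    exact (neg_add_eq_zero.1 h5).symm
  have hone : ∀ x y : X, orb hS ha x = orb hS ha y := by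
    intro x y
    by_contra hne
    have hsz : ∀ z : X, Nat.card {w : X // orb hS ha w = orb hS ha z} = Nat.card F ^ (finrank F V - 2) := by
      intro z
      have h1 := card_orbB hS ha ha0 z
      have h2 : stabA hS ha z = (F ∙ a).toAddSubgroup := AddSubgroup.ext fun w =>
        ⟨fun hw => hreg a z ha ha0 w hw.1 hw.2, fun hw => by
          obtain ⟨t, rfl⟩ := Submodule.mem_span_singleton.1 hw
          exact line_le_stabA hS ha z t⟩
      have h3 := card_mul_card_dual hS.pnd (stabA hS ha z)
      change Nat.card (stabA hS ha z) * Nat.card (subB hS ha z) = _ at h3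
      have h4 : Nat.card (stabA hS ha z) = Nat.card F := by
        rw [h2]
        exact Nat.card_congr (LinearEquiv.toSpanNonzeroSingleton F V a ha0).toEquiv.symm
      rw [h4, h1, natCard_eq_pow_finrank (K := F) (V := V),
        show finrank F V = finrank F V - 2 + 1 + 1 by have := hS.seven; omega, pow_succ', pow_succ'] at h3
      exact Nat.eq_of_mul_eq_mul_left Nat.card_pos (Nat.eq_of_mul_eq_mul_left Nat.card_pos h3)
    let φ : {w : X // orb hS ha w = orb hS ha x} ⊕ {w : X // orb hS ha w = orb hS ha y} → X :=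
      Sum.elim Subtype.val Subtype.val
    have hφ : Function.Injective φ := by
      rintro (u | u) (w | w) e <;> change u.1 = w.1 at e
      · rw [Subtype.ext e]
      · exact absurd (u.2.symm.trans ((congrArg (orb hS ha) e).trans w.2)) hne
      · exact absurd (w.2.symm.trans ((congrArg (orb hS ha) e.symm).trans u.2)) hne
      · rw [Subtype.ext e]
    have := Nat.card_le_card_of_injective φ hφ
    rw [Nat.card_sum, hsz, hsz] at this
    omega
  have hget : ∀ x y : X, ∃ w ∈ comp Q (a, f), (E a w : Om Q) • x = y := by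
    intro x y
    obtain ⟨w, hw, h⟩ := (orb_eq_iff hS ha).1 (hone x y)
    refine ⟨_, proj_mem hp hw, ?_⟩
    rwa [sub_eq_add_neg, ← neg_smul, E_add_smul hS ha hw]
  -- a short root element of the Levi part
  have hW := nonDeg_comp_top hS hp
  have h5 := finrank_comp_ge hS hp
  obtain ⟨⟨c, d⟩, hcd, hcW, hdW⟩ := exists_singular_pair_in hS hp hW (le_trans (by norm_num) h5)
  change c ∈ comp Q (a, f) at hcW
  change d ∈ comp Q (a, f) at hdW
  have hd0 := finrank_comp_in (Q := Q) (U := comp Q (a, f)) c d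
  have hC := nonDeg_comp hW hcW hdW hcd
  obtain ⟨u, hu, hQu, hucase⟩ := exists_short_vector hS hC (by omega)
  obtain ⟨huW, hcu, hdu⟩ := mem_compIn.1 hu
  have hu0 : u ≠ 0 := fun e => hQu (by rw [e, QuadraticMap.map_zero])
  have hQc : Q c = 0 := hcd.1
  have hdc : polar Q d c = 1 := by rw [polar_comm]; exact hcd.2.2
  have hfix : ∀ w ∈ comp Q (a, f), polar Q c w = 0 → (E c w : Om Q) • a = a ∧ (E c w : Om Q) • f = f := by
    intro w hw hcw
    obtain ⟨w1, w2⟩ := mem_comp.1 hw
    obtain ⟨c1, c2⟩ := mem_comp.1 hcW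
    exact ⟨E_fix hS hQc hcw (by rw [polar_comm]; exact c1) (by rw [polar_comm]; exact w1),
      E_fix hS hQc hcw (by rw [polar_comm]; exact c2) (by rw [polar_comm]; exact w2)⟩
  obtain ⟨x₀⟩ := ‹Nonempty X›
  obtain ⟨δ, hδ, hzx⟩ := hget x₀ ((E c u : Om Q) • x₀)
  have hmove : ∀ (g : Om Q), g • a = a → g • f = f → ∀ w ∈ comp Q (a, f), g • w ∈ comp Q (a, f) ∧
      g * E a w = E a (g • w) * g := by
    intro g ga gf w hw
    obtain ⟨w1, w2⟩ := mem_comp.1 hw
    refine ⟨mem_comp.2 ⟨?_, ?_⟩, ?_⟩
    · change polar Q a (g • w) = 0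
      rw [← ga, polar_smul]; exact w1
    · change polar Q f (g • w) = 0
      rw [← gf, polar_smul]; exact w2
    · have := conj_E hS ha w1 g
      rw [ga] at this
      rw [← this, inv_mul_cancel_right]
  obtain ⟨za, zf⟩ := hfix u huW hcu
  have hzdiff : ∀ w, (E c u : Om Q) • w - w ∈ Submodule.span F {c, u} := fun w => by
    rw [E_apply hS hQc hcu]
    exact Submodule.mem_span_pair.2 ⟨-(polar Q u w + Q u * polar Q c w), polar Q c w, by module⟩
  have key : ∀ g : Om Q, g • a = a → g • f = f → g * E c u = E c u * g →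
      g • δ - δ ∈ Submodule.span F {c, u} := by
    intro g ga gf hcomm
    obtain ⟨γ, hγ, hgx⟩ := hget x₀ (g • x₀)
    obtain ⟨g1, g2⟩ := hmove g ga gf δ hδ
    obtain ⟨z1, z2⟩ := hmove _ za zf γ hγ
    have e := congrArg (· • x₀) hcomm
    simp only [mul_smul] at e
    rw [← hzx, ← mul_smul, g2, mul_smul, ← hgx, ← mul_smul, ← mul_smul (E c u : Om Q) (E a γ) x₀,
      E_mul hS ha (mem_comp.1 g1).1 (mem_comp.1 hγ).1, z2, mul_smul, ← hzx, ← mul_smul,
      E_mul hS ha (mem_comp.1 z1).1 (mem_comp.1 hδ).1] at e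
    have e' := huniq x₀ (Submodule.add_mem _ g1 hγ) (Submodule.add_mem _ z1 hδ) e
    rw [show g • δ - δ = (E c u : Om Q) • γ - γ from sub_eq_sub_iff_add_eq_add.2 e']
    exact hzdiff γ
  have hspan : ∀ w ∈ compIn Q (comp Q (a, f)) c d, w ∈ Submodule.span F {c, u} → w ∈ F ∙ u := by
    intro w hw h
    obtain ⟨s, t, rfl⟩ := Submodule.mem_span_pair.1 h
    have h1 := (mem_compIn.1 hw).2.2
    rw [polar_add_right, polar_smul_right, polar_smul_right, hdc, hdu, smul_zero, add_zero, smul_eq_mul, mul_one] at h1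
    subst h1
    rw [zero_smul, zero_add]
    exact Submodule.smul_mem _ t (Submodule.mem_span_singleton_self u)
  -- `δ ⊥ c`
  have hcδ : polar Q c δ = 0 := by
    obtain ⟨w, hw, hwu⟩ : ∃ w ∈ compIn Q (comp Q (a, f)) c d, w ∉ F ∙ u := by
      by_contra! hc
      have h1 := Submodule.finrank_mono (show perpIn Q (perpIn Q (comp Q (a, f)) c) d ≤ F ∙ u from hc)
      rw [finrank_span_singleton hu0] at h1
      omega
    obtain ⟨hwW, hcw, hdw⟩ := mem_compIn.1 hw
    obtain ⟨wa, wf⟩ := hfix w hwW hcw
    have h := key _ wa wf (by rw [E_mul hS hQc hcw hcu, E_mul hS hQc hcu hcw, add_comm])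
    rw [E_apply hS hQc hcw] at h
    by_contra hne
    have h' := Submodule.add_mem _ h (Submodule.smul_mem (Submodule.span F {c, u}) (polar Q w δ + Q w * polar Q c δ)
      (Submodule.subset_span (show c ∈ ({c, u} : Set V) from Or.inl rfl)))
    rw [show δ + polar Q c δ • w - (polar Q w δ + Q w * polar Q c δ) • c - δ + (polar Q w δ + Q w * polar Q c δ) • c =
      polar Q c δ • w by abel] at h'
    exact hwu (hspan w hw ((Submodule.smul_mem_iff _ hne).1 h'))
  obtain ⟨δ', hδ'⟩ : ∃ δ', δ' = δ - polar Q d δ • c := ⟨_, rfl⟩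
  have hδ'C : δ' ∈ compIn Q (comp Q (a, f)) c d := by
    refine mem_compIn.2 ⟨hδ' ▸ Submodule.sub_mem _ hδ (Submodule.smul_mem _ _ hcW), ?_, ?_⟩
    · rw [hδ', polar_sub_right, hcδ, polar_smul_right, polar_self_zero hQc, smul_zero, sub_zero]
    · rw [hδ', polar_sub_right, polar_smul_right, hdc, smul_eq_mul, mul_one, sub_self]
  have hδpol : ∀ {y}, polar Q c y = 0 → polar Q y δ' = polar Q y δ := fun {y} hy => by
    rw [hδ', polar_sub_right, polar_smul_right, polar_comm Q y c, hy, smul_zero, sub_zero]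
  have hperp : ∀ y ∈ perpIn Q (compIn Q (comp Q (a, f)) c d) u, polar Q δ' y = 0 := by
    by_cases h2 : (2 : F) = 0
    · -- even characteristic
      have hzz : (E c u : Om Q) * E c u = 1 := by
        rw [E_mul hS hQc hcu hcu, show u + u = (2 : F) • u by rw [two_smul], h2, zero_smul, E_zero hS hQc]
      obtain ⟨z1, z2⟩ := hmove _ za zf δ hδ
      have e : (E a ((E c u : Om Q) • δ + δ) : Om Q) • x₀ = (E a (0 : V) : Om Q) • x₀ := by
        rw [← E_mul hS ha (mem_comp.1 z1).1 (mem_comp.1 hδ).1, mul_smul, hzx, ← mul_smul, ← z2, mul_smul, hzx,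
          ← mul_smul, hzz, E_zero hS ha]
      have e' := huniq x₀ (Submodule.add_mem _ z1 hδ) (Submodule.zero_mem _) e
      rw [E_apply_perp hS hQc hcu hcδ] at e'
      have huδ : polar Q u δ = 0 := by
        have h1 : polar Q u δ • c = (2 : F) • δ := by rw [two_smul]; linear_combination (norm := module) -e'
        rw [h2, zero_smul] at h1
        exact (smul_eq_zero.1 h1).resolve_right fun hc0 => one_ne_zero (α := F) (by
          rw [← hdc, hc0, polar_zero_right])
      haveI := Fintype.ofFinite F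
      intro y hy
      obtain ⟨hyC, huy⟩ := mem_perpIn.1 hy
      obtain ⟨t, ht⟩ := QuadBasis.exists_sq h2 (Q y / Q u)
      obtain ⟨k, hk⟩ : ∃ k, k = y + t • u := ⟨_, rfl⟩
      have hQk : Q k = 0 := by
        rw [hk, map_two, QuadraticMap.map_smul, polar_smul_right, polar_comm Q y u, huy, smul_zero, add_zero,
          smul_eq_mul, ht, div_mul_cancel₀ _ hQu]
        linear_combination Q y * h2
      have hkC : k ∈ compIn Q (comp Q (a, f)) c d := hk ▸ Submodule.add_mem _ hyC (Submodule.smul_mem _ _ hu)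
      have hku : polar Q k u = 0 := by
        rw [hk, polar_add_left, polar_smul_left, polar_comm Q y u, huy, two_eq_zero_polar h2, smul_zero, add_zero]
      obtain ⟨hkW, hck, hdk⟩ := mem_compIn.1 hkC
      obtain ⟨k1, k2⟩ := mem_comp.1 hkW
      obtain ⟨u1, u2⟩ := mem_comp.1 huW
      have gc : (E k u : Om Q) • c = c := E_fix hS hQk hku (by rw [polar_comm]; exact hck) (by rw [polar_comm]; exact hcu)
      have gu : (E k u : Om Q) • u = u := E_fix hS hQk hku hku (two_eq_zero_polar h2 u)
      have hcomm : (E k u : Om Q) * E c u = E c u * E k u := by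
        have := conj_E hS hQc hcu (E k u)
        rw [gc, gu] at this
        exact mul_inv_eq_iff_eq_mul.1 this
      have h := key _ (E_fix hS hQk hku (by rw [polar_comm]; exact k1) (by rw [polar_comm]; exact u1))
        (E_fix hS hQk hku (by rw [polar_comm]; exact k2) (by rw [polar_comm]; exact u2)) hcomm
      rw [E_apply hS hQk hku, huδ, zero_add] at h
      have h' := Submodule.sub_mem _ (Submodule.smul_mem _ (polar Q k δ) (Submodule.subset_span
        (show u ∈ ({c, u} : Set V) from Or.inr rfl))) h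
      rw [show polar Q k δ • u - (δ + polar Q k δ • u - (Q u * polar Q k δ) • k - δ) = (Q u * polar Q k δ) • k by
        module] at h'
      have hkδ : polar Q k δ = 0 := by
        by_contra hne
        obtain ⟨r, hr⟩ := Submodule.mem_span_singleton.1
          (hspan k hkC ((Submodule.smul_mem_iff _ (mul_ne_zero hQu hne)).1 h'))
        rw [← hr, QuadraticMap.map_smul, smul_eq_mul] at hQk
        rw [← hr, mul_self_eq_zero.1 ((mul_eq_zero.1 hQk).resolve_right hQu), zero_smul, polar_zero_left] at hne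
        exact hne rfl
      rw [show y = k - t • u by rw [hk]; abel, polar_sub_right, polar_smul_right, polar_comm Q δ' k, hδpol hck,
        hkδ, polar_comm Q δ' u, hδpol hcu, huδ, smul_zero, sub_zero]
    · -- odd characteristic
      have hU := hC.perp h2 hu hQu
      have hd2 := finrank_perpIn (Q := Q) (perpIn Q (perpIn Q (comp Q (a, f)) c) d) u
      have hgood := (span_good_odd hU h2
        (show 2 ≤ finrank F (perpIn Q (perpIn Q (perpIn Q (comp Q (a, f)) c) d) u) by omega) (by
        rcases hucase with h | h | h | h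
        · exact Or.inl h
        · refine Or.inr (Or.inl ?_)
          change 3 ≤ finrank F (perpIn Q (perpIn Q (perpIn Q (comp Q (a, f)) c) d) u)
          change 4 ≤ finrank F (perpIn Q (perpIn Q (comp Q (a, f)) c) d) at h
          omega
        · exact absurd h h2
        · exact Or.inr (Or.inr h))).2
      intro y hy
      have hzero : ∀ z, Good Q (perpIn Q (compIn Q (comp Q (a, f)) c d) u) z → polar Q δ' z = 0 := by
        intro z hz
        obtain ⟨z', hz', hQ', hne⟩ := hz.exists_sym
        obtain ⟨hzC, huz⟩ := mem_perpIn.1 hz.mem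
        obtain ⟨hz'C, huz'⟩ := mem_perpIn.1 hz'.mem
        obtain ⟨hzW, hcz, -⟩ := mem_compIn.1 hzC
        obtain ⟨hz'W, hcz', -⟩ := mem_compIn.1 hz'C
        obtain ⟨r, hr⟩ := hS.exists_refl_two hz.ne one_ne_zero (by rw [hQ', one_pow, one_mul] : Q z' = 1 ^ 2 * Q z)
        have rfix : ∀ x, polar Q z x = 0 → polar Q z' x = 0 → r • x = x := fun x h1 h2 => by
          rw [hr, ORefl.refl_fix h2, ORefl.refl_fix h1]
        have rc := rfix c (by rw [polar_comm]; exact hcz) (by rw [polar_comm]; exact hcz')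
        have ru := rfix u (by rw [polar_comm]; exact huz) (by rw [polar_comm]; exact huz')
        have hcomm : r * E c u = E c u * r := by
          have := conj_E hS hQc hcu r
          rw [rc, ru] at this
          exact mul_inv_eq_iff_eq_mul.1 this
        have h := key r (rfix a (by rw [polar_comm]; exact (mem_comp.1 hzW).1)
          (by rw [polar_comm]; exact (mem_comp.1 hz'W).1))
          (rfix f (by rw [polar_comm]; exact (mem_comp.1 hzW).2) (by rw [polar_comm]; exact (mem_comp.1 hz'W).2))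
          hcomm
        obtain ⟨s, t, hst⟩ := Submodule.mem_span_pair.1 h
        have hrU : r • δ - δ ∈ perpIn Q (compIn Q (comp Q (a, f)) c d) u := by
          rw [hr, ORefl.refl_apply, ORefl.refl_apply, show δ - ((Q z')⁻¹ * polar Q z' δ) • z' -
            ((Q z)⁻¹ * polar Q z (δ - ((Q z')⁻¹ * polar Q z' δ) • z')) • z - δ =
            (-((Q z')⁻¹ * polar Q z' δ)) • z' +
              (-((Q z)⁻¹ * polar Q z (δ - ((Q z')⁻¹ * polar Q z' δ) • z'))) • z by module]
          exact Submodule.add_mem _ (Submodule.smul_mem _ _ hz'.mem) (Submodule.smul_mem _ _ hz.mem)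
        rw [← hst] at hrU
        obtain ⟨hC1, hu1⟩ := mem_perpIn.1 hrU
        have h1 := (mem_compIn.1 hC1).2.2
        rw [polar_add_right, polar_smul_right, polar_smul_right, hdc, hdu] at h1
        rw [polar_add_right, polar_smul_right, polar_smul_right, polar_comm Q u c, hcu, ORefl.polar_self_two] at hu1
        simp only [smul_eq_mul, mul_zero, mul_one, add_zero, zero_add] at h1 hu1
        rw [h1, (mul_eq_zero.1 hu1).resolve_right (mul_ne_zero h2 hQu), zero_smul, zero_smul, add_zero,
          eq_comm, sub_eq_zero, hr] at hst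
        have e1 := congrArg (ORefl.refl Q z) hst
        rw [show ORefl.refl Q z (ORefl.refl Q z (ORefl.refl Q z' δ)) = ORefl.refl Q z' δ from
          LinearEquiv.congr_fun (ORefl.refl_mul_self z) _, ORefl.refl_apply, ORefl.refl_apply, sub_right_inj,
          hQ'] at e1
        rw [polar_comm, hδpol hcz]
        by_contra hzd
        obtain ⟨ρ, hρ⟩ : ∃ ρ, ρ = polar Q z' δ / polar Q z δ := ⟨_, rfl⟩
        have ez : z = ρ • z' := by
          have h0 := hz.ne
          have := congrArg (((Q z)⁻¹ * polar Q z δ)⁻¹ • ·) e1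
          simp only [smul_smul] at this
          rw [inv_mul_cancel₀ (mul_ne_zero (inv_ne_zero h0) hzd), one_smul] at this
          rw [← this, hρ]
          congr 1
          field_simp
        have e2 := congrArg Q ez
        rw [QuadraticMap.map_smul, hQ', smul_eq_mul] at e2
        refine hne ?_
        conv_lhs => rw [ez, polar_smul_left, ORefl.polar_self_two, hQ', smul_eq_mul]
        linear_combination (-4 * Q z) * e2
      have hspan' : Submodule.span F {z | Good Q (perpIn Q (compIn Q (comp Q (a, f)) c d) u) z} ≤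
          LinearMap.ker (Q.polarBilin δ') := Submodule.span_le.2 fun z hz => by simpa using hzero z hz
      simpa using hspan' (hgood hy)
  obtain ⟨β, hβ⟩ := Submodule.mem_span_singleton.1 (hC.mem_of_perp_perp hu hu0 hδ'C hperp)
  obtain ⟨α, hα⟩ : ∃ α, α = polar Q d δ := ⟨_, rfl⟩
  obtain ⟨y₀, hy₀, huy₀⟩ : ∃ y ∈ compIn Q (comp Q (a, f)) c d, polar Q u y = 1 := by
    obtain ⟨y, hy, hne⟩ : ∃ y ∈ compIn Q (comp Q (a, f)) c d, polar Q u y ≠ 0 := by
      by_contra! hc
      exact hu0 (hC u hu hc)
    exact ⟨(polar Q u y)⁻¹ • y, Submodule.smul_mem _ _ hy, by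
      rw [polar_smul_right, smul_eq_mul, inv_mul_cancel₀ hne]⟩
  obtain ⟨hy₀W, hcy₀, -⟩ := mem_compIn.1 hy₀
  obtain ⟨ω, hω⟩ : ∃ ω, ω = (-β) • d + (α + Q u * β) • y₀ := ⟨_, rfl⟩
  have hωW : ω ∈ comp Q (a, f) := hω ▸ Submodule.add_mem _ (Submodule.smul_mem _ _ hdW) (Submodule.smul_mem _ _ hy₀W)
  obtain ⟨z1, z2⟩ := hmove _ za zf ω hωW
  have hzω : (E c u : Om Q) • ω + δ = ω := by
    have hδe : δ = α • c + β • u := by rw [hβ, hδ', hα]; abel
    rw [E_apply hS hQc hcu, hω, hδe]
    simp only [polar_add_right, polar_smul_right, hcy₀, huy₀, show polar Q c d = 1 from hcd.2.2,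
      show polar Q u d = 0 by rw [polar_comm]; exact hdu, smul_eq_mul]
    module
  have hfixy : (E c u : Om Q) • (E a ω : Om Q) • x₀ = (E a ω : Om Q) • x₀ := by
    rw [← mul_smul, z2, mul_smul, ← hzx, ← mul_smul, E_mul hS ha (mem_comp.1 z1).1 (mem_comp.1 hδ).1, hzω]
  have hc0 : c ≠ 0 := fun e => one_ne_zero (α := F) (by rw [← hdc, e, polar_zero_right])
  obtain ⟨t, ht⟩ := Submodule.mem_span_singleton.1 (hreg c _ hQc hc0 u hcu hfixy)
  exact hQu (by rw [← ht, QuadraticMap.map_smul, hQc, smul_zero])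

end Cfsg.Agent.Small.OMinIndex
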