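import Cfsg.Agent.Lib.Small.OMinIndex.Special
import Cfsg.Agent.Lib.Small.OMinIndex.Regular

/-!
# A small transitive action has a point stabiliser fixing a line

Hence a proper subgroup of small index lies in the stabiliser of a line, and its index is at least the number
of points in the orbit of the line.
-/

set_option autoImplicit false
set_option linter.unusedSectionVars false

namespace Cfsg.Agent.Small.OMinIndex

open Module QuadraticMap Cfsg.Agent.Classical Cfsg.Agent.Classical.OCount

variable {F : Type*} [Field F] [Finite F] {V : Type*} [AddCommGroup V] [Module F V] [FiniteDimensional F V]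
  {Q : QuadraticForm F V}

variable (hS : Space Q)
include hS

/-- Some point stabiliser fixes a line. -/
theorem exists_stab_line {X : Type*} [MulAction (Om Q) X] [Finite X] [Nonempty X] {m : ℕ}
    (hd : AnisoBound Q (Nat.card X)) (hsb : SingBound Q (Nat.card X) m)
    (hlt : Nat.card X < 2 * Nat.card F ^ (finrank F V - 2)) (htrans : ∀ x y : X, ∃ g : Om Q, g • x = y)
    (hmove : ∀ x : X, ∃ g : Om Q, g • x ≠ x) :
    ∃ (x : X) (v : V), v ≠ 0 ∧ ∀ g : Om Q, g • x = x → g • v ∈ F ∙ v := by
  obtain ⟨a, x, ha, ha0, hr⟩ := exists_not_reg hS hlt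
  refine ⟨x, exists_fixed_line hS (fun e he he0 her => ?_) ⟨a, ha, ha0, hr⟩ (hmove x)⟩
  obtain ⟨f, hp⟩ := OOmega.exists_pair hS.pnd he0 he
  exact exists_hyp hS hp hd hsb (fun hE hw => no_exceptional hS hd hsb hE htrans hmove he he0 hw) her

/-- What is needed of the numbers to exclude degrees below `P`. -/
structure Bounds (Q : QuadraticForm F V) (m P : ℕ) : Prop where
  aniso : ∀ d < P, AnisoBound Q d
  sing : ∀ d < P, SingBound Q d m
  reg : P ≤ 2 * Nat.card F ^ (finrank F V - 2)
  points : P * (Nat.card F - 1) ≤ Nat.card {v : V // v ≠ 0 ∧ Q v = 0}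
  values : ∀ c : F, c ≠ 0 → P * Nat.card {t : F // t * t = 1} ≤ Nat.card {v : V // Q v = c}

/-- The vectors in the orbit of a line fixed by a stabiliser. -/
theorem card_orbit_le {X : Type*} [MulAction (Om Q) X] [Finite X] {x : X} {v : V}
    (hx : ∀ g : Om Q, g • x = x → g • v ∈ F ∙ v) (htrans : ∀ y : X, ∃ g : Om Q, g • x = y) (T : Set F)
    (hT : ∀ (g : Om Q) (t : F), g • v = t • v → t ∈ T) (W : Set V) (hW : ∀ w ∈ W, ∃ g : Om Q, g • v = w) :
    Nat.card W ≤ Nat.card X * Nat.card T := by
  haveI : Finite V := Module.finite_of_finite F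
  choose gy hgy using htrans
  have key : ∀ w : W, ∃ p : X × T, (p.2 : F) • gy p.1 • v = (w : V) := by
    rintro ⟨w, hw⟩
    obtain ⟨g, hg⟩ := hW w hw
    have h1 : ((gy (g • x))⁻¹ * g) • x = x := by rw [mul_smul, inv_smul_eq_iff, hgy]
    obtain ⟨t, ht⟩ := Submodule.mem_span_singleton.1 (hx _ h1)
    refine ⟨(g • x, ⟨t, hT _ t ht.symm⟩), ?_⟩
    show t • gy (g • x) • v = w
    rw [← smul_scalar, ht, ← mul_smul, mul_inv_cancel_left, hg]
  choose p hp using key
  rw [← Nat.card_prod]
  exact Nat.card_le_card_of_injective p fun w w' e => Subtype.ext (by rw [← hp w, e, hp w'])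

/-- No proper subgroup has index below `P`. -/
theorem le_index {m P : ℕ} (hb : Bounds Q m P) (K : Subgroup (Om Q)) (hK : K ≠ ⊤) : P ≤ K.index := by
  haveI : Finite V := Module.finite_of_finite F
  haveI : Finite (V ≃ₗ[F] V) := Finite.of_injective _ DFunLike.coe_injective
  by_contra! hlt
  have hd : Nat.card (Om Q ⧸ K) = K.index := rfl
  have htrans : ∀ x y : Om Q ⧸ K, ∃ g : Om Q, g • x = y := fun x y => MulAction.exists_smul_eq _ x y
  have hmove : ∀ x : Om Q ⧸ K, ∃ g : Om Q, g • x ≠ x := fun x => by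
    by_contra! hfix
    refine hK ((Subgroup.eq_top_iff' K).2 fun g => ?_)
    obtain ⟨h, hh⟩ := htrans ((1 : Om Q) : Om Q ⧸ K) x
    have h1 : g • ((1 : Om Q) : Om Q ⧸ K) = ((1 : Om Q) : Om Q ⧸ K) := by
      refine MulAction.injective h ?_
      show h • g • _ = h • _
      rw [← mul_smul, show h * g = (h * g * h⁻¹) * h by group, mul_smul, hh, hfix]
    rw [MulAction.Quotient.smul_coe, smul_eq_mul, mul_one, QuotientGroup.eq, mul_one, inv_mem_iff] at h1
    exact h1
  obtain ⟨x, v, hv0, hfix⟩ := exists_stab_line hS (hb.aniso _ (hd ▸ hlt)) (hb.sing _ (hd ▸ hlt))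
    (lt_of_lt_of_le (hd ▸ hlt) hb.reg) htrans hmove
  by_cases hQv : Q v = 0
  · have h := card_orbit_le hS hfix (htrans x) {t : F | t ≠ 0}
      (fun g t e ht => hv0 (smul_inj g (by rw [e, ht, zero_smul, smul_zero']))) {w : V | w ≠ 0 ∧ Q w = 0}
      (fun w hw => exists_move_vector hS hQv hv0 hw.2 hw.1)
    have hc : Nat.card {t : F | t ≠ 0} = Nat.card F - 1 := by
      haveI := Fintype.ofFinite F
      classical
      rw [Nat.card_eq_fintype_card, Nat.card_eq_fintype_card, ← Fintype.card_units]
      exact Fintype.card_congr unitsEquivNeZero.symm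
    rw [hc, hd] at h
    exact absurd (Nat.le_of_mul_le_mul_right (hb.points.trans h) (by
      have : 1 < Nat.card F := Finite.one_lt_card
      omega)) (not_le.2 hlt)
  · have h := card_orbit_le hS hfix (htrans x) {t : F | t * t = 1} (fun g t e => by
      have h1 := form_smul g v
      rw [e, QuadraticMap.map_smul, smul_eq_mul] at h1
      exact mul_right_cancel₀ hQv (h1.trans (one_mul _).symm)) {w : V | Q w = Q v}
      (fun w hw => exists_move_value hS hQv hw)
    rw [hd] at h
    haveI : Nonempty {t : F | t * t = 1} := ⟨⟨1, mul_one 1⟩⟩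
    exact absurd (Nat.le_of_mul_le_mul_right ((hb.values _ hQv).trans h) (Nat.card_pos (α := {t : F | t * t = 1})))
      (not_le.2 hlt)

end Cfsg.Agent.Small.OMinIndex
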