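import Cfsg.Agent.Lib.Small.OMinIndex.Basic

/-!
# Transitivity of `Ω` on vectors and singular points
-/

set_option autoImplicit false
set_option linter.unusedSectionVars false

namespace Cfsg.Agent.Small.OMinIndex

open Module QuadraticMap Cfsg.Agent.Classical Cfsg.Agent.Classical.OCount

variable {F : Type*} [Field F] [Finite F] {V : Type*} [AddCommGroup V] [Module F V] [FiniteDimensional F V]
  {Q : QuadraticForm F V}

/-! ### Subspaces -/

/-- The vectors of `U` orthogonal to `x`. -/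
def perpIn (Q : QuadraticForm F V) (U : Submodule F V) (x : V) : Submodule F V :=
  U ⊓ LinearMap.ker (Q.polarBilin x)

theorem mem_perpIn {U : Submodule F V} {x y : V} : y ∈ perpIn Q U x ↔ y ∈ U ∧ polar Q x y = 0 := by
  simp [perpIn]

theorem finrank_perpIn (U : Submodule F V) (x : V) : finrank F U ≤ finrank F (perpIn Q U x) + 1 := by
  have h1 := Submodule.finrank_sup_add_finrank_inf_eq U (LinearMap.ker (Q.polarBilin x))
  have h2 := (Q.polarBilin x).finrank_range_add_finrank_ker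
  have h3 : finrank F (LinearMap.range (Q.polarBilin x)) ≤ 1 := (Submodule.finrank_le _).trans (finrank_self F).le
  have h4 := Submodule.finrank_le (U ⊔ LinearMap.ker (Q.polarBilin x))
  rw [perpIn]
  omega

theorem exists_partner_in {U : Submodule F V} {k : V} (hk : k ∈ U) (hQk : Q k = 0)
    (h : ∃ y ∈ U, polar Q k y ≠ 0) : ∃ l ∈ U, IsHPair Q (k, l) := by
  obtain ⟨y, hy, hky⟩ := h
  obtain ⟨z, hz⟩ : ∃ z, z = (polar Q k y)⁻¹ • y := ⟨_, rfl⟩
  have hzU : z ∈ U := hz ▸ U.smul_mem _ hy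
  have hkz : polar Q k z = 1 := by rw [hz, polar_smul_right, smul_eq_mul, inv_mul_cancel₀ hky]
  refine ⟨z - Q z • k, U.sub_mem hzU (U.smul_mem _ hk), hQk, ?_, ?_⟩
  · change Q (z - Q z • k) = 0
    rw [ORefl.map_sub_two, QuadraticMap.map_smul, hQk, polar_smul_right, polar_comm Q z k, hkz]
    simp
  · change polar Q k (z - Q z • k) = 1
    rw [polar_sub_right, hkz, polar_smul_right, polar_self_zero hQk, smul_zero, sub_zero]

/-- A vector orthogonal to the singular vectors of an isotropic subspace is orthogonal to the subspace. -/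
theorem perp_of_singular {U : Submodule F V} {k l : V} (hk : k ∈ U) (hl : l ∈ U) (hp : IsHPair Q (k, l)) {x : V}
    (hx : ∀ s ∈ U, Q s = 0 → polar Q x s = 0) {c : V} (hc : c ∈ U) : polar Q x c = 0 := by
  obtain ⟨hQk, hQl, hkl⟩ := hp
  have hxk := hx k hk hQk
  have hxl := hx l hl hQl
  obtain ⟨c₀, hc₀⟩ : ∃ c₀, c₀ = c - polar Q l c • k - polar Q k c • l := ⟨_, rfl⟩
  have hc₀U : c₀ ∈ U := hc₀ ▸ U.sub_mem (U.sub_mem hc (U.smul_mem _ hk)) (U.smul_mem _ hl)
  have h0 : polar Q k c₀ = 0 ∧ polar Q l c₀ = 0 :=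
    mem_comp.mp (hc₀ ▸ exists_split (p := (k, l)) ⟨hQk, hQl, hkl⟩ c : c₀ ∈ comp Q (k, l))
  have hs : Q ((1 : F) • k + (-Q c₀) • l + c₀) = 0 := by
    have := apply_symm (Q := Q) (p := (k, l)) ⟨hQk, hQl, hkl⟩ 1 (-Q c₀) ⟨c₀, mem_comp.mpr h0⟩
    simpa using this
  have h1 := hx _ (U.add_mem (U.add_mem (U.smul_mem _ hk) (U.smul_mem _ hl)) hc₀U) hs
  simp only [polar_add_right, polar_smul_right, hxk, hxl, smul_zero, zero_add] at h1
  have e : c = c₀ + polar Q l c • k + polar Q k c • l := by rw [hc₀]; abel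
  rw [e]
  simp only [polar_add_right, polar_smul_right, hxk, hxl, h1, smul_zero, add_zero]

/-- No radical. -/
def NonDeg (Q : QuadraticForm F V) (U : Submodule F V) : Prop := ∀ x ∈ U, (∀ u ∈ U, polar Q x u = 0) → x = 0

theorem nonDeg_top (hQ : PND Q) : NonDeg Q ⊤ := fun x _ h => hQ x fun w => h w Submodule.mem_top

theorem nonDeg_comp {U : Submodule F V} (hU : NonDeg Q U) {k l : V} (hk : k ∈ U) (hl : l ∈ U)
    (hp : IsHPair Q (k, l)) : NonDeg Q (perpIn Q (perpIn Q U k) l) := by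
  intro x hx h
  obtain ⟨⟨hxU, hxk⟩, hxl⟩ := (mem_perpIn.1 hx).imp_left mem_perpIn.1
  refine hU x hxU fun u hu => ?_
  have hu' : u - polar Q l u • k - polar Q k u • l ∈ perpIn Q (perpIn Q U k) l := by
    refine mem_perpIn.2 ⟨mem_perpIn.2 ⟨U.sub_mem (U.sub_mem hu (U.smul_mem _ hk)) (U.smul_mem _ hl), ?_⟩, ?_⟩
    · exact (mem_comp.mp (exists_split hp u)).1
    · exact (mem_comp.mp (exists_split hp u)).2
  have h1 := h _ hu'
  rw [polar_sub_right, polar_sub_right, polar_smul_right, polar_smul_right, polar_comm Q x k, hxk,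
    polar_comm Q x l, hxl, smul_zero, smul_zero, sub_zero, sub_zero] at h1
  exact h1

theorem NonDeg.exists_ns {U : Submodule F V} (hU : NonDeg Q U) (h : U ≠ ⊥) : ∃ z ∈ U, Q z ≠ 0 := by
  by_contra! hc
  obtain ⟨x, hx, hx0⟩ := Submodule.exists_mem_ne_zero_of_ne_bot h
  exact hx0 (hU x hx fun u hu => by rw [polar, hc _ (U.add_mem hx hu), hc x hx, hc u hu, sub_zero, sub_zero])

theorem finrank_comp_in {U : Submodule F V} (k l : V) :
    finrank F U ≤ finrank F (perpIn Q (perpIn Q U k) l) + 2 := by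
  have h1 := finrank_perpIn (Q := Q) U k
  have h2 := finrank_perpIn (Q := Q) (perpIn Q U k) l
  omega

/-! ### Singular points -/

theorem exists_common {U : Submodule F V} (hU : NonDeg Q U) (h3 : 3 ≤ finrank F U) {y y' : V} (hy : y ∈ U)
    (hy' : y' ∈ U) (hy0 : y ≠ 0) (hy'0 : y' ≠ 0) (hQy : Q y = 0) (hQy' : Q y' = 0) :
    ∃ k ∈ U, Q k = 0 ∧ polar Q k y ≠ 0 ∧ polar Q k y' ≠ 0 := by
  have partner : ∀ {z : V}, z ∈ U → z ≠ 0 → Q z = 0 → ∃ k ∈ U, IsHPair Q (z, k) := fun {z} hz hz0 hQz =>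
    exists_partner_in hz hQz (by
      by_contra! hc
      exact hz0 (hU z hz hc))
  by_cases hb : polar Q y y' = 0
  · obtain ⟨k₁, hk₁, -, hQk₁, h1⟩ := partner hy hy0 hQy
    obtain ⟨k₂, hk₂, -, hQk₂, h2⟩ := partner hy' hy'0 hQy'
    by_cases h1' : polar Q k₁ y' ≠ 0
    · exact ⟨k₁, hk₁, hQk₁, by rw [polar_comm, h1]; exact one_ne_zero, h1'⟩
    by_cases h2' : polar Q k₂ y ≠ 0
    · exact ⟨k₂, hk₂, hQk₂, h2', by rw [polar_comm, h2]; exact one_ne_zero⟩
    push Not at h1' h2'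
    have hb' : polar Q y' y = 0 := by rw [polar_comm, hb]
    refine ⟨k₁ + k₂ + (-polar Q k₁ k₂) • y, U.add_mem (U.add_mem hk₁ hk₂) (U.smul_mem _ hy), ?_, ?_, ?_⟩
    · rw [map_two, map_two, QuadraticMap.map_smul, hQy, hQk₁, hQk₂, polar_add_left, polar_smul_right,
        polar_smul_right, h2', polar_comm Q k₁ y, h1]
      simp
    · rw [polar_add_left, polar_add_left, polar_smul_left, polar_self_zero hQy, h2', polar_comm Q k₁ y, h1]
      simp
    · rw [polar_add_left, polar_add_left, polar_smul_left, hb, h1', polar_comm Q k₂ y', h2]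
      simp
  · obtain ⟨y'', hy''⟩ : ∃ z, z = (polar Q y y')⁻¹ • y' := ⟨_, rfl⟩
    have hp : IsHPair Q (y, y'') := ⟨hQy, by
        change Q y'' = 0
        rw [hy'', QuadraticMap.map_smul, hQy', smul_zero],
      by
        change polar Q y y'' = 1
        rw [hy'', polar_smul_right, smul_eq_mul, inv_mul_cancel₀ hb]⟩
    have hy''U : y'' ∈ U := hy'' ▸ U.smul_mem _ hy'
    have hd := finrank_comp_in (Q := Q) (U := U) y y''
    obtain ⟨w, hw, hQw⟩ := (nonDeg_comp hU hy hy''U hp).exists_ns fun e => by rw [e, finrank_bot] at hd; omega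
    obtain ⟨⟨hwU, hwy⟩, hwy''⟩ := (mem_perpIn.1 hw).imp_left mem_perpIn.1
    refine ⟨y + (-Q w) • y'' + w, U.add_mem (U.add_mem hy (U.smul_mem _ hy''U)) hwU, ?_, ?_, ?_⟩
    · have := apply_symm (Q := Q) hp 1 (-Q w) ⟨w, mem_comp.mpr ⟨hwy, hwy''⟩⟩
      simpa using this
    · have hpe : polar Q y'' y = 1 := by rw [polar_comm]; exact hp.2.2
      rw [polar_add_left, polar_add_left, polar_smul_left, polar_self_zero hQy, polar_comm Q w y, hwy, hpe]
      simpa using hQw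
    · have hwy' : polar Q w y' = 0 := by
        rw [polar_comm, show y' = polar Q y y' • y'' by rw [hy'', smul_smul, mul_inv_cancel₀ hb, one_smul],
          polar_smul_left, hwy'', smul_zero]
      rw [polar_add_left, polar_add_left, polar_smul_left, hy'', polar_smul_left, polar_self_zero hQy', hwy']
      simpa using hb

/-- The Siegel elements of a nondegenerate subspace move singular points transitively. -/
theorem exists_move_point (hS : Space Q) {U : Submodule F V} (hU : NonDeg Q U) (h3 : 3 ≤ finrank F U) {y y' : V}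
    (hy : y ∈ U) (hy' : y' ∈ U) (hy0 : y ≠ 0) (hy'0 : y' ≠ 0) (hQy : Q y = 0) (hQy' : Q y' = 0) :
    ∃ (g : Om Q) (t : F), t ≠ 0 ∧ g • y = t • y' ∧ ∀ z, (∀ u ∈ U, polar Q u z = 0) → g • z = z := by
  obtain ⟨k, hk, hQk, hky, hky'⟩ := exists_common hU h3 hy hy' hy0 hy'0 hQy hQy'
  obtain ⟨c, hc⟩ : ∃ c, c = polar Q k y := ⟨_, rfl⟩
  obtain ⟨c', hc'⟩ : ∃ c', c' = polar Q k y' := ⟨_, rfl⟩
  obtain ⟨w, hw⟩ : ∃ w, w = c'⁻¹ • y' - c⁻¹ • y := ⟨_, rfl⟩
  have hwU : w ∈ U := hw ▸ U.sub_mem (U.smul_mem _ hy') (U.smul_mem _ hy)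
  have hkw : polar Q k w = 0 := by
    rw [hw, polar_sub_right, polar_smul_right, polar_smul_right, ← hc, ← hc', smul_eq_mul, smul_eq_mul,
      inv_mul_cancel₀ (hc' ▸ hky'), inv_mul_cancel₀ (hc ▸ hky), sub_self]
  have hsum : polar Q w (c⁻¹ • y) + Q w = 0 := by
    rw [hw, ORefl.map_sub_two, polar_sub_left, QuadraticMap.map_smul, QuadraticMap.map_smul, hQy, hQy',
      polar_self_zero (show Q (c⁻¹ • y) = 0 by rw [QuadraticMap.map_smul, hQy, smul_zero])]
    simp
  refine ⟨E k w, c * c'⁻¹, mul_ne_zero (hc ▸ hky) (inv_ne_zero (hc' ▸ hky')), ?_, fun z hz => ?_⟩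
  · have h1 : (E k w : Om Q) • (c⁻¹ • y) = c'⁻¹ • y' := by
      rw [E_partner hS hQk hkw (by rw [polar_smul_right, ← hc, smul_eq_mul, inv_mul_cancel₀ (hc ▸ hky)]), hsum,
        zero_smul, sub_zero, hw, add_sub_cancel]
    rw [smul_scalar, inv_smul_eq_iff₀ (hc ▸ hky)] at h1
    rw [h1, smul_smul]
  · exact E_fix hS hQk hkw (hz k hk) (hz w hwU)

/-! ### Values -/

theorem exists_move_value (hS : Space Q) {x y : V} (hx : Q x ≠ 0) (hxy : Q y = Q x) : ∃ g : Om Q, g • x = y := by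
  obtain ⟨p, hp, hr⟩ := hS.exists_pair_in
  obtain ⟨s, hs, hs'⟩ := OOmega.exists_root_move hS.pnd hp hr hx rfl
  obtain ⟨t, ht, ht'⟩ := OOmega.exists_root_move hS.pnd hp hr hx hxy
  refine ⟨(⟨t, ht⟩ : Om Q)⁻¹ * ⟨s, hs⟩, ?_⟩
  rw [mul_smul, inv_smul_eq_iff]
  exact hs'.trans ht'.symm

theorem exists_move_value_comp (hS : Space Q) {p : V × V} (hp : IsHPair Q p) {x y : V} (hx : x ∈ comp Q p)
    (hy : y ∈ comp Q p) (hx0 : Q x ≠ 0) (hxy : Q y = Q x) :
    ∃ g : Om Q, g • p.1 = p.1 ∧ g • p.2 = p.2 ∧ g • x = y := by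
  haveI := Fintype.ofFinite F
  have hd := finrank_comp hp
  have hR := res_pnd hS.pnd hp
  obtain ⟨u, -, hu0, hu⟩ := QuadBasis.exists_singular (res Q p) (W := (⊤ : Submodule F ↥(comp Q p)))
    (by rw [finrank_top]; have := hS.seven; omega)
  obtain ⟨u', hu'⟩ := OOmega.exists_pair hR hu0 hu
  have hd' := finrank_comp hu'
  obtain ⟨v, -, hv0, hv⟩ := QuadBasis.exists_singular (res (res Q p) (u, u'))
    (W := (⊤ : Submodule F ↥(comp (res Q p) (u, u')))) (by rw [finrank_top]; have := hS.seven; omega)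
  obtain ⟨v', hv'⟩ := OOmega.exists_pair (res_pnd hR hu') hv0 hv
  obtain ⟨s, hs, hs'⟩ := OOmega.exists_root_move (Q := res Q p) hR hu' ⟨(v, v'), hv'⟩ (x := ⟨x, hx⟩) hx0 rfl
  obtain ⟨t, ht, ht'⟩ := OOmega.exists_root_move (Q := res Q p) hR hu' ⟨(v, v'), hv'⟩ (x := ⟨y, hy⟩) hx0 hxy
  have lift : ∀ r ∈ OOmega.rootGroup (res Q p), ∃ g : Om Q, g • p.1 = p.1 ∧ g • p.2 = p.2 ∧
      ∀ z : comp Q p, g • (z : V) = (r.1 z : V) := by
    intro r hr
    unfold OOmega.rootGroup at hr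
    induction hr using Subgroup.closure_induction with
    | mem r hr =>
      obtain ⟨e, w, he, hw, -, hr⟩ := hr
      have hc : ∀ z : comp Q p, polar Q p.1 (z : V) = 0 ∧ polar Q p.2 (z : V) = 0 := fun z => mem_comp.mp z.2
      have he' : Q (e : V) = 0 := he
      have hw' : polar Q (e : V) (w : V) = 0 := hw
      refine ⟨E (e : V) (w : V), E_fix hS he' hw' ?_ ?_, E_fix hS he' hw' ?_ ?_, fun z => ?_⟩
      · rw [polar_comm]; exact (hc e).1
      · rw [polar_comm]; exact (hc w).1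
      · rw [polar_comm]; exact (hc e).2
      · rw [polar_comm]; exact (hc w).2
      · have hr' : (r.1 : _) z = ORefl.siegel he hw z := by rw [hr]
        rw [E_apply hS he' hw', hr', ORefl.siegel_apply]
        simp only [res_polar, res_apply, Submodule.coe_sub, Submodule.coe_add, Submodule.coe_smul]
    | one => exact ⟨1, one_smul _ _, one_smul _ _, fun z => one_smul _ _⟩
    | mul a b _ _ iha ihb =>
      obtain ⟨g, g1, g2, g3⟩ := iha
      obtain ⟨h, h1, h2, h3⟩ := ihb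
      exact ⟨g * h, by rw [mul_smul, h1, g1], by rw [mul_smul, h2, g2], fun z => by
        rw [mul_smul, h3, g3]; rfl⟩
    | inv a _ iha =>
      obtain ⟨g, g1, g2, g3⟩ := iha
      refine ⟨g⁻¹, by rw [inv_smul_eq_iff, g1], by rw [inv_smul_eq_iff, g2], fun z => ?_⟩
      rw [inv_smul_eq_iff, g3]
      change (z : V) = ((a.1 * a.1⁻¹) z : V)
      rw [mul_inv_cancel]
      rfl
  obtain ⟨g, g1, g2, g3⟩ := lift _ (mul_mem (inv_mem ht) hs)
  refine ⟨g, g1, g2, ?_⟩
  have := g3 ⟨x, hx⟩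
  change g • x = _ at this
  rw [this]
  change ((t.1.symm (s.1 ⟨x, hx⟩) : comp Q p) : V) = y
  rw [hs', ← ht', LinearEquiv.symm_apply_apply]

/-! ### Tori -/

theorem refl_pair_apply {p : V × V} (hp : IsHPair Q p) {t : F} (ht : t ≠ 0) :
    ORefl.refl Q (p.1 + p.2) (ORefl.refl Q (p.1 + t • p.2) p.1) = t • p.1 ∧
    ORefl.refl Q (p.1 + p.2) (ORefl.refl Q (p.1 + t • p.2) p.2) = t⁻¹ • p.2 ∧
    ∀ x, polar Q p.1 x = 0 → polar Q p.2 x = 0 →
      ORefl.refl Q (p.1 + p.2) (ORefl.refl Q (p.1 + t • p.2) x) = x := by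
  obtain ⟨e, f⟩ := p
  obtain ⟨he, hf, hef⟩ := hp
  change Q e = 0 at he
  change Q f = 0 at hf
  change polar Q e f = 1 at hef
  have hfe : polar Q f e = 1 := by rw [polar_comm, hef]
  have h2 : Q (e + t • f) = t := by rw [map_two, QuadraticMap.map_smul, he, hf, polar_smul_right, hef]; simp
  have h1 : Q (e + f) = 1 := by rw [map_two, he, hf, hef]; simp
  refine ⟨?_, ?_, fun x hx1 hx2 => ?_⟩
  · simp only [ORefl.refl_apply, h1, h2, polar_add_left, polar_smul_left, polar_add_right, polar_sub_right,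
      polar_smul_right, polar_self_zero he, polar_self_zero hf, hef, hfe, smul_eq_mul]
    match_scalars <;> field_simp <;> ring
  · simp only [ORefl.refl_apply, h1, h2, polar_add_left, polar_smul_left, polar_add_right, polar_sub_right,
      polar_smul_right, polar_self_zero he, polar_self_zero hf, hef, hfe, smul_eq_mul]
    match_scalars <;> field_simp <;> ring
  · have hx1' : polar Q e x = 0 := hx1
    have hx2' : polar Q f x = 0 := hx2
    change ORefl.refl Q (e + f) (ORefl.refl Q (e + t • f) x) = x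
    rw [ORefl.refl_fix (v := e + t • f) (by rw [polar_add_left, polar_smul_left, hx1', hx2']; simp),
      ORefl.refl_fix (by rw [polar_add_left, hx1', hx2', add_zero])]

theorem value_pair {p : V × V} (hp : IsHPair Q p) (t : F) : Q (p.1 + t • p.2) = t := by
  rw [map_two, QuadraticMap.map_smul, hp.1, hp.2.1, polar_smul_right, hp.2.2]; simp

/-- Scaling one pair by a square. -/
theorem exists_torus_sq (hS : Space Q) {p : V × V} (hp : IsHPair Q p) {k : F} (hk : k ≠ 0) :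
    ∃ g : Om Q, g • p.1 = (k ^ 2) • p.1 ∧ g • p.2 = (k ^ 2)⁻¹ • p.2 ∧
      ∀ x, polar Q p.1 x = 0 → polar Q p.2 x = 0 → g • x = x := by
  have h1 : Q (p.1 + p.2) = 1 := by simpa using value_pair hp 1
  obtain ⟨g, hg⟩ := hS.exists_refl_two (u := p.1 + p.2) (v := p.1 + (k ^ 2) • p.2) (by rw [h1]; exact one_ne_zero)
    hk (by rw [value_pair hp, h1, mul_one])
  obtain ⟨a, b, c⟩ := refl_pair_apply hp (pow_ne_zero 2 hk)
  exact ⟨g, (hg _).trans a, (hg _).trans b, fun x hx1 hx2 => (hg _).trans (c x hx1 hx2)⟩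

/-- Scaling two orthogonal pairs by the same scalar. -/
theorem exists_torus_two (hS : Space Q) {p r : V × V} (hp : IsHPair Q p) (hr : IsHPair Q r)
    (hr1 : r.1 ∈ comp Q p) (hr2 : r.2 ∈ comp Q p) {t : F} (ht : t ≠ 0) :
    ∃ g : Om Q, g • p.1 = t • p.1 ∧ g • p.2 = t⁻¹ • p.2 ∧ g • r.1 = t • r.1 ∧ g • r.2 = t⁻¹ • r.2 ∧
      ∀ x, polar Q p.1 x = 0 → polar Q p.2 x = 0 → polar Q r.1 x = 0 → polar Q r.2 x = 0 → g • x = x := by
  have h1 : ∀ {s : V × V}, IsHPair Q s → Q (s.1 + s.2) = 1 := fun {s} hs => by simpa using value_pair hs 1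
  obtain ⟨g, hg⟩ := hS.exists_refl_four (u := p.1 + p.2) (v := p.1 + t • p.2) (u' := r.1 + r.2)
    (v' := r.1 + t • r.2) (by rw [h1 hp]; exact one_ne_zero) (by rw [value_pair hp]; exact ht)
    (by rw [h1 hp, h1 hr]) (by rw [value_pair hp, value_pair hr])
  obtain ⟨a, b, c⟩ := refl_pair_apply hp ht
  obtain ⟨a', b', c'⟩ := refl_pair_apply hr ht
  obtain ⟨m1, m2⟩ := mem_comp.mp hr1
  obtain ⟨n1, n2⟩ := mem_comp.mp hr2
  refine ⟨g, ?_, ?_, ?_, ?_, fun x hx1 hx2 hx3 hx4 => ?_⟩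
  · rw [hg, c' p.1 (by rw [polar_comm]; exact m1) (by rw [polar_comm]; exact n1), a]
  · rw [hg, c' p.2 (by rw [polar_comm]; exact m2) (by rw [polar_comm]; exact n2), b]
  · rw [hg, a']
    simp only [map_smul]
    rw [c r.1 m1 m2]
  · rw [hg, b']
    simp only [map_smul]
    rw [c r.2 n1 n2]
  · rw [hg, c' x hx3 hx4, c x hx1 hx2]

end Cfsg.Agent.Small.OMinIndex
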