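import Cfsg.Agent.Lib.Small.OMinIndex.Counts

/-!
# The numerical conditions for the three types
-/

set_option autoImplicit false
set_option linter.unusedSectionVars false

universe u

namespace Cfsg.Agent.Small.OMinIndex

open Module QuadraticMap Cfsg.Agent.Classical Cfsg.Agent.Classical.OCount

/-- Clearing a denominator. -/
theorem scaled {P q num B : ℕ} (hP : P * (q - 1) ≤ num) (hq : 1 < q) {C : ℕ} (h : num * C ≤ B * (q - 1)) :
    P * C ≤ B := by
  refine Nat.le_of_mul_le_mul_right ?_ (show 0 < q - 1 by omega)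
  calc P * C * (q - 1) = P * (q - 1) * C := by ring
    _ ≤ num * C := Nat.mul_le_mul_right _ hP
    _ ≤ B * (q - 1) := h

theorem scaled_one {P q num B : ℕ} (hP : P * (q - 1) ≤ num) (hq : 1 < q) (h : num ≤ B * (q - 1)) : P ≤ B := by
  simpa using scaled hP hq (C := 1) (by rwa [mul_one])

theorem pow_facts {q r : ℕ} (hq : 1 < q) (hr : 2 ≤ r) :
    q ^ (r - 1) = q * q ^ (r - 2) ∧ q ^ r = q * q ^ (r - 1) ∧ 1 ≤ q ^ (r - 2) := by
  refine ⟨?_, ?_, Nat.one_le_pow _ _ (by omega)⟩ <;> rw [← pow_succ'] <;> congr 1 <;> omega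

variable {F : Type u} [Field F] [Fintype F] {V : Type u} [AddCommGroup V] [Module F V] [FiniteDimensional F V]
  {Q : QuadraticForm F V} {N : F → ℕ} {q : ℕ}

theorem roots_le_two : Nat.card {t : F // t * t = 1} ≤ 2 := by
  classical
  rw [Nat.card_eq_fintype_card, Fintype.card_subtype]
  exact (Finset.card_le_card (s := Finset.univ.filter fun t : F => t * t = 1) (t := {1, -1})
    fun t ht => by simpa [mul_self_eq_one_iff] using ht).trans Finset.card_le_two

theorem roots_two (h2 : (2 : F) = 0) : Nat.card {t : F // t * t = 1} = 1 := by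
  rw [Nat.card_eq_one_iff_unique]
  refine ⟨⟨fun a b => Subtype.ext ?_⟩, ⟨⟨1, mul_one 1⟩⟩⟩
  rcases mul_self_eq_one_iff.1 a.2 with h | h <;> rcases mul_self_eq_one_iff.1 b.2 with h' | h' <;> rw [h, h']
  · linear_combination h2
  · linear_combination -h2

/-- Odd dimension, five or more elements. -/
theorem bounds_odd {r : ℕ} (h : Model Q r 1 N) (hr : 3 ≤ r) (hq : Fintype.card F = q) (h5 : 5 ≤ q) {P : ℕ}
    (hP : P * (q - 1) ≤ q ^ (2 * r) - 1) : Bounds Q r P := by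
  obtain ⟨w, hw⟩ : ∃ w, w = q ^ (r - 2) := ⟨_, rfl⟩
  obtain ⟨hx, hqx, hw1⟩ := pow_facts (q := q) (by omega) (show 2 ≤ r by omega)
  rw [← hw] at hx hw1
  obtain ⟨x, hxd⟩ : ∃ x, x = q ^ (r - 1) := ⟨_, rfl⟩
  rw [← hxd] at hx hqx
  have hx3 : 5 ≤ x := by rw [hx]; nlinarith
  have hnum : q ^ (2 * r) = (q * x) * (q * x) := by rw [two_mul, pow_add, hqx]
  rw [hnum] at hP
  have hV : ∀ P', valNum q 1 (r - 1) P' = (x - 1) * x + x * P' := fun P' => by
    rw [valNum, ← hxd, show r - 1 - 1 + 1 = r - 1 by omega, ← hxd]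
  obtain ⟨y, rfl⟩ : ∃ y, x = y + 1 := ⟨x - 1, by omega⟩
  obtain ⟨p, rfl⟩ : ∃ p, q = p + 1 := ⟨q - 1, by omega⟩
  refine bounds_of h hr (T := 2) roots_le_two ?_ (fun h3 => by omega) ?_ ?_ (fun c hc => ?_) hq hxd.symm
    (show (p + 1) ^ (r - 1 - 1 + 1) = y + 1 by rw [show r - 1 - 1 + 1 = r - 1 by omega, ← hxd])
    (show (p + 1) ^ (r - 1 - 1 - 1 + 1) = w by rw [hw]; congr 1; omega) ?_
  · rw [hq, hV]
    refine scaled hP (by omega) ?_
    simp only [Nat.add_sub_cancel, Nat.mul_zero, Nat.add_zero]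
    calc ((p + 1) * (y + 1) * ((p + 1) * (y + 1)) - 1) * 2 ≤ (p + 1) * (y + 1) * ((p + 1) * (y + 1)) * 2 :=
          Nat.mul_le_mul_right _ (Nat.sub_le _ _)
      _ ≤ _ := by
        have h1 := Nat.mul_le_mul_right (y + 1) (Nat.mul_le_mul (Nat.mul_le_mul (show 4 * (p + 1) ≤ 5 * p by omega)
          (show 4 * (p + 1) ≤ 5 * p by omega)) (show 4 * (y + 1) ≤ 5 * y by omega))
        nlinarith [h1]
  · rw [hq]
    refine scaled_one hP (by omega) ?_
    rw [show 2 * r + 1 - 2 = 1 + (r - 1) + (r - 1) by omega, pow_add, pow_add, ← hxd, pow_one]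
    simp only [Nat.add_sub_cancel]
    refine (Nat.sub_le _ _).trans ?_
    nlinarith
  · rw [hq, show r - 1 + 1 = r by omega, hqx]
    refine hP.trans (le_of_eq ?_)
    rw [mul_comm (_ - 1), ← Nat.mul_self_sub_mul_self_eq, one_mul]
  · rw [hq, valNum, show r - 1 + 1 = r by omega, hqx]
    refine le_trans ?_ (Nat.le_add_right _ _)
    refine scaled hP (by omega) ?_
    obtain ⟨u, hu⟩ : ∃ u, (p + 1) * (y + 1) = u + 1 := ⟨(p + 1) * (y + 1) - 1, by
      have : 0 < (p + 1) * (y + 1) := by positivity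
      omega⟩
    rw [hu]
    simp only [Nat.add_sub_cancel]
    refine (Nat.mul_le_mul_right _ (le_of_eq (show (u + 1) * (u + 1) - 1 = u * u + 2 * u by
      rw [show (u + 1) * (u + 1) = u * u + 2 * u + 1 by ring, Nat.add_sub_cancel]))).trans ?_
    nlinarith
  · simp only [hV, Nat.mul_zero, Nat.add_zero, Nat.add_sub_cancel]
    obtain rfl | hr4 : r = 3 ∨ 4 ≤ r := by omega
    · obtain rfl : w = p + 1 := by rw [hw]; norm_num
      refine Or.inr ⟨rfl, scaled_one hP (by omega) ?_, scaled hP (by omega) ?_, Or.inl ⟨by omega, scaled_one hP (by omega) ?_,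
        fun h0 => absurd h0 one_ne_zero⟩⟩ <;> simp only [Nat.add_sub_cancel]
      · refine (Nat.sub_le _ _).trans ?_
        nlinarith [Nat.mul_le_mul_right ((y + 1) * (y + 1)) (show 4 ≤ p by omega), Nat.le_mul_self (y + 1)]
      · refine (Nat.mul_le_mul_right _ (Nat.sub_le _ _)).trans ?_
        nlinarith [Nat.mul_le_mul_right ((y + 1) * (y + 1)) (show 4 ≤ p by omega), Nat.le_mul_self (y + 1),
          Nat.mul_le_mul_right ((p + 1) * (y + 1)) (show 4 ≤ p by omega)]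
      · refine (Nat.sub_le _ _).trans ?_
        nlinarith [Nat.mul_le_mul_right ((y + 1) * (y + 1)) (show 4 ≤ p by omega), Nat.le_mul_self (y + 1)]
    · refine Or.inl (scaled_one hP (by omega) ?_)
      have hw2 : (p + 1) * (p + 1) ≤ w := by
        rw [hw, ← _root_.sq]; exact Nat.pow_le_pow_right (by omega) (by omega)
      simp only [Nat.add_sub_cancel]
      refine (Nat.sub_le _ _).trans ?_
      calc (p + 1) * (y + 1) * ((p + 1) * (y + 1)) = (p + 1) * (p + 1) * ((y + 1) * (y + 1)) := by ring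
        _ ≤ (w + 1) * (y * (y + 1 + 1) * p) := Nat.mul_le_mul (by omega)
            (by nlinarith [Nat.mul_le_mul_left (y * (y + 1 + 1)) (show 4 ≤ p by omega)])
        _ = _ := by ring

/-- Odd dimension, three elements. -/
theorem bounds_odd_three {r : ℕ} (h : Model Q r 1 N) (hr : 3 ≤ r) (hq : Fintype.card F = 3) {P : ℕ}
    (hP : P * 2 ≤ 3 ^ r * (3 ^ r - 1)) : Bounds Q r P := by
  obtain ⟨hx, hqx, hw1⟩ := pow_facts (q := 3) (by omega) (show 2 ≤ r by omega)
  obtain ⟨x, hxd⟩ : ∃ x, x = 3 ^ (r - 1) := ⟨_, rfl⟩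
  rw [← hxd] at hx hqx
  rw [hqx] at hP
  have hV : ∀ P', valNum 3 1 (r - 1) P' = (x - 1) * x + x * P' := fun P' => by
    rw [valNum, ← hxd, show r - 1 - 1 + 1 = r - 1 by omega, ← hxd]
  have h9 : 9 ≤ x := hxd ▸ (show (9 : ℕ) = 3 ^ 2 by norm_num) ▸ Nat.pow_le_pow_right (by norm_num) (by omega)
  obtain ⟨y, rfl⟩ : ∃ y, x = y + 1 := ⟨x - 1, by omega⟩
  rw [show 3 * (y + 1) - 1 = 3 * y + 2 by omega] at hP
  refine bounds_of h hr (T := 2) roots_le_two ?_ (fun _ h7 => ?_) ?_ ?_ (fun c hc => ?_) hq hxd.symm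
    (show 3 ^ (r - 1 - 1 + 1) = y + 1 by rw [show r - 1 - 1 + 1 = r - 1 by omega, ← hxd])
    (show 3 ^ (r - 1 - 1 - 1 + 1) = 3 ^ (r - 2) by congr 1; omega) ?_
  · rw [hq, hV]
    simp only [Nat.add_sub_cancel, Nat.mul_zero, Nat.add_zero]
    nlinarith
  · obtain rfl : r = 3 := by omega
    norm_num at hxd
    obtain rfl : y = 8 := by omega
    omega
  · rw [hq, show 2 * r + 1 - 2 = 1 + (r - 1) + (r - 1) by omega, pow_add, pow_add, ← hxd]
    nlinarith
  · rw [hq, show r - 1 + 1 = r by omega, hqx, show 3 * (y + 1) - 1 = 3 * y + 2 by omega]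
    nlinarith
  · rw [hq, valNum, show r - 1 + 1 = r by omega, hqx, show 3 * (y + 1) - 1 = 3 * y + 2 by omega]
    nlinarith
  · simp only [hV, Nat.mul_zero, Nat.add_zero, Nat.add_sub_cancel]
    obtain rfl | hr4 : r = 3 ∨ 4 ≤ r := by omega
    · norm_num at hxd
      obtain rfl : y = 8 := by omega
      refine Or.inr ⟨by norm_num, ?_, ?_, Or.inr ?_⟩ <;> omega
    · refine Or.inl ?_
      have hw9 : 9 ≤ 3 ^ (r - 2) := by
        calc 9 = 3 ^ 2 := by norm_num
          _ ≤ _ := Nat.pow_le_pow_right (by norm_num) (by omega)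
      have := Nat.mul_le_mul_right (y * (y + 1 + 1)) (show 10 ≤ 3 ^ (r - 2) + 1 by omega)
      nlinarith

/-- Plus type, four or more elements. -/
theorem bounds_plus {r : ℕ} (h : Model Q r 0 N) (hr : 4 ≤ r) (hq : Fintype.card F = q) (h4 : 4 ≤ q) {P : ℕ}
    (hP : P * (q - 1) ≤ (q ^ r - 1) * (q ^ (r - 1) + 1)) : Bounds Q r P := by
  obtain ⟨hx, hqx, -⟩ := pow_facts (q := q) (by omega) (show 2 ≤ r by omega)
  obtain ⟨x, hxd⟩ : ∃ x, x = q ^ (r - 1) := ⟨_, rfl⟩
  obtain ⟨z, hzd⟩ : ∃ z, z = q ^ (r - 2) := ⟨_, rfl⟩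
  rw [← hxd, ← hzd] at hx
  rw [← hxd] at hqx
  rw [hqx, ← hxd] at hP
  have hV : valNum q 0 (r - 1) 0 = (x - 1) * z := by
    rw [valNum, ← hxd, hzd, Nat.mul_zero, Nat.add_zero, show r - 1 - 1 + 0 = r - 2 by omega]
  have hz : q * q ≤ z := by rw [hzd, ← _root_.sq]; exact Nat.pow_le_pow_right (by omega) (by omega)
  obtain ⟨p, rfl⟩ : ∃ p, q = p + 1 := ⟨q - 1, by omega⟩
  have hzx : z + 1 ≤ x := by nlinarith
  obtain ⟨y, rfl⟩ : ∃ y, x = y + 1 := ⟨x - 1, by omega⟩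
  obtain ⟨u, hu⟩ : ∃ u, (p + 1) * (y + 1) = u + 1 := ⟨(p + 1) * (y + 1) - 1, by
    have : 0 < (p + 1) * (y + 1) := by positivity
    omega⟩
  rw [hu] at hP
  simp only [Nat.add_sub_cancel] at hP
  have hpp : 3 ≤ p := by omega
  refine bounds_of h (by omega) (T := 2) roots_le_two ?_ (fun h3 => by omega) ?_ ?_ (fun c hc => ?_) hq hxd.symm
    (show (p + 1) ^ (r - 1 - 1 + 0) = z by rw [hzd, show r - 1 - 1 + 0 = r - 2 by omega])
    (show (p + 1) ^ (r - 1 - 1 - 1 + 0) = (p + 1) ^ (r - 3) by rw [show r - 1 - 1 - 1 + 0 = r - 3 by omega]) ?_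
  · rw [hq, hV]
    refine scaled (q := p + 1) (num := u * (y + 1 + 1)) (by simpa using hP) (by omega) ?_
    simp only [Nat.add_sub_cancel]
    calc u * (y + 1 + 1) * 2 ≤ (p + 1) * (p + 1) * (z * (y + 1 + 1)) * 2 := by rw [hx] at hu ⊢; nlinarith
      _ ≤ _ := by
        have h1 := Nat.mul_le_mul_right z (Nat.mul_le_mul (Nat.mul_le_mul (show 3 * (p + 1) ≤ 4 * p by omega)
          (show 3 * (p + 1) ≤ 4 * p by omega)) (show 15 * (y + 1 + 1) ≤ 17 * y by nlinarith))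
        nlinarith [h1]
  · rw [hq]
    refine scaled_one (q := p + 1) (num := u * (y + 1 + 1)) (by simpa using hP) (by omega) ?_
    rw [show 2 * r + 0 - 2 = (r - 1) + (r - 1) by omega, pow_add, ← hxd]
    simp only [Nat.add_sub_cancel]
    nlinarith [Nat.mul_le_mul_right ((y + 1) * (y + 1)) hpp]
  · rw [hq, show r - 1 + 0 = r - 1 by omega, hqx, ← hxd, hu]
    simpa using hP
  · rw [hq, valNum, show r - 1 + 0 = r - 1 by omega, hqx, ← hxd, hu, Nat.add_sub_cancel]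
    refine le_trans ?_ (Nat.le_add_right _ _)
    refine scaled (q := p + 1) (num := u * (y + 1 + 1)) (by simpa using hP) (by omega) ?_
    simp only [Nat.add_sub_cancel]
    nlinarith [Nat.mul_le_mul_right (u * (y + 1)) hpp]
  · simp only [hV, Nat.add_sub_cancel]
    obtain rfl | hr5 : r = 4 ∨ 5 ≤ r := by omega
    · refine Or.inr ⟨by norm_num, scaled_one (q := p + 1) (num := u * (y + 1 + 1)) (by simpa using hP) (by omega) ?_,
        scaled (q := p + 1) (num := u * (y + 1 + 1)) (by simpa using hP) (by omega) ?_,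
        Or.inl ⟨by omega, scaled_one (q := p + 1) (num := u * (y + 1 + 1)) (by simpa using hP) (by omega) ?_,
          fun _ => scaled_one (q := p + 1) (num := u * (y + 1 + 1)) (by simpa using hP) (by omega) ?_⟩⟩ <;>
        simp only [Nat.add_sub_cancel] <;> obtain rfl : z = (p + 1) * (p + 1) := by rw [hzd]; ring
      · nlinarith [Nat.mul_le_mul_right (y * ((p + 1) * (p + 1))) hpp]
      · nlinarith [Nat.mul_le_mul_right (y * ((p + 1) * (p + 1))) hpp]
      · nlinarith [Nat.mul_le_mul_right (y * ((p + 1) * (p + 1))) hpp]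
      · nlinarith [Nat.mul_le_mul_right (y * ((p + 1) * (p + 1))) hpp]
    · refine Or.inl (scaled_one (q := p + 1) (num := u * (y + 1 + 1)) (by simpa using hP) (by omega) ?_)
      have hw2 : (p + 1) * (p + 1) ≤ (p + 1) ^ (r - 3) := by
        rw [← _root_.sq]; exact Nat.pow_le_pow_right (by omega) (by omega)
      simp only [Nat.add_sub_cancel]
      calc u * (y + 1 + 1) ≤ (p + 1) * (p + 1) * (z * (y + 1 + 1)) := by rw [hx] at hu ⊢; nlinarith
        _ ≤ ((p + 1) ^ (r - 3) + 1) * (p * (y * (z + 1))) :=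
          Nat.mul_le_mul (by omega) (by nlinarith [Nat.mul_le_mul_right (y * (z + 1)) hpp])
        _ = _ := by ring

/-- Plus type, two elements. -/
theorem bounds_plus_two {r : ℕ} (h : Model Q r 0 N) (hr : 4 ≤ r) (hq : Fintype.card F = 2) (h2 : (2 : F) = 0) {P : ℕ}
    (hP : P ≤ 2 ^ (r - 1) * (2 ^ r - 1)) : Bounds Q r P := by
  obtain ⟨hx, hqx, -⟩ := pow_facts (q := 2) (by omega) (show 2 ≤ r by omega)
  obtain ⟨z, hzd⟩ : ∃ z, z = 2 ^ (r - 2) := ⟨_, rfl⟩
  rw [← hzd] at hx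
  have hV : valNum 2 0 (r - 1) 0 = (2 * z - 1) * z := by
    rw [valNum, hx, hzd, Nat.mul_zero, Nat.add_zero, show r - 1 - 1 + 0 = r - 2 by omega]
  have hz : 4 ≤ z := by
    calc 4 = 2 ^ 2 := by norm_num
      _ ≤ z := hzd ▸ Nat.pow_le_pow_right (by norm_num) (by omega)
  rw [hqx, hx] at hP
  obtain ⟨v, rfl⟩ : ∃ v, z = v + 1 := ⟨z - 1, by omega⟩
  rw [show 2 * (2 * (v + 1)) - 1 = 4 * v + 3 by omega] at hP
  refine bounds_of h (by omega) (T := 1) (roots_two h2).le ?_ (fun h3 => by omega) ?_ ?_ (fun c hc => ?_) hq hx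
    (show 2 ^ (r - 1 - 1 + 0) = v + 1 by rw [hzd, show r - 1 - 1 + 0 = r - 2 by omega])
    (show 2 ^ (r - 1 - 1 - 1 + 0) = 2 ^ (r - 3) by rw [show r - 1 - 1 - 1 + 0 = r - 3 by omega]) ?_
  · rw [hq, hV, show 2 * (v + 1) - 1 = 2 * v + 1 by omega]
    nlinarith
  · rw [hq, show 2 * r + 0 - 2 = (r - 1) + (r - 1) by omega, pow_add, hx]
    nlinarith
  · rw [hq, show r - 1 + 0 = r - 1 by omega, hqx, hx, show 2 * (2 * (v + 1)) - 1 = 4 * v + 3 by omega]
    nlinarith
  · rw [hq, valNum, show r - 1 + 0 = r - 1 by omega, hqx, hx, show 2 * (2 * (v + 1)) - 1 = 4 * v + 3 by omega]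
    nlinarith
  · rw [hV, show 2 * (v + 1) - 1 = 2 * v + 1 by omega]
    obtain rfl | hr5 : r = 4 ∨ 5 ≤ r := by omega
    · obtain rfl : v = 3 := by norm_num at hzd; omega
      refine Or.inr ⟨by norm_num, ?_, ?_, Or.inr ?_⟩ <;> omega
    · refine Or.inl ?_
      have hw4 : 4 ≤ 2 ^ (r - 3) := by
        calc 4 = 2 ^ 2 := by norm_num
          _ ≤ _ := Nat.pow_le_pow_right (by norm_num) (by omega)
      have := Nat.mul_le_mul_right ((2 * v + 1) * (v + 1 + 1)) (show 5 ≤ 2 ^ (r - 3) + 1 by omega)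
      nlinarith

/-- Minus type. -/
theorem bounds_minus {j : ℕ} (h : Model Q j 2 N) (hj : 3 ≤ j) (hq : Fintype.card F = q) {T : ℕ}
    (hT : Nat.card {t : F // t * t = 1} ≤ T) (hTq : T = 1 ∧ q = 2 ∨ T = 2 ∧ 3 ≤ q) (hN : ∀ c : F, c ≠ 0 → 1 ≤ N c)
    {P : ℕ} (hP : P * (q - 1) ≤ (q ^ (j + 1) + 1) * (q ^ j - 1)) : Bounds Q j P := by
  have hq1 : 1 < q := hq ▸ Fintype.one_lt_card
  obtain ⟨x, hxd⟩ : ∃ x, x = q ^ (j - 1) := ⟨_, rfl⟩
  have hjx : q ^ j = q * x := by rw [hxd, ← pow_succ']; congr 1; omega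
  rw [pow_succ, hjx] at hP
  have hx : q * q ≤ x := by rw [hxd, ← _root_.sq]; exact Nat.pow_le_pow_right (by omega) (by omega)
  have hV : valNum q 2 (j - 1) 0 = (x - 1) * (q * x) := by
    rw [valNum, ← hxd, ← hjx, Nat.mul_zero, Nat.add_zero, show j - 1 - 1 + 2 = j by omega]
  obtain ⟨p, rfl⟩ : ∃ p, q = p + 1 := ⟨q - 1, by omega⟩
  obtain ⟨y, rfl⟩ : ∃ y, x = y + 1 := ⟨x - 1, by
    have : 0 < x := lt_of_lt_of_le (by positivity) hx
    omega⟩
  obtain ⟨u, hu⟩ : ∃ u, (p + 1) * (y + 1) = u + 1 := ⟨(p + 1) * (y + 1) - 1, by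
    have : 0 < (p + 1) * (y + 1) := by positivity
    omega⟩
  rw [hu, Nat.add_sub_cancel] at hP
  have hp : 1 ≤ p := by omega
  refine bounds_of h hj hT ?_ (fun h3 h7 => by omega) ?_ ?_ (fun c hc => ?_) hq hxd.symm
    (show (p + 1) ^ (j - 1 - 1 + 2) = u + 1 by rw [← hu, ← hjx]; congr 1; omega)
    (show (p + 1) ^ (j - 1 - 1 - 1 + 2) = y + 1 by rw [hxd]; congr 1; omega) ?_
  · rw [hq, hV]
    refine scaled (q := p + 1) (num := ((u + 1) * (p + 1) + 1) * u) (by simpa using hP) (by omega) ?_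
    simp only [Nat.add_sub_cancel]
    rw [hu]
    rcases hTq with ⟨rfl, h2⟩ | ⟨rfl, h3⟩
    · obtain rfl : p = 1 := by omega
      nlinarith
    · have h8 : 8 ≤ y := by nlinarith
      have h1 := Nat.mul_le_mul_right y (show 2 * ((p + 1) * (p + 1)) + 2 ≤ 5 * (p * p) by nlinarith)
      have h2 : 2 * ((p + 1) * (u + 1)) ≤ 5 * (p * p * y) + 2 * p := by rw [← hu]; nlinarith
      have h4 := Nat.mul_le_mul_right (u + 1) h2
      nlinarith
  · rw [hq]
    refine scaled_one (q := p + 1) (num := ((u + 1) * (p + 1) + 1) * u) (by simpa using hP) (by omega) ?_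
    rw [show 2 * j + 2 - 2 = j + j by omega, pow_add, hjx, hu]
    simp only [Nat.add_sub_cancel]
    nlinarith
  · rw [hq, show j - 1 + 2 = j + 1 by omega, pow_succ, hjx, hu, Nat.add_sub_cancel]
    simpa [mul_comm] using hP
  · rw [hq, valNum, show j - 1 + 2 = j + 1 by omega, pow_succ, hjx, hu, Nat.add_sub_cancel]
    refine le_trans ?_ (Nat.add_le_add_left (Nat.mul_le_mul_left _ (hN c hc)) _)
    refine scaled (q := p + 1) (num := ((u + 1) * (p + 1) + 1) * u) (by simpa using hP) (by omega) ?_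
    simp only [Nat.add_sub_cancel]
    rcases hTq with ⟨rfl, h2⟩ | ⟨rfl, h3⟩
    · obtain rfl : p = 1 := by omega
      nlinarith
    · nlinarith [Nat.mul_le_mul_right (u * ((u + 1) * (p + 1)) + (u + 1)) (show 2 ≤ p by omega)]
  · refine Or.inl (scaled_one (q := p + 1) (num := ((u + 1) * (p + 1) + 1) * u) (by simpa using hP) (by omega) ?_)
    simp only [Nat.add_sub_cancel]
    have h1 := Nat.mul_le_mul_left (y * (y + 1 + 1) * (u + 1 + 1)) hp
    have h2 := Nat.mul_le_mul_right ((y + 1) * (u + 1)) hx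
    rw [show (p + 1) * (p + 1) * ((y + 1) * (u + 1)) = (p + 1) * ((u + 1) * (u + 1)) by rw [← hu]; ring] at h2
    nlinarith

end Cfsg.Agent.Small.OMinIndex
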