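import Cfsg.Agent.Lib.Small.OMinIndex.Dual

/-!
# Orbits of the radical of a point stabiliser on an `Ω`-set

For each orbit the annihilator of the stabiliser is an additive subgroup of `a^⊥`; their orders add up to
`q` times the degree, and the number `cc` of them through a vector is invariant under the point stabiliser.
-/

set_option autoImplicit false
set_option linter.unusedSectionVars false

namespace Cfsg.Agent.Small.OMinIndex

open Module QuadraticMap Cfsg.Agent.Classical Cfsg.Agent.Classical.OCount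

variable {F : Type*} [Field F] [Finite F] {V : Type*} [AddCommGroup V] [Module F V] [FiniteDimensional F V]
  {Q : QuadraticForm F V} {X : Type*} [MulAction (Om Q) X]

variable (hS : Space Q) {a : V} (ha : Q a = 0)

/-- The vectors `w ⊥ a` whose Siegel element fixes `x`. -/
def stabA (x : X) : AddSubgroup V where
  carrier := {w | polar Q a w = 0 ∧ (E a w : Om Q) • x = x}
  zero_mem' := ⟨polar_zero_right Q a, by rw [E_zero hS ha, one_smul]⟩
  add_mem' := fun {u v} hu hv => ⟨by rw [polar_add_right, hu.1, hv.1, add_zero], by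
    rw [← E_mul hS ha hu.1 hv.1, mul_smul, hv.2, hu.2]⟩
  neg_mem' := fun {u} hu => ⟨by rw [polar_neg_right, hu.1, neg_zero], by
    rw [← E_inv hS ha hu.1, inv_smul_eq_iff, hu.2]⟩

theorem mem_stabA {x : X} {w : V} : w ∈ stabA hS ha x ↔ polar Q a w = 0 ∧ (E a w : Om Q) • x = x := Iff.rfl

theorem line_le_stabA (x : X) (t : F) : t • a ∈ stabA hS ha x := by
  have h : polar Q a (t • a) = 0 := by rw [polar_smul_right, polar_self_zero ha, smul_zero]
  exact ⟨h, by rw [(E_eq_one_iff hS ha h).2 (Or.inr (Submodule.smul_mem _ _ (Submodule.mem_span_singleton_self a))),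
    one_smul]⟩

/-- The annihilator. -/
noncomputable def subB (x : X) : AddSubgroup V := dual Q (stabA hS ha x)

theorem subB_perp {x : X} {y : V} (hy : y ∈ subB hS ha x) : polar Q a y = 0 := by
  rw [polar_comm]
  exact perp_of_mem_dual hy (line_le_stabA hS ha x)

theorem line_le_subB (x : X) (t : F) : t • a ∈ subB hS ha x :=
  mem_dual.2 fun w hw => by rw [polar_smul_left, hw.1, smul_zero, map_zero]

theorem stabA_of_perp {x : X} {w : V} (h : ∀ y ∈ subB hS ha x, polar Q y w = 0) : w ∈ stabA hS ha x :=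
  mem_of_perp hS.pnd h

theorem perp_subB_of_stabA {x : X} {w : V} (h : ∀ t : F, t • w ∈ stabA hS ha x) {y : V}
    (hy : y ∈ subB hS ha x) : polar Q y w = 0 :=
  perp_of_mem_dual hy h

/-- The orbit relation. -/
def orbSetoid : Setoid X where
  r x y := ∃ w, polar Q a w = 0 ∧ (E a w : Om Q) • x = y
  iseqv :=
    { refl := fun x => ⟨0, polar_zero_right Q a, by rw [E_zero hS ha, one_smul]⟩
      symm := fun {x y} ⟨w, hw, h⟩ => ⟨-w, by rw [polar_neg_right, hw, neg_zero], by
        rw [← E_inv hS ha hw, inv_smul_eq_iff, h]⟩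
      trans := fun {x y z} ⟨v, hv, h⟩ ⟨w, hw, h'⟩ => ⟨w + v, by rw [polar_add_right, hw, hv, add_zero], by
        rw [← E_mul hS ha hw hv, mul_smul, h, h']⟩ }

/-- The orbits. -/
abbrev Orb (X : Type*) [MulAction (Om Q) X] := Quotient (orbSetoid (X := X) hS ha)

/-- The orbit of a point. -/
abbrev orb (x : X) : Orb hS ha X := Quotient.mk (orbSetoid hS ha) x

theorem orb_eq_iff {x y : X} : orb hS ha x = orb hS ha y ↔ ∃ w, polar Q a w = 0 ∧ (E a w : Om Q) • x = y :=
  Quotient.eq

theorem orb_E (x : X) {w : V} (hw : polar Q a w = 0) : orb hS ha ((E a w : Om Q) • x) = orb hS ha x :=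
  ((orb_eq_iff hS ha).2 ⟨w, hw, rfl⟩).symm

theorem stabA_E (x : X) {w : V} (hw : polar Q a w = 0) :
    stabA hS ha ((E a w : Om Q) • x) = stabA hS ha x := by
  refine AddSubgroup.ext fun u => and_congr_right fun hu => ?_
  rw [← mul_smul, E_mul hS ha hu hw, add_comm, ← E_mul hS ha hw hu, mul_smul, smul_left_cancel_iff]

/-- The annihilator of an orbit. -/
noncomputable def orbB (o : Orb hS ha X) : AddSubgroup V :=
  Quotient.liftOn o (subB hS ha) (by
    rintro x y ⟨w, hw, rfl⟩
    rw [subB, subB, stabA_E hS ha x hw])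

theorem orbB_mk (x : X) : orbB hS ha (orb hS ha x) = subB hS ha x := rfl

theorem line_le_orbB (o : Orb hS ha X) (t : F) : t • a ∈ orbB hS ha o := by
  induction o using Quotient.inductionOn with
  | h x => exact line_le_subB hS ha x t

theorem orbB_perp (o : Orb hS ha X) {y : V} : y ∈ orbB hS ha o → polar Q a y = 0 := by
  induction o using Quotient.inductionOn with
  | h x => exact subB_perp hS ha

/-- The number of orbits whose annihilator contains `v`. -/
noncomputable def cc (X : Type*) [MulAction (Om Q) X] (v : V) : ℕ :=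
  Nat.card {o : Orb hS ha X // v ∈ orbB hS ha o}

theorem cc_add_line (v : V) (t : F) : cc hS ha X (v + t • a) = cc hS ha X v :=
  Nat.card_congr (Equiv.subtypeEquivRight fun o =>
    ⟨fun h => by simpa using (orbB hS ha o).sub_mem h (line_le_orbB hS ha o t),
      fun h => (orbB hS ha o).add_mem h (line_le_orbB hS ha o t)⟩)

theorem cc_line (t : F) : cc hS ha X (t • a) = Nat.card (Orb hS ha X) :=
  Nat.card_congr (Equiv.subtypeUnivEquiv fun o => line_le_orbB hS ha o t)

theorem cc_pos {x : X} [Finite X] {v : V} (hv : v ∈ subB hS ha x) : 0 < cc hS ha X v := by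
  haveI : Nonempty {o : Orb hS ha X // v ∈ orbB hS ha o} := ⟨⟨orb hS ha x, hv⟩⟩
  exact Nat.card_pos

theorem cc_eq_zero {v : V} (hv : polar Q a v ≠ 0) : cc hS ha X v = 0 :=
  Nat.card_eq_zero.2 (Or.inl ⟨fun o => hv (orbB_perp hS ha o.1 o.2)⟩)

include hS ha in
theorem card_perp (ha0 : a ≠ 0) : Nat.card V = Nat.card F * Nat.card (LinearMap.ker (Q.polarBilin a)) := by
  have hsurj : Function.Surjective (Q.polarBilin a) := LinearMap.surjective_of_ne_zero fun h =>
    ha0 (hS.pnd a fun w => LinearMap.congr_fun h w)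
  rw [Submodule.card_eq_card_quotient_mul_card (LinearMap.ker (Q.polarBilin a)), mul_comm,
    Nat.card_congr ((Q.polarBilin a).quotKerEquivOfSurjective hsurj).toEquiv]

/-- The annihilator of an orbit has `q` times its size. -/
theorem card_orbB [Finite X] (ha0 : a ≠ 0) (x : X) :
    Nat.card (subB hS ha x) = Nat.card F * Nat.card {y : X // orb hS ha y = orb hS ha x} := by
  have : Finite V := Module.finite_of_finite F
  obtain ⟨P, hP⟩ : ∃ P : AddSubgroup V, P = (LinearMap.ker (Q.polarBilin a)).toAddSubgroup := ⟨_, rfl⟩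
  have hmem : ∀ w, w ∈ P ↔ polar Q a w = 0 := fun w => by rw [hP]; simp
  have hAP : stabA hS ha x ≤ P := fun w hw => (hmem w).2 hw.1
  have hb : Function.Bijective (fun q : P ⧸ (stabA hS ha x).addSubgroupOf P =>
      Quotient.liftOn' q (fun w : P => (⟨(E a (w : V) : Om Q) • x, orb_E hS ha x ((hmem _).1 w.2)⟩ :
        {y : X // orb hS ha y = orb hS ha x})) (fun u w h => by
          rw [QuotientAddGroup.leftRel_apply, AddSubgroup.mem_addSubgroupOf] at h
          refine Subtype.ext ?_
          change (E a (u : V) : Om Q) • x = (E a (w : V) : Om Q) • x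
          rw [show (w : V) = (u : V) + ((-u + w : P) : V) by simp, ← E_mul hS ha ((hmem _).1 u.2) h.1, mul_smul,
            h.2])) := by
    constructor
    · intro q₁ q₂
      induction q₁ using QuotientAddGroup.induction_on
      induction q₂ using QuotientAddGroup.induction_on
      rename_i u w
      intro h
      have h' : (E a (u : V) : Om Q) • x = (E a (w : V) : Om Q) • x := congrArg Subtype.val h
      refine QuotientAddGroup.eq.2 (AddSubgroup.mem_addSubgroupOf.2 ⟨(hmem _).1 (-u + w : P).2, ?_⟩)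
      rw [AddSubgroup.coe_add, AddSubgroup.coe_neg, ← E_mul hS ha (by rw [polar_neg_right, (hmem _).1 u.2, neg_zero])
        ((hmem _).1 w.2), mul_smul, ← h', ← mul_smul, ← E_inv hS ha ((hmem _).1 u.2), inv_mul_cancel, one_smul]
    · rintro ⟨y, hy⟩
      obtain ⟨w, hw, h⟩ := (orb_eq_iff hS ha).1 hy.symm
      exact ⟨(QuotientAddGroup.mk (⟨w, (hmem w).2 hw⟩ : P)), Subtype.ext h⟩
  have h1 : Nat.card P = Nat.card {y : X // orb hS ha y = orb hS ha x} * Nat.card (stabA hS ha x) := by
    rw [AddSubgroup.card_eq_card_quotient_mul_card_addSubgroup ((stabA hS ha x).addSubgroupOf P),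
      Nat.card_eq_of_bijective _ hb, Nat.card_congr (AddSubgroup.addSubgroupOfEquivOfLe hAP).toEquiv]
  have h2 := card_mul_card_dual hS.pnd (stabA hS ha x)
  have h3 : Nat.card V = Nat.card F * Nat.card P := by rw [card_perp hS ha ha0, hP]; rfl
  refine Nat.eq_of_mul_eq_mul_left (Nat.card_pos (α := stabA hS ha x)) ?_
  rw [subB, h2, h3, h1]
  ring

/-- The orders add up. -/
theorem sum_card_orbB [Finite X] [Fintype (Orb hS ha X)] (ha0 : a ≠ 0) :
    ∑ o : Orb hS ha X, Nat.card (orbB hS ha o) = Nat.card F * Nat.card X := by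
  have e : ∀ o : Orb hS ha X, Nat.card (orbB hS ha o) = Nat.card F * Nat.card {y : X // orb hS ha y = o} := by
    intro o
    induction o using Quotient.inductionOn with
    | h x => exact card_orbB hS ha ha0 x
  rw [Finset.sum_congr rfl fun o _ => e o, ← Finset.mul_sum, ← Nat.card_sigma,
    Nat.card_congr (Equiv.sigmaFiberEquiv (orb hS ha (X := X)))]

theorem sum_cc [Finite X] [Fintype V] (ha0 : a ≠ 0) :
    ∑ v : V, cc hS ha X v = Nat.card F * Nat.card X := by
  haveI := Fintype.ofFinite (Orb hS ha X)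
  rw [← sum_card_orbB hS ha ha0, ← Nat.card_sigma]
  unfold cc
  rw [← Nat.card_sigma]
  exact Nat.card_congr
    { toFun := fun p => ⟨p.2.1, p.1, p.2.2⟩
      invFun := fun p => ⟨p.2.1, p.1, p.2.2⟩
      left_inv := fun p => rfl
      right_inv := fun p => rfl }

/-- The contribution of a set of vectors outside the line. -/
theorem set_bound [Finite X] (ha0 : a ≠ 0) {S : Set V} (hS' : ∀ v ∈ S, v ∉ F ∙ a) {c : ℕ}
    (hc : ∀ v ∈ S, c ≤ cc hS ha X v) :
    Nat.card F * Nat.card (Orb hS ha X) + c * Nat.card S ≤ Nat.card F * Nat.card X := by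
  classical
  have : Finite V := Module.finite_of_finite F
  haveI := Fintype.ofFinite V
  obtain ⟨L, hL⟩ : ∃ L : Finset V, L = Finset.univ.filter (fun v => v ∈ F ∙ a) := ⟨_, rfl⟩
  have hLc : L.card = Nat.card F := by
    rw [Nat.card_congr (LinearEquiv.toSpanNonzeroSingleton F V a ha0).toEquiv, Nat.card_eq_fintype_card,
      Fintype.card_subtype, hL]
  have h1 : ∀ v ∈ L, cc hS ha X v = Nat.card (Orb hS ha X) := fun v hv => by
    rw [hL, Finset.mem_filter] at hv
    obtain ⟨t, rfl⟩ := Submodule.mem_span_singleton.1 hv.2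
    exact cc_line hS ha t
  have hd : Disjoint L S.toFinset := Finset.disjoint_left.2 fun v hv hv' => by
    rw [hL, Finset.mem_filter] at hv
    exact hS' v (Set.mem_toFinset.1 hv') hv.2
  rw [← sum_cc hS ha ha0 (X := X)]
  refine le_trans ?_ (Finset.sum_le_sum_of_subset (Finset.subset_univ (L ∪ S.toFinset)))
  rw [Finset.sum_union hd, Finset.sum_congr rfl h1, Finset.sum_const, hLc, smul_eq_mul]
  refine Nat.add_le_add_left ?_ _
  rw [Nat.card_eq_card_toFinset, mul_comm, ← smul_eq_mul]
  exact Finset.card_nsmul_le_sum _ _ _ fun v hv => hc v (Set.mem_toFinset.1 hv)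

/-! ### The stabiliser of the line -/

section Move

variable (g : Om Q) {t : F} (ht : t ≠ 0) (hg : g • a = t • a)
include hS ha ht hg

theorem conj_E_line {w : V} (hw : polar Q a w = 0) : g * E a w * g⁻¹ = E a (t • g • w) := by
  rw [conj_E hS ha hw, hg, E_smul_left hS ha]
  have h : polar Q (g • a) (g • w) = 0 := by rw [polar_smul, hw]
  rw [hg, polar_smul_left, smul_eq_mul] at h
  exact (mul_eq_zero.mp h).resolve_left ht

theorem perp_move {w : V} (hw : polar Q a w = 0) : polar Q a (g • w) = 0 := by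
  have h : polar Q (g • a) (g • w) = 0 := by rw [polar_smul, hw]
  rw [hg, polar_smul_left, smul_eq_mul] at h
  exact (mul_eq_zero.mp h).resolve_left ht

theorem mem_stabA_move (x : X) {w : V} : t • g • w ∈ stabA hS ha (g • x) ↔ w ∈ stabA hS ha x := by
  have key : ∀ w, polar Q a w = 0 → (((E a (t • g • w) : Om Q) • g • x = g • x) ↔ (E a w : Om Q) • x = x) := by
    intro w hw
    rw [← conj_E_line hS ha g ht hg hw, mul_smul, mul_smul, inv_smul_smul, smul_left_cancel_iff]
  constructor
  · intro h
    have h' := h.1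
    rw [polar_smul_right, smul_eq_mul] at h'
    have h'' : polar Q (g • a) (g • w) = 0 := by
      rw [hg, polar_smul_left, (mul_eq_zero.mp h').resolve_left ht, smul_zero]
    rw [polar_smul] at h''
    exact ⟨h'', (key w h'').1 h.2⟩
  · intro h
    exact ⟨by rw [polar_smul_right, perp_move hS ha g ht hg h.1, smul_zero], (key w h.1).2 h.2⟩

theorem mem_subB_move (x : X) {v : V} : t⁻¹ • g • v ∈ subB hS ha (g • x) ↔ v ∈ subB hS ha x := by
  have e : ∀ w, polar Q (t⁻¹ • g • v) (t • g • w) = polar Q v w := fun w => by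
    rw [polar_smul_left, polar_smul_right, polar_smul, smul_smul, inv_mul_cancel₀ ht, one_smul]
  refine ⟨fun h => mem_dual.2 fun w hw => ?_, fun h => mem_dual.2 fun w hw => ?_⟩
  · rw [← e]; exact mem_dual.1 h _ ((mem_stabA_move hS ha g ht hg x).2 hw)
  · have hw' : t • g • (t⁻¹ • g⁻¹ • w) = w := by rw [smul_scalar, smul_smul, mul_inv_cancel₀ ht, one_smul, smul_inv_smul]
    rw [← hw', e]
    exact mem_dual.1 h _ ((mem_stabA_move hS ha g ht hg x).1 (by rwa [hw']))

/-- The induced map of orbits. -/
noncomputable def orbMap : Orb hS ha X → Orb hS ha X :=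
  Quotient.map' (fun x => g • x) fun x y ⟨w, hw, h⟩ => ⟨t • g • w, by
    rw [polar_smul_right, perp_move hS ha g ht hg hw, smul_zero], by
    rw [← conj_E_line hS ha g ht hg hw, mul_smul, mul_smul, inv_smul_smul, h]⟩

theorem orbMap_mk (x : X) : orbMap hS ha g ht hg (orb hS ha x) = orb hS ha (g • x) := rfl

theorem mem_orbB_move (o : Orb hS ha X) {v : V} :
    t⁻¹ • g • v ∈ orbB hS ha (orbMap hS ha g ht hg o) ↔ v ∈ orbB hS ha o := by
  induction o using Quotient.inductionOn with
  | h x => exact mem_subB_move hS ha g ht hg x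

theorem orbMap_bijective [Finite X] : Function.Bijective (orbMap hS ha g ht hg (X := X)) := by
  refine Finite.surjective_iff_bijective.1 fun o => ?_
  induction o using Quotient.inductionOn with
  | h x => exact ⟨orb hS ha (g⁻¹ • x), by rw [orbMap_mk, smul_inv_smul]⟩

theorem cc_move [Finite X] (v : V) : cc hS ha X (t⁻¹ • g • v) = cc hS ha X v :=
  (Nat.card_congr ((Equiv.ofBijective _ (orbMap_bijective hS ha g ht hg)).subtypeEquiv
    fun o => (mem_orbB_move hS ha g ht hg o).symm)).symm

end Move

/-! ### The types of a point -/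

/-- The Siegel elements at `a` fixing `x` are trivial. -/
def Reg (a : V) (x : X) : Prop := ∀ w, polar Q a w = 0 → (E a w : Om Q) • x = x → w ∈ F ∙ a

/-- Those at `a` with vector orthogonal to `v` fix `x`. -/
def Hyp (a v : V) (x : X) : Prop :=
  polar Q a v = 0 ∧ ∀ w, polar Q a w = 0 → polar Q v w = 0 → (E a w : Om Q) • x = x

theorem hyp_of_le {x : X} {v : V} (hv : polar Q a v = 0) (h : ∀ y ∈ subB hS ha x, y ∈ Submodule.span F {a, v}) :
    Hyp (Q := Q) a v x := by
  refine ⟨hv, fun w hw hvw => (stabA_of_perp hS ha fun y hy => ?_).2⟩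
  obtain ⟨s, t, rfl⟩ := Submodule.mem_span_pair.1 (h y hy)
  rw [polar_add_left, polar_smul_left, polar_smul_left, hw, hvw, smul_zero, smul_zero, add_zero]

theorem reg_of_ge {x : X} (h : ∀ y, polar Q a y = 0 → y ∈ subB hS ha x) : Reg (Q := Q) a x := by
  intro w hw hfix
  by_contra hwa
  obtain ⟨f, hf1, hf2⟩ := ORefl.exists_polar_sep hS.pnd hwa 1
  have hfa : polar Q a f = 0 := by rw [polar_comm]; exact hf1 a (Submodule.mem_span_singleton_self a)
  have h0 : ∀ s : F, chi F (s * polar Q f w) = 0 := fun s => by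
    have := mem_dual.1 (h (s • f) (by rw [polar_smul_right, hfa, smul_zero])) w ⟨hw, hfix⟩
    rwa [polar_smul_left, smul_eq_mul] at this
  exact one_ne_zero (hf2.symm.trans (eq_zero_of_chi h0))

end Cfsg.Agent.Small.OMinIndex
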