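import Cfsg.Agent.Lib.Small.OMinIndex.Orbits

/-!
# A perfect group fixing an anisotropic vector

`GoodGroup Q U` is generated by the Siegel elements `E k z` with `k` in a hyperbolic pair of `U` and `z` good
in its complement; it is perfect over every field.
-/

set_option autoImplicit false
set_option linter.unusedSectionVars false

namespace Cfsg.Agent.Small.OMinIndex

open Module QuadraticMap Cfsg.Agent.Classical Cfsg.Agent.Classical.OCount
open scoped commutatorElement

variable {F : Type*} [Field F] [Finite F] {V : Type*} [AddCommGroup V] [Module F V] [FiniteDimensional F V]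
  {Q : QuadraticForm F V}

/-- An anisotropic vector with a second one of equal value spanning a nondegenerate plane with it. -/
def Good (Q : QuadraticForm F V) (C : Submodule F V) (z : V) : Prop :=
  z ∈ C ∧ Q z ≠ 0 ∧ ∃ z' ∈ C, Q z' = Q z ∧ polar Q z z' ^ 2 ≠ 4 * Q z ^ 2

theorem Good.mem {C : Submodule F V} {z : V} (h : Good Q C z) : z ∈ C := h.1

theorem Good.ne {C : Submodule F V} {z : V} (h : Good Q C z) : Q z ≠ 0 := h.2.1

theorem Good.exists_sym {C : Submodule F V} {z : V} (h : Good Q C z) :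
    ∃ z', Good Q C z' ∧ Q z' = Q z ∧ polar Q z z' ^ 2 ≠ 4 * Q z ^ 2 := by
  obtain ⟨hz, hQz, z', hz', hQ', hne⟩ := h
  exact ⟨z', ⟨hz', hQ' ▸ hQz, z, hz, hQ'.symm, by rw [polar_comm, hQ']; exact hne⟩, hQ', hne⟩

theorem Good.smul {C : Submodule F V} {z : V} (h : Good Q C z) {t : F} (ht : t ≠ 0) : Good Q C (t • z) := by
  obtain ⟨hz, hQz, z', hz', hQ', hne⟩ := h
  refine ⟨C.smul_mem _ hz, ?_, t • z', C.smul_mem _ hz', ?_, ?_⟩
  · rw [QuadraticMap.map_smul, smul_eq_mul]
    exact mul_ne_zero (mul_ne_zero ht ht) hQz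
  · rw [QuadraticMap.map_smul, QuadraticMap.map_smul, hQ']
  · rw [polar_smul_left, polar_smul_right, QuadraticMap.map_smul]
    simp only [smul_eq_mul]
    intro e
    exact hne (mul_left_cancel₀ (pow_ne_zero 4 ht) (by linear_combination e))

/-- The complement of a pair inside a subspace. -/
abbrev compIn (Q : QuadraticForm F V) (U : Submodule F V) (k l : V) : Submodule F V := perpIn Q (perpIn Q U k) l

theorem mem_compIn {U : Submodule F V} {k l x : V} :
    x ∈ compIn Q U k l ↔ x ∈ U ∧ polar Q k x = 0 ∧ polar Q l x = 0 := by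
  simp only [mem_perpIn, and_assoc]

theorem compIn_comm (U : Submodule F V) (k l : V) : compIn Q U k l = compIn Q U l k :=
  Submodule.ext fun x => by simp only [mem_compIn]; tauto

theorem isHPair_symm {k l : V} (h : IsHPair Q (k, l)) : IsHPair Q (l, k) :=
  ⟨h.2.1, h.1, (polar_comm Q l k).trans h.2.2⟩

/-- The generators. -/
def goodGens (Q : QuadraticForm F V) (U : Submodule F V) : Set (Om Q) :=
  {g | ∃ k l z, k ∈ U ∧ l ∈ U ∧ IsHPair Q (k, l) ∧ Good Q (compIn Q U k l) z ∧ g = E k z}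

/-- The group they generate. -/
def GoodGroup (Q : QuadraticForm F V) (U : Submodule F V) : Subgroup (Om Q) := Subgroup.closure (goodGens Q U)

section Weyl

variable (hS : Space Q) {U : Submodule F V} {k l : V} (hk : k ∈ U) (hl : l ∈ U) (hp : IsHPair Q (k, l))
include hS hk hl hp

theorem E_mem_good {z : V} (hz : Good Q (compIn Q U k l) z) : E k z ∈ GoodGroup Q U :=
  Subgroup.subset_closure ⟨k, l, z, hk, hl, hp, hz, rfl⟩

theorem E_smul_mem_good {z : V} (hz : Good Q (compIn Q U k l) z) (t : F) : E k (t • z) ∈ GoodGroup Q U := by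
  rcases eq_or_ne t 0 with rfl | ht
  · rw [zero_smul, E_zero hS hp.1]
    exact one_mem _
  · exact E_mem_good hS hk hl hp (hz.smul ht)

/-- The element exchanging the two lines of the pair acts on their complement as a reflection. -/
theorem exists_weyl {z : V} (hz : Good Q (compIn Q U k l) z) :
    ∃ w ∈ GoodGroup Q U, w • k = (-(Q z)⁻¹) • l ∧ w • l = (-Q z) • k ∧
      ∀ x, polar Q k x = 0 → polar Q l x = 0 → w • x = ORefl.refl Q z x := by
  obtain ⟨ν, hν⟩ : ∃ ν, ν = Q z := ⟨_, rfl⟩
  obtain ⟨-, hzk, hzl⟩ := mem_compIn.1 hz.mem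
  have hν0 : ν ≠ 0 := hν ▸ hz.ne
  obtain ⟨hQk, hQl, hkl⟩ := hp
  change Q k = 0 at hQk
  change Q l = 0 at hQl
  change polar Q k l = 1 at hkl
  have hlk : polar Q l k = 1 := by rw [polar_comm, hkl]
  have hzk' : polar Q z k = 0 := by rw [polar_comm, hzk]
  have hzl' : polar Q z l = 0 := by rw [polar_comm, hzl]
  have hl2 : polar Q l (ν⁻¹ • z) = 0 := by rw [polar_smul_right, hzl, smul_zero]
  refine ⟨E k z * (E l (ν⁻¹ • z) * E k z),
    mul_mem (E_mem_good hS hk hl ⟨hQk, hQl, hkl⟩ hz) (mul_mem ?_ (E_mem_good hS hk hl ⟨hQk, hQl, hkl⟩ hz)), ?_⟩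
  · refine E_smul_mem_good hS hl hk ⟨hQl, hQk, hlk⟩ ?_ _
    rw [compIn_comm]
    exact hz
  refine ⟨?_, ?_, fun x hx1 hx2 => ?_⟩
  · simp only [mul_smul, E_apply hS hQk hzk, E_apply hS hQl hl2, polar_add_right, polar_sub_right, polar_smul_right,
      polar_smul_left, QuadraticMap.map_smul, polar_self_zero hQk, polar_self_zero hQl, hkl, hlk, hzk, hzl, hzk',
      hzl', ← hν, ORefl.polar_self_two, smul_eq_mul]
    match_scalars <;> field_simp <;> ring
  · simp only [mul_smul, E_apply hS hQk hzk, E_apply hS hQl hl2, polar_add_right, polar_sub_right, polar_smul_right,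
      polar_smul_left, QuadraticMap.map_smul, polar_self_zero hQk, polar_self_zero hQl, hkl, hlk, hzk, hzl, hzk',
      hzl', ← hν, ORefl.polar_self_two, smul_eq_mul]
    match_scalars <;> field_simp <;> ring
  · simp only [mul_smul, E_apply hS hQk hzk, E_apply hS hQl hl2, polar_add_right, polar_sub_right, polar_smul_right,
      polar_smul_left, QuadraticMap.map_smul, polar_self_zero hQk, polar_self_zero hQl, hkl, hlk, hzk, hzl, hzk',
      hzl', ← hν, ORefl.polar_self_two, hx1, hx2, ORefl.refl_apply, smul_eq_mul]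
    match_scalars <;> field_simp <;> ring

/-- The product of two exchanges. -/
theorem exists_rotation {z z' : V} (hz : Good Q (compIn Q U k l) z) (hz' : Good Q (compIn Q U k l) z')
    (hQ : Q z' = Q z) :
    ∃ h ∈ GoodGroup Q U, h • k = k ∧
      ∀ x, polar Q k x = 0 → polar Q l x = 0 → h • x = ORefl.refl Q z (ORefl.refl Q z' x) := by
  obtain ⟨w, hw, w1, w2, w3⟩ := exists_weyl hS hk hl hp hz
  obtain ⟨w', hw', w1', w2', w3'⟩ := exists_weyl hS hk hl hp hz'
  obtain ⟨-, hzk, hzl⟩ := mem_compIn.1 hz'.mem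
  refine ⟨w * w', mul_mem hw hw', ?_, fun x hx1 hx2 => ?_⟩
  · rw [mul_smul, w1', smul_scalar, w2, smul_smul, hQ, neg_mul_neg, inv_mul_cancel₀ hz.ne, one_smul]
  · rw [mul_smul, w3' x hx1 hx2, w3] <;>
      simp [ORefl.refl_apply, polar_sub_right, polar_smul_right, hx1, hx2, hzk, hzl]

theorem E_mem_commutator {z : V} (hz : Good Q (compIn Q U k l) z) :
    E k z ∈ ⁅GoodGroup Q U, GoodGroup Q U⁆ := by
  obtain ⟨z', hz', hQ, hne⟩ := hz.exists_sym
  obtain ⟨h, hh, h1, h3⟩ := exists_rotation hS hk hl hp hz hz' hQ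
  obtain ⟨-, hzk, hzl⟩ := mem_compIn.1 hz.mem
  obtain ⟨-, hzk', hzl'⟩ := mem_compIn.1 hz'.mem
  obtain ⟨b, hb⟩ : ∃ b, b = polar Q z z' / Q z := ⟨_, rfl⟩
  have hd : 4 - b ^ 2 ≠ 0 := fun e => hne (by
    have h0 := hz.ne
    rw [hb, div_pow, sub_eq_zero, eq_div_iff (pow_ne_zero 2 h0)] at e
    exact e.symm)
  obtain ⟨α, hα⟩ : ∃ α, α = -2 / (4 - b ^ 2) := ⟨_, rfl⟩
  obtain ⟨γ, hγ⟩ : ∃ γ, γ = b / (4 - b ^ 2) := ⟨_, rfl⟩
  obtain ⟨r, hr⟩ : ∃ r, r = α • z + γ • z' := ⟨_, rfl⟩
  have hrk : polar Q k r = 0 := by rw [hr, polar_add_right, polar_smul_right, polar_smul_right, hzk, hzk']; simp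
  have hrl : polar Q l r = 0 := by rw [hr, polar_add_right, polar_smul_right, polar_smul_right, hzl, hzl']; simp
  have hrM : E k r ∈ GoodGroup Q U := by
    rw [hr, ← E_mul hS hp.1 (by rw [polar_smul_right, hzk, smul_zero]) (by rw [polar_smul_right, hzk', smul_zero])]
    exact mul_mem (E_smul_mem_good hS hk hl hp hz α) (E_smul_mem_good hS hk hl hp hz' γ)
  have hhr : h • r - r = z := by
    have h0 := hz.ne
    have e1 : polar Q z' z = polar Q z z' := polar_comm Q z' z
    rw [h3 r hrk hrl, hr]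
    simp only [ORefl.refl_apply, hQ, polar_add_right, polar_sub_right, polar_smul_right, e1, ORefl.polar_self_two,
      smul_eq_mul, hα, hγ, hb]
    rw [hb, div_pow] at hd
    match_scalars <;> field_simp <;> ring
  have hhk : polar Q k (h • r) = 0 := by rw [← h1, polar_smul, hrk]
  have e : ⁅h, (E k r : Om Q)⁆ = E k z := by
    rw [commutatorElement_def, conj_E hS hp.1 hrk, h1, E_inv hS hp.1 hrk,
      E_mul hS hp.1 hhk (by rw [polar_neg_right, hrk, neg_zero]), ← sub_eq_add_neg, hhr]
  rw [← e]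
  exact Subgroup.commutator_mem_commutator hh hrM

end Weyl

/-- The good group is perfect. -/
theorem goodGroup_perfect (hS : Space Q) (U : Submodule F V) :
    ⁅GoodGroup Q U, GoodGroup Q U⁆ = GoodGroup Q U := by
  refine le_antisymm (Subgroup.commutator_le.2 fun g hg h hh => ?_) ((Subgroup.closure_le _).2 ?_)
  · rw [commutatorElement_def]
    exact mul_mem (mul_mem (mul_mem hg hh) (inv_mem hg)) (inv_mem hh)
  · rintro g ⟨k, l, z, hk, hl, hp, hz, rfl⟩
    exact E_mem_commutator hS hk hl hp hz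

/-- A perfect group has trivial image in a soluble one. -/
theorem perfect_map_eq_bot {G P : Type*} [Group G] [Group P] [Group.IsSolvable P] {M : Subgroup G}
    (hM : ⁅M, M⁆ = M) (f : ↥M →* P) : ∀ g, f g = 1 := by
  have h1 : commutator ↥M = ⊤ := by
    refine Subgroup.map_injective M.subtype_injective ?_
    rw [← MonoidHom.range_eq_map, Subgroup.range_subtype, commutator_def, Subgroup.map_commutator,
      ← MonoidHom.range_eq_map, Subgroup.range_subtype, hM]
  have h2 : ∀ n, Subgroup.map f ⊤ ≤ derivedSeries P n := by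
    intro n
    induction n with
    | zero => exact le_top
    | succ n ih =>
      rw [derivedSeries_succ]
      nth_rw 1 [← h1]
      rw [commutator_def, Subgroup.map_commutator]
      exact Subgroup.commutator_mono ih ih
  obtain ⟨n, hn⟩ := Group.IsSolvable.solvable (G := P)
  intro g
  exact Subgroup.mem_bot.1 (hn ▸ h2 n (Subgroup.mem_map_of_mem _ (Subgroup.mem_top g)))

end Cfsg.Agent.Small.OMinIndex
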