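import Cfsg.Agent.Lib.Small.OMinIndex.AnisoMain
import Cfsg.Agent.Lib.Small.QuadStandard

/-!
# Annihilators without anisotropic vectors

The totally singular spaces they span cover the singular vectors of a smaller space; this leaves only a line,
apart from an exceptional case in which they span maximal totally singular spaces.
-/

set_option autoImplicit false
set_option linter.unusedSectionVars false

namespace Cfsg.Agent.Small.OMinIndex

open Module QuadraticMap Cfsg.Agent.Classical Cfsg.Agent.Classical.OCount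

variable {F : Type*} [Field F] [Finite F] {V : Type*} [AddCommGroup V] [Module F V] [FiniteDimensional F V]
  {Q : QuadraticForm F V} {X : Type*} [MulAction (Om Q) X]

theorem pair_sing {a f : V} (hp : IsHPair Q (a, f)) : Q a = 0 := hp.1

/-- No anisotropic vector. -/
def NsFree (Q : QuadraticForm F V) (B : AddSubgroup V) : Prop := ∀ y ∈ B, Q y = 0

theorem NsFree.perp {B : AddSubgroup V} (h : NsFree Q B) {y z : V} (hy : y ∈ B) (hz : z ∈ B) : polar Q y z = 0 := by
  rw [polar, h _ (B.add_mem hy hz), h y hy, h z hz, sub_zero, sub_zero]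

theorem NsFree.span_singular {B : AddSubgroup V} (h : NsFree Q B) :
    ∀ y ∈ Submodule.span F (B : Set V), Q y = 0 := by
  suffices H : ∀ y ∈ Submodule.span F (B : Set V), Q y = 0 ∧ ∀ z ∈ B, polar Q y z = 0 from fun y hy => (H y hy).1
  intro y hy
  induction hy using Submodule.span_induction with
  | mem y hy => exact ⟨h y hy, fun z hz => h.perp hy hz⟩
  | zero => exact ⟨QuadraticMap.map_zero Q, fun z _ => polar_zero_left Q z⟩
  | add y z hy hz ihy ihz =>
    refine ⟨?_, fun w hw => by rw [polar_add_left, ihy.2 w hw, ihz.2 w hw, add_zero]⟩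
    have hle : Submodule.span F (B : Set V) ≤ LinearMap.ker (Q.polarBilin y) :=
      Submodule.span_le.2 fun w hw => by simpa using ihy.2 w hw
    have hyz : polar Q y z = 0 := by simpa using hle hz
    rw [map_two, ihy.1, ihz.1, hyz, add_zero, add_zero]
  | smul t y _ ih =>
    exact ⟨by rw [QuadraticMap.map_smul, ih.1, smul_zero],
      fun w hw => by rw [polar_smul_left, ih.2 w hw, smul_zero]⟩

open scoped _root_.Classical in
/-- The span of an annihilator without anisotropic vectors, cut down to `C`. -/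
noncomputable def trace (Q : QuadraticForm F V) (C : Submodule F V) (B : AddSubgroup V) : Submodule F V :=
  if NsFree Q B then Submodule.span F (B : Set V) ⊓ C else ⊥

theorem trace_pos {C : Submodule F V} {B : AddSubgroup V} (h : NsFree Q B) :
    trace Q C B = Submodule.span F (B : Set V) ⊓ C := if_pos h

theorem trace_neg {C : Submodule F V} {B : AddSubgroup V} (h : ¬ NsFree Q B) : trace Q C B = ⊥ := if_neg h

theorem mem_trace {C : Submodule F V} {B : AddSubgroup V} {s : V} (h : NsFree Q B)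
    (h1 : s ∈ Submodule.span F (B : Set V)) (h2 : s ∈ C) : s ∈ trace Q C B :=
  (trace_pos h).symm ▸ ⟨h1, h2⟩

/-- The count of the singular vectors of the complement of a second pair. -/
noncomputable def compCountIn (Q : QuadraticForm F V) (a f u u' : V) : ℕ :=
  Nat.card {s : V // s ∈ compIn Q (comp Q (a, f)) u u' ∧ s ≠ 0 ∧ Q s = 0}

/-- The case in which the covering is tight. -/
structure Exceptional (Q : QuadraticForm F V) (d m : ℕ) : Prop where
  four : 4 ≤ Nat.card F
  three : 3 ≤ m
  sing : ∃ K : ℕ, 0 < K ∧ (∀ a f : V, IsHPair Q (a, f) →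
      K * (Nat.card F ^ (m - 1) - 1) = (Nat.card F + 1) * compCount Q (a, f) (fun x => x = 0) ∧
      d < (Nat.card F + 1) * compCount Q (a, f) (fun x => x = 0) + 2 * K ∧
      ∀ c : F, c ≠ 0 → d < (Nat.card F + 1) * compCount Q (a, f) (fun x => x = 0) +
        compCount Q (a, f) (fun x => ∃ t : F, t ≠ 0 ∧ x = t ^ 2 * c)) ∧
    (finrank F V = 2 * m → Nat.card {v : V // v ≠ 0 ∧ Q v = 0} =
      (Nat.card F ^ m - 1) * (Nat.card F ^ (m - 1) + 1) ∧ d < K * (Nat.card F ^ (m - 1) + 1))

/-- A tight covering by so few orbits that the degree is too small for it. -/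
structure Small (Q : QuadraticForm F V) (d m : ℕ) (a f : V) (c : ℕ) : Prop where
  pos : 1 ≤ m
  cls : ∀ e : F, e ≠ 0 → d < c * compCount Q (a, f) (fun x => x = 0) +
    compCount Q (a, f) (fun x => ∃ t : F, t ≠ 0 ∧ x = t ^ 2 * e)
  few : d * (Nat.card F ^ (m - 1) - 1) < Nat.card F ^ (m - 1) * (c * compCount Q (a, f) (fun x => x = 0))

/-- The numerical hypotheses on the degree for the singular vectors. -/
structure SingBound (Q : QuadraticForm F V) (d m : ℕ) : Prop where
  ts : ∀ U : Submodule F V, (∀ u ∈ U, Q u = 0) → finrank F U ≤ m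
  cover : ∀ a f u u' : V, IsHPair Q (a, f) → u ∈ comp Q (a, f) → u' ∈ comp Q (a, f) → IsHPair Q (u, u') → ∀ c : ℕ,
    c * compCount Q (a, f) (fun x => x = 0) < d → compCountIn Q a f u u' ≤ c * (Nat.card F ^ (m - 2) - 1) →
      (c = Nat.card F + 1 ∧ compCountIn Q a f u u' = c * (Nat.card F ^ (m - 2) - 1) ∧ Exceptional Q d m) ∨
        Small Q d m a f c

/-- An annihilator without anisotropic vectors not in a plane through `a`. -/
def Wide (hS : Space Q) {a : V} (ha : Q a = 0) (x : X) : Prop :=
  NsFree Q (subB hS ha x) ∧ ∀ v, ∃ y ∈ subB hS ha x, y ∉ Submodule.span F {a, v}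

section Frame

variable (hS : Space Q) {a f : V} (hp : IsHPair Q (a, f))
include hS hp

/-- A move between singular vectors of the complement. -/
theorem exists_move_singular {u₀ u : V} (hu₀ : u₀ ∈ comp Q (a, f)) (hu : u ∈ comp Q (a, f)) (h0 : u₀ ≠ 0)
    (h1 : u ≠ 0) (hQ₀ : Q u₀ = 0) (hQ : Q u = 0) :
    ∃ (g : Om Q) (s : F), s ≠ 0 ∧ g • a = s • a ∧ g • u₀ = s • u := by
  have hW := nonDeg_comp_top hS hp
  have h5 := finrank_comp_ge hS hp
  obtain ⟨g, t, ht, hg, hfix⟩ := exists_move_point hS hW (le_trans (by norm_num) h5) hu₀ hu h0 h1 hQ₀ hQ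
  obtain ⟨l, hl, hul⟩ := exists_partner_in hu hQ (by
    by_contra! hc
    exact h1 (hW u hu hc))
  have hd := finrank_comp_in (Q := Q) (U := comp Q (a, f)) u l
  obtain ⟨r, hr, hr1, hr2⟩ := exists_singular_pair_in hS hp (nonDeg_comp hW hu hl hul) (by omega)
  obtain ⟨⟨r1, r1w⟩, r1l⟩ := (mem_perpIn.1 hr1).imp_left mem_perpIn.1
  obtain ⟨⟨r2, r2w⟩, r2l⟩ := (mem_perpIn.1 hr2).imp_left mem_perpIn.1
  obtain ⟨h, e1, -, -, -, e5⟩ := exists_torus_two hS hp hr r1 r2 ht
  have hhu : h • u = u := e5 u (mem_comp.1 hu).1 (mem_comp.1 hu).2 (by rw [polar_comm]; exact r1w)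
    (by rw [polar_comm]; exact r2w)
  refine ⟨h * g, t, ht, ?_, ?_⟩
  · rw [mul_smul, hfix a fun w hw => by rw [polar_comm]; exact (mem_comp.1 hw).1, e1]
  · rw [mul_smul, hg, smul_scalar, hhu]

theorem wide_move {x : X} (hw : Wide hS (pair_sing hp) x) {g : Om Q} {s : F} (hs : s ≠ 0) (hga : g • a = s • a) :
    Wide hS (pair_sing hp) (g • x) := by
  have key : ∀ y ∈ subB hS (pair_sing hp) (g • x), s • g⁻¹ • y ∈ subB hS (pair_sing hp) x := fun y hy => by
    rw [← mem_subB_move hS (pair_sing hp) g hs hga x, smul_scalar, smul_inv_smul, smul_smul, inv_mul_cancel₀ hs, one_smul]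
    exact hy
  refine ⟨fun y hy => ?_, fun v => ?_⟩
  · have h := hw.1 _ (key y hy)
    rw [QuadraticMap.map_smul, form_smul, smul_eq_mul] at h
    exact (mul_eq_zero.1 h).resolve_left (mul_ne_zero hs hs)
  · obtain ⟨y, hy, hyv⟩ := hw.2 (g⁻¹ • v)
    refine ⟨s⁻¹ • g • y, (mem_subB_move hS (pair_sing hp) g hs hga x).2 hy, fun hm => hyv ?_⟩
    obtain ⟨α, β, e⟩ := Submodule.mem_span_pair.1 hm
    have hia : g⁻¹ • a = s⁻¹ • a := by
      rw [inv_smul_eq_iff, smul_scalar, hga, smul_smul, inv_mul_cancel₀ hs, one_smul]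
    have e' := congrArg (fun z => s • g⁻¹ • z) e
    simp only [smul_add, smul_scalar, inv_smul_smul, hia] at e'
    simp only [smul_smul, mul_inv_cancel₀ hs, one_smul] at e'
    exact Submodule.mem_span_pair.2 ⟨_, _, e'⟩

variable [Finite X]

/-- The trace in the smaller space of the span of an annihilator. -/
theorem finrank_trace {m : ℕ} (hts : ∀ U : Submodule F V, (∀ u ∈ U, Q u = 0) → finrank F U ≤ m) {u u' : V}
    (hu : u ∈ comp Q (a, f)) (hu' : u' ∈ comp Q (a, f)) (huu : IsHPair Q (u, u')) {B : AddSubgroup V} (hB : NsFree Q B)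
    (hBa : a ∈ B) (huB : u ∈ B) :
    finrank F ↥(Submodule.span F (B : Set V) ⊓ compIn Q (comp Q (a, f)) u u') ≤ m - 2 := by
  obtain ⟨T, hT⟩ : ∃ T, T = Submodule.span F (B : Set V) := ⟨_, rfl⟩
  obtain ⟨u1, u2⟩ := mem_comp.1 hu'
  have hfa : polar Q f a = 1 := by rw [polar_comm]; exact hp.2.2
  have hu'u : polar Q u' u = 1 := by rw [polar_comm]; exact huu.2.2
  have hdis : Disjoint (Submodule.span F ({a, u} : Set V)) (T ⊓ compIn Q (comp Q (a, f)) u u') := by
    rw [Submodule.disjoint_def]
    intro w hw hw'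
    obtain ⟨α, β, rfl⟩ := Submodule.mem_span_pair.1 hw
    obtain ⟨h1, -, h3⟩ := mem_compIn.1 hw'.2
    have h2 := (mem_comp.1 h1).2
    change polar Q f (α • a + β • u) = 0 at h2
    rw [polar_add_right, polar_smul_right, polar_smul_right, hfa, show polar Q f u = 0 from (mem_comp.1 hu).2] at h2
    rw [polar_add_right, polar_smul_right, polar_smul_right, hu'u, polar_comm Q u' a,
      show polar Q a u' = 0 from u1] at h3
    simp only [smul_eq_mul, mul_one, mul_zero, add_zero, zero_add] at h2 h3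
    rw [h2, h3, zero_smul, zero_smul, add_zero]
  have hli : finrank F (Submodule.span F ({a, u} : Set V)) = 2 := by
    have h : LinearIndependent F ![a, u] := LinearIndependent.pair_iff.2 fun s t e => by
      have h1 := congrArg (polar Q f) e
      rw [polar_add_right, polar_smul_right, polar_smul_right, hfa, show polar Q f u = 0 from (mem_comp.1 hu).2,
        polar_zero_right] at h1
      have h2 := congrArg (polar Q u') e
      rw [polar_add_right, polar_smul_right, polar_smul_right, hu'u, polar_comm Q u' a,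
        show polar Q a u' = 0 from u1, polar_zero_right] at h2
      exact ⟨by simpa using h1, by simpa using h2⟩
    have := finrank_span_eq_card h
    rwa [Matrix.range_cons_cons_empty, Fintype.card_fin] at this
  have hle : Submodule.span F ({a, u} : Set V) ⊔ T ⊓ compIn Q (comp Q (a, f)) u u' ≤ T := by
    refine sup_le (Submodule.span_le.2 ?_) inf_le_left
    rintro w (rfl | rfl)
    · exact hT ▸ Submodule.subset_span hBa
    · exact hT ▸ Submodule.subset_span huB
  have h1 := Submodule.finrank_sup_add_finrank_inf_eq (Submodule.span F ({a, u} : Set V))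
    (T ⊓ compIn Q (comp Q (a, f)) u u')
  rw [hdis.eq_bot, finrank_bot, hli] at h1
  have h2 := Submodule.finrank_mono hle
  have h3 := hts T (hT ▸ hB.span_singular)
  rw [← hT]
  omega

omit hp in
theorem card_ne_zero_submodule (U : Submodule F V) :
    Nat.card {s : V // s ∈ U ∧ s ≠ 0} = Nat.card F ^ finrank F U - 1 := by
  classical
  haveI : Finite V := Module.finite_of_finite F
  haveI := Fintype.ofFinite V
  have h : Nat.card U = Nat.card F ^ finrank F U := natCard_eq_pow_finrank
  rw [Nat.card_eq_fintype_card, Fintype.card_subtype] at *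
  rw [← h, ← Finset.card_erase_of_mem (show (0 : V) ∈ Finset.univ.filter (fun s => s ∈ U) by simp)]
  congr 1
  ext s
  simp [and_comm]

/-- A covering that is too small does not occur. -/
theorem no_small {m : ℕ} (hts : ∀ U : Submodule F V, (∀ u ∈ U, Q u = 0) → finrank F U ≤ m) {u₀ : V}
    (hu₀ : u₀ ∈ comp Q (a, f)) (h0 : u₀ ≠ 0) (hQu : Q u₀ = 0)
    (hsm : Small Q (Nat.card X) m a f (cc hS (pair_sing hp) X u₀)) : False := by
  classical
  haveI : Finite V := Module.finite_of_finite F
  haveI := Fintype.ofFinite V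
  haveI := Fintype.ofFinite (Orb hS (pair_sing hp) X)
  obtain ⟨hm, hcls, hfew⟩ := hsm
  have ha0 : a ≠ 0 := fun e => one_ne_zero (α := F) (by
    rw [← show polar Q a f = 1 from hp.2.2, e, polar_zero_left])
  have hns : ∀ o : Orb hS (pair_sing hp) X, NsFree Q (orbB hS (pair_sing hp) o) := by
    intro o y hy
    by_contra hQy
    obtain ⟨S₀, hS₀⟩ : ∃ S₀, S₀ = Finset.univ.filter (fun v : V => v ∈ perpSet Q a (fun x => x = 0)) := ⟨_, rfl⟩
    obtain ⟨C₀, hC₀⟩ : ∃ C₀, C₀ = Finset.univ.filter
        (fun w : V => w ∈ perpSet Q a (fun x => ∃ t : F, t ≠ 0 ∧ x = t ^ 2 * Q y)) := ⟨_, rfl⟩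
    obtain ⟨L, hL⟩ : ∃ L, L = Finset.univ.filter (fun v : V => v ∈ F ∙ a) := ⟨_, rfl⟩
    have hcard : ∀ P : F → Prop, (Finset.univ.filter (fun v : V => v ∈ perpSet Q a P)).card =
        Nat.card F * compCount Q (a, f) P := fun P => by
      rw [← card_perpSet hp, Nat.card_eq_fintype_card, ← Fintype.card_subtype]
    have hLc : L.card = Nat.card F := by
      rw [Nat.card_congr (LinearEquiv.toSpanNonzeroSingleton F V a ha0).toEquiv, Nat.card_eq_fintype_card,
        Fintype.card_subtype, hL]
    have hd1 : Disjoint L S₀ := Finset.disjoint_left.2 fun v hv hv' => by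
      rw [hL, Finset.mem_filter] at hv
      rw [hS₀, Finset.mem_filter] at hv'
      exact hv'.2.2.1 hv.2
    have hd2 : Disjoint (L ∪ S₀) C₀ := Finset.disjoint_left.2 fun w hw hw' => by
      rw [hC₀, Finset.mem_filter] at hw'
      obtain ⟨-, h1, h2, t, ht, h3⟩ := hw'
      rcases Finset.mem_union.1 hw with h | h
      · rw [hL, Finset.mem_filter] at h
        exact h2 h.2
      · rw [hS₀, Finset.mem_filter] at h
        rw [h.2.2.2] at h3
        exact mul_ne_zero (pow_ne_zero 2 ht) hQy h3.symm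
    have h1 : ∀ v ∈ L, cc hS (pair_sing hp) X v = Nat.card (Orb hS (pair_sing hp) X) := fun v hv => by
      rw [hL, Finset.mem_filter] at hv
      obtain ⟨t, rfl⟩ := Submodule.mem_span_singleton.1 hv.2
      exact cc_line hS (pair_sing hp) t
    have h2 : ∀ v ∈ S₀, cc hS (pair_sing hp) X v = cc hS (pair_sing hp) X u₀ := fun v hv => by
      rw [hS₀, Finset.mem_filter] at hv
      obtain ⟨-, g1, g2, g3⟩ := hv
      rw [← cc_proj hS hp (y := v)]
      refine cc_singular hS hp hu₀ (proj_mem hp g1) h0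
        (fun e => g2 (Submodule.mem_span_singleton.2 ⟨_, (sub_eq_zero.1 e).symm⟩)) hQu ?_
      rw [sub_eq_add_neg, ← neg_smul, form_add_line hp g1, g3]
    have hay := orbB_perp hS (pair_sing hp) o hy
    have hne : cc hS (pair_sing hp) X y ≠ 0 := by
      haveI : Nonempty {o' : Orb hS (pair_sing hp) X // y ∈ orbB hS (pair_sing hp) o'} := ⟨⟨o, hy⟩⟩
      exact Nat.card_pos.ne'
    have h3 : ∀ v ∈ C₀, 1 ≤ cc hS (pair_sing hp) X v := fun v hv => Nat.one_le_iff_ne_zero.2 (by
      rw [hC₀, Finset.mem_filter] at hv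
      obtain ⟨-, g1, g2, t, ht, g3⟩ := hv
      rw [← cc_proj hS hp (y := v), cc_value hS hp (proj_mem hp hay) (proj_mem hp g1)
        (by rw [sub_eq_add_neg, ← neg_smul, form_add_line hp hay]; exact hQy) ht (by
          rw [sub_eq_add_neg, ← neg_smul, form_add_line hp g1, sub_eq_add_neg, ← neg_smul, form_add_line hp hay, g3]),
        cc_proj hS hp (y := y)]
      exact hne)
    have h4 := Finset.sum_le_sum_of_subset (f := fun w => cc hS (pair_sing hp) X w)
      (Finset.subset_univ (L ∪ S₀ ∪ C₀))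
    rw [Finset.sum_union hd2, Finset.sum_union hd1, Finset.sum_congr rfl h1, Finset.sum_congr rfl h2,
      Finset.sum_const, Finset.sum_const, sum_cc hS (pair_sing hp) ha0, smul_eq_mul, smul_eq_mul, hLc, hS₀,
      hcard] at h4
    have h5 := le_trans (Nat.add_le_add_left (Finset.sum_le_sum h3) _) h4
    rw [Finset.sum_const, smul_eq_mul, mul_one, hC₀, hcard, mul_assoc, mul_comm (compCount Q (a, f) _) (cc _ _ _ _),
      ← Nat.left_distrib, ← Nat.left_distrib] at h5
    have h6 := Nat.le_of_mul_le_mul_left h5 Nat.card_pos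
    have h7 := hcls (Q y) hQy
    omega
  have hB : ∀ o : Orb hS (pair_sing hp) X,
      Nat.card (orbB hS (pair_sing hp) o) ≤ Nat.card F * Nat.card F ^ (m - 1) := fun o => by
    rw [← pow_succ', Nat.sub_add_cancel hm]
    calc Nat.card (orbB hS (pair_sing hp) o)
        ≤ Nat.card ↥(Submodule.span F (orbB hS (pair_sing hp) o : Set V)) :=
          Nat.card_le_card_of_injective (fun y => ⟨y.1, Submodule.subset_span y.2⟩)
            fun y z e => Subtype.ext (congrArg (fun w => w.1) e)
      _ ≤ Nat.card F ^ m := (natCard_eq_pow_finrank (K := F)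
            (V := ↥(Submodule.span F (orbB hS (pair_sing hp) o : Set V)))).trans_le
          (Nat.pow_le_pow_right (Nat.card_pos (α := F)) (hts _ (hns o).span_singular))
  have hd1 : Nat.card X ≤ Nat.card (Orb hS (pair_sing hp) X) * Nat.card F ^ (m - 1) := by
    refine Nat.le_of_mul_le_mul_left (?_ : Nat.card F * _ ≤ Nat.card F * _) (Nat.card_pos (α := F))
    rw [← sum_card_orbB hS (pair_sing hp) ha0, mul_left_comm, Nat.card_eq_fintype_card (α := Orb _ _ _),
      ← Finset.card_univ, ← smul_eq_mul, ← Finset.sum_const]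
    exact Finset.sum_le_sum fun o _ => hB o
  have hd2 := Nat.mul_le_mul_right (Nat.card F ^ (m - 1)) (singular_bound hS hp (X := X) hu₀ h0 hQu)
  rw [Nat.add_mul] at hd2
  rw [Nat.mul_sub, mul_one, mul_comm (Nat.card F ^ (m - 1))] at hfew
  omega

/-- The covering of the singular vectors and the consequences of a tight one. -/
theorem cover {m : ℕ} (hd : AnisoBound Q (Nat.card X)) (hsb : SingBound Q (Nat.card X) m) {u₀ : V} {x : X}
    (hu₀ : u₀ ∈ comp Q (a, f)) (h0 : u₀ ≠ 0) (hux : u₀ ∈ subB hS (pair_sing hp) x) (hwide : Wide hS (pair_sing hp) x) :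
    Exceptional Q (Nat.card X) m ∧ cc hS (pair_sing hp) X u₀ = Nat.card F + 1 ∧
      ∀ o o' : Orb hS (pair_sing hp) X, u₀ ∈ orbB hS (pair_sing hp) o → u₀ ∈ orbB hS (pair_sing hp) o' →
        NsFree Q (orbB hS (pair_sing hp) o) ∧ m ≤ finrank F (Submodule.span F (orbB hS (pair_sing hp) o : Set V)) ∧
        (Submodule.span F (orbB hS (pair_sing hp) o : Set V) = Submodule.span F (orbB hS (pair_sing hp) o' : Set V) → o = o') := by
  classical
  haveI : Finite V := Module.finite_of_finite F
  haveI := Fintype.ofFinite V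
  have hQu : Q u₀ = 0 := hwide.1 u₀ hux
  have hW := nonDeg_comp_top hS hp
  obtain ⟨u', hu', huu⟩ := exists_partner_in hu₀ hQu (by
    by_contra! hc
    exact h0 (hW u₀ hu₀ hc))
  obtain ⟨C, hC⟩ : ∃ C, C = compIn Q (comp Q (a, f)) u₀ u' := ⟨_, rfl⟩
  have hCn : NonDeg Q C := hC ▸ nonDeg_comp hW hu₀ hu' huu
  have hC3 : 3 ≤ finrank F C := by
    have h5 := finrank_comp_ge hS hp
    have := finrank_comp_in (Q := Q) (U := comp Q (a, f)) u₀ u'
    rw [hC]
    change 3 ≤ finrank F (perpIn Q (perpIn Q (comp Q (a, f)) u₀) u')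
    omega
  let O := {o : Orb hS (pair_sing hp) X // u₀ ∈ orbB hS (pair_sing hp) o}
  haveI := Fintype.ofFinite O
  let T : O → Submodule F V := fun o => trace Q C (orbB hS (pair_sing hp) o.1)
  let P : O → Finset V := fun o => Finset.univ.filter fun s => s ∈ T o ∧ s ≠ 0
  let M : ℕ := Nat.card F ^ (m - 2) - 1
  have hTle : ∀ o, finrank F (T o) ≤ m - 2 := fun o => by
    by_cases h : NsFree Q (orbB hS (pair_sing hp) o.1)
    · rw [show T o = _ from trace_pos h]
      exact hC ▸ finrank_trace hS hp hsb.ts hu₀ hu' huu h (by simpa using line_le_orbB hS (pair_sing hp) o.1 1) o.2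
    · rw [show T o = _ from trace_neg h, finrank_bot]
      exact Nat.zero_le _
  have hPc : ∀ o, (P o).card = Nat.card F ^ finrank F (T o) - 1 := fun o => by
    rw [← card_ne_zero_submodule hS, Nat.card_eq_fintype_card, Fintype.card_subtype]
  have hPM : ∀ o, (P o).card ≤ M := fun o => by
    rw [hPc o]
    exact Nat.sub_le_sub_right (Nat.pow_le_pow_right Nat.card_pos (hTle o)) 1
  let S : Finset V := Finset.univ.filter fun s => s ∈ C ∧ s ≠ 0 ∧ Q s = 0
  have hSc : compCountIn Q a f u₀ u' = S.card := by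
    rw [compCountIn, Nat.card_eq_fintype_card, Fintype.card_subtype, ← hC]
  -- a first trace
  obtain ⟨y, hy, hyu⟩ := hwide.2 u₀
  obtain ⟨s₀, hs₀⟩ : ∃ s₀, s₀ = y - polar Q f y • a - polar Q u' (y - polar Q f y • a) • u₀ := ⟨_, rfl⟩
  have hspan : ∀ {z : V}, z ∈ subB hS (pair_sing hp) x → z ∈ Submodule.span F (subB hS (pair_sing hp) x : Set V) :=
    fun h => Submodule.subset_span h
  have ha_span : a ∈ Submodule.span F (subB hS (pair_sing hp) x : Set V) :=
    hspan (by simpa using line_le_subB hS (pair_sing hp) x 1)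
  have hs₀T : s₀ ∈ Submodule.span F (subB hS (pair_sing hp) x : Set V) :=
    hs₀ ▸ Submodule.sub_mem _ (Submodule.sub_mem _ (hspan hy) (Submodule.smul_mem _ _ ha_span))
      (Submodule.smul_mem _ _ (hspan hux))
  have hs₀C : s₀ ∈ C := by
    have hay := subB_perp hS (pair_sing hp) hy
    have huy : polar Q u₀ (y - polar Q f y • a) = 0 := by
      rw [polar_sub_right, polar_smul_right, polar_comm Q u₀ a, show polar Q a u₀ = 0 from (mem_comp.1 hu₀).1,
        hwide.1.perp hux hy, smul_zero, sub_zero]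
    rw [hC]
    refine mem_compIn.2 ⟨hs₀ ▸ Submodule.sub_mem _ (proj_mem hp hay) (Submodule.smul_mem _ _ hu₀), ?_⟩
    have := mem_comp.1 (exists_split (p := (u₀, u')) huu (y - polar Q f y • a))
    simp only [huy, zero_smul, sub_zero] at this
    rw [hs₀]
    exact this
  have hs₀0 : s₀ ≠ 0 := fun e => hyu (Submodule.mem_span_pair.2
    ⟨polar Q f y, polar Q u' (y - polar Q f y • a), by
      rw [hs₀, sub_eq_zero] at e
      rw [← e, add_sub_cancel]⟩)
  have hQs₀ : Q s₀ = 0 := hwide.1.span_singular s₀ hs₀T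
  have hcover : S ⊆ Finset.univ.biUnion P := by
    intro s hs
    obtain ⟨hsC, hs0, hQs⟩ := (Finset.mem_filter.1 hs).2
    obtain ⟨g, t, ht, hg, hfix⟩ := exists_move_point hS hCn hC3 hs₀C hsC hs₀0 hs0 hQs₀ hQs
    have hga : g • a = a := hfix a fun z hz => by
      rw [hC] at hz; rw [polar_comm]; exact (mem_comp.1 (mem_compIn.1 hz).1).1
    have hgu : g • u₀ = u₀ := hfix u₀ fun z hz => by
      rw [hC] at hz; rw [polar_comm]; exact (mem_compIn.1 hz).2.1
    have hmv : ∀ w, g • w ∈ subB hS (pair_sing hp) (g • x) ↔ w ∈ subB hS (pair_sing hp) x := fun w => by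
      have := mem_subB_move hS (pair_sing hp) g one_ne_zero (by rw [one_smul]; exact hga) x (v := w)
      rwa [inv_one, one_smul] at this
    obtain ⟨hns, -⟩ := wide_move hS hp hwide (g := g) one_ne_zero (by rw [one_smul]; exact hga)
    have himg : ∀ z ∈ Submodule.span F (subB hS (pair_sing hp) x : Set V),
        g • z ∈ Submodule.span F (subB hS (pair_sing hp) (g • x) : Set V) := fun z hz => by
      induction hz using Submodule.span_induction with
      | mem z hz => exact Submodule.subset_span ((hmv z).2 hz)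
      | zero => rw [smul_zero']; exact Submodule.zero_mem _
      | add z w _ _ h1 h2 => rw [smul_add]; exact Submodule.add_mem _ h1 h2
      | smul r z _ h1 => rw [smul_scalar]; exact Submodule.smul_mem _ _ h1
    refine Finset.mem_biUnion.2 ⟨⟨orb hS (pair_sing hp) (g • x), ?_⟩, Finset.mem_univ _, ?_⟩
    · rw [orbB_mk, ← hgu]; exact (hmv u₀).2 hux
    · refine Finset.mem_filter.2 ⟨Finset.mem_univ _, ?_, hs0⟩
      refine mem_trace hns ?_ hsC
      have := himg s₀ hs₀T
      rw [hg] at this
      exact (Submodule.smul_mem_iff _ ht).1 this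
  have hcard : cc hS (pair_sing hp) X u₀ = Fintype.card O := Nat.card_eq_fintype_card
  have hsum : S.card ≤ ∑ o, (P o).card := (Finset.card_le_card hcover).trans Finset.card_biUnion_le
  have hc1 : compCountIn Q a f u₀ u' ≤ cc hS (pair_sing hp) X u₀ * M := by
    rw [hSc, hcard]
    refine hsum.trans (le_trans (Finset.sum_le_sum fun o _ => hPM o) ?_)
    rw [Finset.sum_const, Finset.card_univ, smul_eq_mul]
  have hb := singular_bound hS hp (X := X) hu₀ h0 hQu
  haveI : Nonempty (Orb hS (pair_sing hp) X) := ⟨orb hS (pair_sing hp) x⟩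
  have hO : 0 < Nat.card (Orb hS (pair_sing hp) X) := Nat.card_pos
  obtain ⟨hc, heq, hE⟩ := (hsb.cover a f u₀ u' hp hu₀ hu' huu (cc hS (pair_sing hp) X u₀) (by omega) hc1).resolve_right
    (no_small hS hp hsb.ts hu₀ h0 hQu)
  refine ⟨hE, hc, fun o o' ho ho' => ?_⟩
  have hM : 0 < M := by
    have h1 : 1 < Nat.card F := by have := hE.four; omega
    have := Nat.one_lt_pow (n := m - 2) (by have := hE.three; omega) h1
    simp only [M]
    omega
  have hcov2 : ∀ o₁ : O, (P o₁).card < M → False := fun o₁ hlt => by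
    have h1 : ∑ o, (P o).card < ∑ _o : O, M :=
      Finset.sum_lt_sum (fun o _ => hPM o) ⟨o₁, Finset.mem_univ _, hlt⟩
    rw [Finset.sum_const, Finset.card_univ, smul_eq_mul, ← hcard] at h1
    rw [hSc] at heq
    exact absurd (lt_of_le_of_lt hsum h1) (not_lt.2 heq.ge)
  have hfull : ∀ o₁ : O, NsFree Q (orbB hS (pair_sing hp) o₁.1) ∧ finrank F (T o₁) = m - 2 := by
    intro o₁
    have h1 : finrank F (T o₁) = m - 2 := by
      refine le_antisymm (hTle o₁) (Nat.le_of_not_lt fun hlt => hcov2 o₁ ?_)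
      rw [hPc o₁]
      have h2 : Nat.card F ^ finrank F (T o₁) < Nat.card F ^ (m - 2) :=
        Nat.pow_lt_pow_right (by have := hE.four; omega) hlt
      have h3 : 0 < Nat.card F ^ finrank F (T o₁) := pow_pos Nat.card_pos _
      simp only [M]
      omega
    refine ⟨by_contra fun hn => ?_, h1⟩
    rw [show T o₁ = _ from trace_neg hn, finrank_bot] at h1
    have := hE.three
    omega
  obtain ⟨hns, hdim⟩ := hfull ⟨o, ho⟩
  obtain ⟨hns', -⟩ := hfull ⟨o', ho'⟩
  refine ⟨hns, ?_, fun hspeq => ?_⟩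
  · -- two more dimensions
    rw [show T ⟨o, ho⟩ = _ from trace_pos hns] at hdim
    suffices key : ∀ Tt : Submodule F V, a ∈ Tt → u₀ ∈ Tt → finrank F ↥(Tt ⊓ C) = m - 2 → m ≤ finrank F Tt from
      key _ (Submodule.subset_span (by simpa using line_le_orbB hS (pair_sing hp) o 1))
        (Submodule.subset_span ho) hdim
    intro Tt haT huT hdim
    have h1 : Tt ⊓ C < Tt ⊓ comp Q (a, f) := by
      refine lt_of_le_not_ge (inf_le_inf_left _ (hC ▸ inf_le_left.trans inf_le_left)) fun h => ?_
      have := (h ⟨huT, hu₀⟩).2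
      rw [hC] at this
      have h2 := (mem_compIn.1 this).2.2
      rw [polar_comm, show polar Q u₀ u' = 1 from huu.2.2] at h2
      exact one_ne_zero h2
    have h2 : Tt ⊓ comp Q (a, f) < Tt := by
      refine lt_of_le_not_ge inf_le_left fun h => ?_
      have h3 : polar Q f a = 0 := (mem_comp.1 (h haT).2).2
      rw [polar_comm, show polar Q a f = 1 from hp.2.2] at h3
      exact one_ne_zero h3
    have := Submodule.finrank_lt_finrank_of_lt h1
    have := Submodule.finrank_lt_finrank_of_lt h2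
    omega
  · by_contra hne
    have hTeq : T ⟨o, ho⟩ = T ⟨o', ho'⟩ := by simp only [T, trace_pos hns, trace_pos hns', hspeq]
    have hcov' : S ⊆ (Finset.univ.erase (⟨o', ho'⟩ : O)).biUnion P := by
      intro s hs
      obtain ⟨o₁, -, h1⟩ := Finset.mem_biUnion.1 (hcover hs)
      by_cases he : o₁ = ⟨o', ho'⟩
      · refine Finset.mem_biUnion.2 ⟨⟨o, ho⟩, Finset.mem_erase.2 ⟨fun e => hne (congrArg Subtype.val e), Finset.mem_univ _⟩, ?_⟩
        rw [he] at h1
        simpa [P, hTeq] using h1
      · exact Finset.mem_biUnion.2 ⟨o₁, Finset.mem_erase.2 ⟨he, Finset.mem_univ _⟩, h1⟩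
    have h1 := (Finset.card_le_card hcov').trans (Finset.card_biUnion_le.trans (Finset.sum_le_sum fun o _ => hPM o))
    rw [Finset.sum_const, Finset.card_erase_of_mem (Finset.mem_univ _), Finset.card_univ, smul_eq_mul, ← hcard,
      Nat.sub_one_mul] at h1
    rw [hSc] at heq
    have h3 : M ≤ cc hS (pair_sing hp) X u₀ * M := Nat.le_mul_of_pos_left M (by omega)
    simp only [M] at h1 hM h3
    omega

/-- Outside the exceptional case a point that is not regular is of hyperplane type. -/
theorem exists_hyp {m : ℕ} (hd : AnisoBound Q (Nat.card X)) (hsb : SingBound Q (Nat.card X) m)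
    {x : X} (hE : Exceptional Q (Nat.card X) m → ¬ Wide hS (pair_sing hp) x) (hr : ¬ Reg (Q := Q) a x) : ∃ v, Hyp (Q := Q) a v x := by
  by_cases hns : NsFree Q (subB hS (pair_sing hp) x)
  swap
  · simp only [NsFree, not_forall] at hns
    obtain ⟨v, hvx, hQv⟩ := hns
    rcases ns_line_or_top hS hp hd hQv hvx with h | h
    · exact ⟨v, hyp_of_le hS (pair_sing hp) (subB_perp hS (pair_sing hp) hvx) h⟩
    · exact absurd (reg_of_ge hS (pair_sing hp) h) hr
  by_cases hall : ∀ y ∈ subB hS (pair_sing hp) x, y ∈ F ∙ a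
  · exact ⟨0, hyp_of_le hS (pair_sing hp) (polar_zero_right Q a) fun y hy =>
      Submodule.span_mono (s := ({a} : Set V)) (Set.singleton_subset_iff.2 (Or.inl rfl)) (hall y hy)⟩
  push Not at hall
  obtain ⟨y, hy, hya⟩ := hall
  by_cases hwide : ∀ v, ∃ z ∈ subB hS (pair_sing hp) x, z ∉ Submodule.span F {a, v}
  · refine absurd (cover hS hp hd hsb (proj_mem hp (subB_perp hS (pair_sing hp) hy)) (fun e => hya ?_)
      (proj_mem_subB hS hp hy) ⟨hns, hwide⟩).1 (fun h => hE h ⟨hns, hwide⟩)
    exact Submodule.mem_span_singleton.2 ⟨_, (sub_eq_zero.1 e).symm⟩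
  push Not at hwide
  obtain ⟨v, hv⟩ := hwide
  have hav : polar Q a v = 0 := by
    obtain ⟨α, β, e⟩ := Submodule.mem_span_pair.1 (hv y hy)
    have h := subB_perp hS (pair_sing hp) hy
    rw [← e, polar_add_right, polar_smul_right, polar_smul_right, polar_self_zero hp.1, smul_zero, zero_add,
      smul_eq_mul] at h
    refine (mul_eq_zero.1 h).resolve_left fun hb => hya ?_
    rw [← e, hb, zero_smul, add_zero]
    exact Submodule.smul_mem _ _ (Submodule.mem_span_singleton_self a)
  exact ⟨v, hyp_of_le hS (pair_sing hp) hav hv⟩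

end Frame

end Cfsg.Agent.Small.OMinIndex
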