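import Cfsg.Agent.Lib.Small.OMinIndex.Singular
import Cfsg.Agent.Lib.Small.OMinIndex.Glue

/-!
# The exceptional case does not occur
-/

set_option autoImplicit false
set_option linter.unusedSectionVars false

namespace Cfsg.Agent.Small.OMinIndex

open Module QuadraticMap Cfsg.Agent.Classical Cfsg.Agent.Classical.OCount

variable {F : Type*} [Field F] [Finite F] {V : Type*} [AddCommGroup V] [Module F V] [FiniteDimensional F V]
  {Q : QuadraticForm F V} {X : Type*} [MulAction (Om Q) X]

variable (hS : Space Q)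
include hS

theorem exists_scalar_sq_ne (h4 : 4 ≤ Nat.card F) : ∃ k : F, k ≠ 0 ∧ k ^ 2 ≠ 1 := by
  classical
  haveI := Fintype.ofFinite F
  rw [Nat.card_eq_fintype_card] at h4
  by_contra! hc
  have hle : (Finset.univ : Finset F) ⊆ {0, 1, -1} := fun t _ => by
    rcases eq_or_ne t 0 with rfl | ht
    · simp
    · rcases sq_eq_one_iff.1 (hc t ht) with rfl | rfl <;> simp
  have h3 := (Finset.card_le_card hle).trans Finset.card_le_three
  rw [Finset.card_univ] at h3
  omega

/-- A singular vector is moved to any other. -/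
theorem exists_move_vector {a a' : V} (ha : Q a = 0) (ha0 : a ≠ 0) (ha' : Q a' = 0) (ha'0 : a' ≠ 0) :
    ∃ g : Om Q, g • a = a' := by
  obtain ⟨g, t, ht, hg, -⟩ := exists_move_point hS (nonDeg_top hS.pnd) (by rw [finrank_top]; have := hS.seven; omega)
    Submodule.mem_top Submodule.mem_top ha0 ha'0 ha ha'
  obtain ⟨f, hp⟩ := OOmega.exists_pair hS.pnd ha'0 ha'
  obtain ⟨r, hr, hr1, hr2⟩ := exists_singular_pair_in hS hp (nonDeg_comp_top hS hp)
    (le_trans (by norm_num) (finrank_comp_ge hS hp))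
  obtain ⟨h, h1, -⟩ := exists_torus_two hS hp hr hr1 hr2 (inv_ne_zero ht)
  exact ⟨h * g, by rw [mul_smul, hg, smul_scalar, h1, smul_smul, mul_inv_cancel₀ ht, one_smul]⟩

theorem E_fix_transport {a w : V} (ha : Q a = 0) (hw : polar Q a w = 0) (g : Om Q) {x : X}
    (h : (E a w : Om Q) • x = x) : (E (g • a) (g • w) : Om Q) • g • x = g • x := by
  rw [← conj_E hS ha hw, mul_smul, mul_smul, inv_smul_smul, h]

theorem mem_subB_transport {a : V} (ha : Q a = 0) (g : Om Q) {x : X} {y : V} :
    g • y ∈ subB hS ((form_smul g a).trans ha) (g • x) ↔ y ∈ subB hS ha x := by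
  refine mem_dual_map g fun w => ?_
  rw [mem_stabA, mem_stabA, polar_smul]
  refine and_congr_right fun hw => ⟨fun h => ?_, E_fix_transport hS ha hw g⟩
  have := E_fix_transport hS ((form_smul g a).trans ha) (by rw [polar_smul, hw]) g⁻¹ h
  rwa [inv_smul_smul, inv_smul_smul, inv_smul_smul] at this

theorem full_move {a : V} (ha : Q a = 0) (g : Om Q) {x : X} (h : Full (Q := Q) a x) :
    Full (Q := Q) (g • a) (g • x) := by
  intro w hw
  obtain ⟨u, rfl⟩ : ∃ u, g • u = w := ⟨g⁻¹ • w, smul_inv_smul g w⟩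
  rw [polar_smul] at hw
  exact E_fix_transport hS ha hw g (h u hw)

theorem full_iff_subB {a : V} (ha : Q a = 0) {x : X} :
    Full (Q := Q) a x ↔ ∀ y ∈ subB hS ha x, y ∈ F ∙ a := by
  constructor
  · intro h y hy
    by_contra hc
    obtain ⟨w, hw, hwy⟩ := ORefl.exists_polar_sep hS.pnd hc 1
    have hwa : polar Q a w = 0 := by rw [polar_comm]; exact hw a (Submodule.mem_span_singleton_self a)
    have h0 := perp_subB_of_stabA hS ha (x := x) (w := w) (fun t =>
      ⟨by rw [polar_smul_right, hwa, smul_zero], h _ (by rw [polar_smul_right, hwa, smul_zero])⟩) hy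
    rw [polar_comm, hwy] at h0
    exact one_ne_zero h0
  · intro h w hw
    refine (stabA_of_perp hS ha fun y hy => ?_).2
    obtain ⟨t, rfl⟩ := Submodule.mem_span_singleton.1 (h y hy)
    rw [polar_smul_left, hw, smul_zero]

/-- An element of the torus of a frame. -/
theorem exists_torus_frame {r : ℕ} {U : Submodule F V} {t g : Fin r → V} (hF : QuadBasis.Frame Q U r t g)
    {k : Fin r → F} (hk : ∀ i, k i ≠ 0) :
    ∃ l : Om Q, (∀ i, l • t i = k i ^ 2 • t i) ∧ (∀ i, l • g i = (k i ^ 2)⁻¹ • g i) ∧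
      ∀ x, (∀ i, polar Q (t i) x = 0 ∧ polar Q (g i) x = 0) → l • x = x := by
  induction r with
  | zero => exact ⟨1, fun i => i.elim0, fun i => i.elim0, fun x _ => one_smul _ x⟩
  | succ r ih =>
    have hF' : QuadBasis.Frame Q U r (t ∘ Fin.succ) (g ∘ Fin.succ) :=
      ⟨fun i => hF.he _, fun i => hF.hf _, fun i => hF.qe _, fun i => hF.qf _,
        fun i j => by
          rw [Function.comp_apply, Function.comp_apply, hF.ef]
          exact if_congr Fin.succ_inj rfl rfl,
        fun i j => hF.ee _ _, fun i j => hF.ff _ _⟩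
    obtain ⟨l, l1, l2, l3⟩ := ih hF' (k := k ∘ Fin.succ) fun i => hk _
    have hp : IsHPair Q (t 0, g 0) := ⟨hF.qe 0, hF.qf 0, by simpa using hF.ef 0 0⟩
    obtain ⟨h, h1, h2, h3⟩ := exists_torus_sq hS hp (hk 0)
    have e0 : ∀ i : Fin r, polar Q (t i.succ) (t 0) = 0 ∧ polar Q (g i.succ) (t 0) = 0 ∧
        polar Q (t i.succ) (g 0) = 0 ∧ polar Q (g i.succ) (g 0) = 0 := fun i =>
      ⟨hF.ee _ _, by rw [polar_comm, hF.ef, if_neg (Fin.succ_ne_zero i).symm],
        by rw [hF.ef, if_neg (Fin.succ_ne_zero i)], hF.ff _ _⟩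
    refine ⟨h * l, fun i => ?_, fun i => ?_, fun x hx => ?_⟩
    · cases i using Fin.cases with
      | zero => rw [mul_smul, l3 (t 0) fun i => ⟨(e0 i).1, (e0 i).2.1⟩]; exact h1
      | succ i =>
        rw [mul_smul, show l • t i.succ = k i.succ ^ 2 • t i.succ from l1 i, smul_scalar,
          h3 _ (by rw [polar_comm]; exact (e0 i).1) (by rw [polar_comm]; exact (e0 i).2.2.1)]
    · cases i using Fin.cases with
      | zero => rw [mul_smul, l3 (g 0) fun i => ⟨(e0 i).2.2.1, (e0 i).2.2.2⟩]; exact h2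
      | succ i =>
        rw [mul_smul, show l • g i.succ = (k i.succ ^ 2)⁻¹ • g i.succ from l2 i, smul_scalar,
          h3 _ (by rw [polar_comm]; exact (e0 i).2.1) (by rw [polar_comm]; exact (e0 i).2.2.2)]
    · rw [mul_smul, l3 x fun i => hx _, h3 x (hx 0).1 (hx 0).2]

/-- A frame whose first half lies in a given totally singular subspace. -/
theorem exists_ts_frame : ∀ (r : ℕ) {U T : Submodule F V}, NonDeg Q U → T ≤ U → (∀ z ∈ T, Q z = 0) →
    r ≤ finrank F T → ∃ t g : Fin r → V, QuadBasis.Frame Q U r t g ∧ ∀ i, t i ∈ T := by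
  intro r
  induction r with
  | zero =>
    intro U T _ _ _ _
    exact ⟨Fin.elim0, Fin.elim0, ⟨fun i => i.elim0, fun i => i.elim0, fun i => i.elim0, fun i => i.elim0,
      fun i => i.elim0, fun i => i.elim0, fun i => i.elim0⟩, fun i => i.elim0⟩
  | succ r ih =>
    intro U T hU hTU hT hr
    obtain ⟨t₀, ht₀, ht₀0⟩ := Submodule.exists_mem_ne_zero_of_ne_bot (p := T) fun e => by
      rw [e, finrank_bot] at hr; omega
    obtain ⟨g₀, hg₀, hp⟩ := exists_partner_in (hTU ht₀) (hT t₀ ht₀) (by
      by_contra! hc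
      exact ht₀0 (hU t₀ (hTU ht₀) hc))
    have hle : perpIn Q T g₀ ≤ compIn Q U t₀ g₀ := fun z hz => by
      obtain ⟨hzT, hgz⟩ := mem_perpIn.1 hz
      refine mem_compIn.2 ⟨hTU hzT, ?_, hgz⟩
      rw [polar, hT _ (T.add_mem ht₀ hzT), hT t₀ ht₀, hT z hzT, sub_zero, sub_zero]
    have hd := finrank_perpIn (Q := Q) T g₀
    obtain ⟨t, g, hF, hmem⟩ := ih (nonDeg_comp hU (hTU ht₀) hg₀ hp) hle (fun z hz => hT z (mem_perpIn.1 hz).1)
      (by omega)
    have hF' : QuadBasis.Frame Q U r t g :=
      ⟨fun i => (mem_compIn.1 (hF.he i)).1, fun i => (mem_compIn.1 (hF.hf i)).1, hF.qe, hF.qf, hF.ef, hF.ee, hF.ff⟩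
    refine ⟨Fin.cons t₀ t, Fin.cons g₀ g, QuadBasis.frame_cons Q hF' (hTU ht₀) hg₀ hp.1 hp.2.1 hp.2.2 fun i => ?_,
      fun i => ?_⟩
    · obtain ⟨-, a1, a2⟩ := mem_compIn.1 (hF.he i)
      obtain ⟨-, b1, b2⟩ := mem_compIn.1 (hF.hf i)
      rw [polar_comm] at a1 a2 b1 b2
      exact ⟨a1, b1, a2, b2⟩
    · cases i using Fin.cases with
      | zero => simpa using ht₀
      | succ i => simpa using (mem_perpIn.1 (hmem i)).1

/-- Orbits through a common singular vector with the same span coincide. -/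
theorem mem_of_ts_max {m : ℕ} (hts : ∀ U : Submodule F V, (∀ u ∈ U, Q u = 0) → finrank F U ≤ m) {T : Submodule F V}
    (hT : ∀ z ∈ T, Q z = 0) (hd : m ≤ finrank F T) {z : V} (hQz : Q z = 0) (hp : ∀ w ∈ T, polar Q z w = 0) :
    z ∈ T := by
  by_contra hz
  have h1 : ∀ y ∈ T ⊔ F ∙ z, Q y = 0 := fun y hy => by
    obtain ⟨w, hw, s, hs, rfl⟩ := Submodule.mem_sup.1 hy
    obtain ⟨c, rfl⟩ := Submodule.mem_span_singleton.1 hs
    rw [map_two, hT w hw, QuadraticMap.map_smul, hQz, polar_smul_right, polar_comm, hp w hw]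
    simp
  have h2 : T < T ⊔ F ∙ z := lt_of_le_not_ge le_sup_left fun h =>
    hz (h (Submodule.mem_sup_right (Submodule.mem_span_singleton_self z)))
  have := Submodule.finrank_lt_finrank_of_lt h2
  have := hts _ h1
  omega

theorem no_exceptional [Finite X] {m : ℕ} (hd : AnisoBound Q (Nat.card X)) (hsb : SingBound Q (Nat.card X) m)
    (hE : Exceptional Q (Nat.card X) m) (htrans : ∀ x y : X, ∃ g : Om Q, g • x = y)
    (hmove : ∀ x : X, ∃ g : Om Q, g • x ≠ x) {a₁ : V} (ha₁ : Q a₁ = 0) (ha₁0 : a₁ ≠ 0) {x₁ : X}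
    (hw₁ : Wide hS ha₁ x₁) : False := by
  classical
  haveI : Finite V := Module.finite_of_finite F
  haveI := Fintype.ofFinite V
  obtain ⟨hq4, hm3, K, hK0, hKf, hKn⟩ := hE
  have hts := hsb.ts
  -- every singular vector of every complement lies in a wide annihilator
  have hwit : ∀ {a f : V} (hp : IsHPair Q (a, f)), ∀ u ∈ comp Q (a, f), u ≠ 0 → Q u = 0 →
      ∃ x : X, u ∈ subB hS (pair_sing hp) x ∧ Wide hS (pair_sing hp) x := by
    intro a f hp u hu hu0 hQu
    have ha0 : a ≠ 0 := fun e => one_ne_zero (α := F) (by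
      rw [← show polar Q a f = 1 from hp.2.2, e, polar_zero_left])
    obtain ⟨g, hg⟩ := exists_move_vector hS ha₁ ha₁0 (pair_sing hp) ha0
    subst hg
    have hmem : ∀ {y}, g • y ∈ subB hS (pair_sing hp) (g • x₁) ↔ y ∈ subB hS ha₁ x₁ := mem_subB_transport hS ha₁ g
    have hw : Wide hS (pair_sing hp) (g • x₁) := by
      refine ⟨fun y hy => ?_, fun v => ?_⟩
      · rw [← smul_inv_smul g y] at hy ⊢
        rw [form_smul]
        exact hw₁.1 _ (hmem.1 hy)
      · obtain ⟨y, hy, hyv⟩ := hw₁.2 (g⁻¹ • v)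
        refine ⟨g • y, hmem.2 hy, fun hm => hyv ?_⟩
        obtain ⟨α, β, e⟩ := Submodule.mem_span_pair.1 hm
        have e' := congrArg (g⁻¹ • ·) e
        simp only [smul_add, smul_scalar, inv_smul_smul] at e'
        exact Submodule.mem_span_pair.2 ⟨α, β, e'⟩
    obtain ⟨y, hy, hyv⟩ := hw.2 0
    have hy' := proj_mem hp (subB_perp hS (pair_sing hp) hy)
    have hy0 : y - polar Q f y • (g • a₁) ≠ 0 := fun e => hyv (Submodule.mem_span_pair.2
      ⟨polar Q f y, 0, by rw [smul_zero, add_zero, eq_comm, ← sub_eq_zero]; exact e⟩)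
    have hyB := proj_mem_subB hS hp hy
    obtain ⟨h, s, hs, hha, hhu⟩ := exists_move_singular hS hp hy' hu hy0 hu0 (hw.1 _ hyB) hQu
    refine ⟨h • g • x₁, ?_, wide_move hS hp hw hs hha⟩
    have := (mem_subB_move hS (pair_sing hp) h hs hha (g • x₁)).2 hyB
    rwa [show h • (y - polar Q f y • (g • a₁)) = s • u from hhu, smul_smul s⁻¹ s u, inv_mul_cancel₀ hs, one_smul] at this
  have hcov : ∀ {a f : V} (hp : IsHPair Q (a, f)), ∀ u ∈ comp Q (a, f), u ≠ 0 → Q u = 0 →
      cc hS (pair_sing hp) X u = Nat.card F + 1 ∧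
      ∀ o o' : Orb hS (pair_sing hp) X, u ∈ orbB hS (pair_sing hp) o → u ∈ orbB hS (pair_sing hp) o' →
        NsFree Q (orbB hS (pair_sing hp) o) ∧
        m ≤ finrank F (Submodule.span F (orbB hS (pair_sing hp) o : Set V)) ∧
        (Submodule.span F (orbB hS (pair_sing hp) o : Set V) = Submodule.span F (orbB hS (pair_sing hp) o' : Set V) →
          o = o') := by
    intro a f hp u hu hu0 hQu
    obtain ⟨x, hx, hw⟩ := hwit hp u hu hu0 hQu
    exact (cover hS hp hd hsb hu hu0 hx hw).2
  -- the split of the degree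
  have hsplit : ∀ {a f : V} (hp : IsHPair Q (a, f)),
      (∀ v, polar Q a v = 0 → Q v ≠ 0 → cc hS (pair_sing hp) X v = 0) ∧
      Nat.card X = Nat.card (Orb hS (pair_sing hp) X) +
        (Nat.card F + 1) * compCount Q (a, f) (fun x => x = 0) := by
    intro a f hp
    have ha0 : a ≠ 0 := fun e => one_ne_zero (α := F) (by
      rw [← show polar Q a f = 1 from hp.2.2, e, polar_zero_left])
    have hsum := sum_cc hS (pair_sing hp) (X := X) ha0
    obtain ⟨L, hL⟩ : ∃ L, L = Finset.univ.filter (fun v : V => v ∈ F ∙ a) := ⟨_, rfl⟩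
    obtain ⟨S₀, hS₀⟩ : ∃ S₀, S₀ = Finset.univ.filter (fun v : V => v ∈ perpSet Q a (fun x => x = 0)) := ⟨_, rfl⟩
    have hLc : L.card = Nat.card F := by
      rw [Nat.card_congr (LinearEquiv.toSpanNonzeroSingleton F V a ha0).toEquiv, Nat.card_eq_fintype_card,
        Fintype.card_subtype, hL]
    have hLv : ∀ v ∈ L, cc hS (pair_sing hp) X v = Nat.card (Orb hS (pair_sing hp) X) := fun v hv => by
      rw [hL, Finset.mem_filter] at hv
      obtain ⟨t, rfl⟩ := Submodule.mem_span_singleton.1 hv.2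
      exact cc_line hS (pair_sing hp) t
    have hSv : ∀ v ∈ S₀, cc hS (pair_sing hp) X v = Nat.card F + 1 := fun v hv => by
      rw [hS₀, Finset.mem_filter] at hv
      obtain ⟨h1, h2, h3⟩ := hv.2
      rw [← cc_proj hS hp (y := v)]
      refine (hcov hp _ (proj_mem hp h1) (fun e => h2 (Submodule.mem_span_singleton.2 ⟨_, (sub_eq_zero.1 e).symm⟩))
        ?_).1
      rw [sub_eq_add_neg, ← neg_smul, form_add_line hp h1, h3]
    have hScard : S₀.card = Nat.card F * compCount Q (a, f) (fun x => x = 0) := by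
      rw [← card_perpSet hp, Nat.card_eq_card_toFinset, hS₀]
      congr 1
      ext v
      simp
    have hdisj : Disjoint L S₀ := Finset.disjoint_left.2 fun v hv hv' => by
      rw [hL, Finset.mem_filter] at hv
      rw [hS₀, Finset.mem_filter] at hv'
      exact hv'.2.2.1 hv.2
    have hLS : ∑ v ∈ L ∪ S₀, cc hS (pair_sing hp) X v = Nat.card F * (Nat.card (Orb hS (pair_sing hp) X) +
        (Nat.card F + 1) * compCount Q (a, f) (fun x => x = 0)) := by
      rw [Finset.sum_union hdisj, Finset.sum_congr rfl hLv, Finset.sum_congr rfl hSv, Finset.sum_const,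
        Finset.sum_const, hLc, hScard, smul_eq_mul, smul_eq_mul]
      ring
    have hns : ∀ v, polar Q a v = 0 → Q v ≠ 0 → cc hS (pair_sing hp) X v = 0 := by
      intro v hv hQv
      by_contra hne
      obtain ⟨C₀, hC₀⟩ : ∃ C₀, C₀ = Finset.univ.filter
          (fun w : V => w ∈ perpSet Q a (fun x => ∃ t : F, t ≠ 0 ∧ x = t ^ 2 * Q v)) := ⟨_, rfl⟩
      have hCcard : C₀.card = Nat.card F * compCount Q (a, f) (fun x => ∃ t : F, t ≠ 0 ∧ x = t ^ 2 * Q v) := by
        rw [← card_perpSet hp, Nat.card_eq_card_toFinset, hC₀]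
        congr 1
        ext w
        simp
      have hd2 : Disjoint (L ∪ S₀) C₀ := Finset.disjoint_left.2 fun w hw hw' => by
        rw [hC₀, Finset.mem_filter] at hw'
        obtain ⟨-, h1, h2, t, ht, h3⟩ := hw'
        rcases Finset.mem_union.1 hw with h | h
        · rw [hL, Finset.mem_filter] at h
          exact h2 h.2
        · rw [hS₀, Finset.mem_filter] at h
          rw [h.2.2.2] at h3
          exact mul_ne_zero (pow_ne_zero 2 ht) hQv h3.symm
      have hge : C₀.card ≤ ∑ w ∈ C₀, cc hS (pair_sing hp) X w := by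
        rw [Finset.card_eq_sum_ones]
        refine Finset.sum_le_sum fun w hw => Nat.one_le_iff_ne_zero.2 ?_
        rw [hC₀, Finset.mem_filter] at hw
        obtain ⟨-, h1, h2, t, ht, h3⟩ := hw
        rw [← cc_proj hS hp (y := w), cc_value hS hp (proj_mem hp hv) (proj_mem hp h1)
          (by rw [sub_eq_add_neg, ← neg_smul, form_add_line hp hv]; exact hQv) ht (by
            rw [sub_eq_add_neg, ← neg_smul, form_add_line hp h1, sub_eq_add_neg, ← neg_smul, form_add_line hp hv, h3]),
          cc_proj hS hp (y := v)]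
        exact hne
      have h4 := Finset.sum_le_sum_of_subset (f := fun w => cc hS (pair_sing hp) X w)
        (Finset.subset_univ (L ∪ S₀ ∪ C₀))
      rw [Finset.sum_union hd2, hLS, hsum] at h4
      have h5 := le_trans (Nat.add_le_add_left hge _) h4
      rw [hCcard, ← Nat.left_distrib] at h5
      have h6 := Nat.le_of_mul_le_mul_left h5 Nat.card_pos
      have h7 := (hKf a f hp).2.2 (Q v) hQv
      omega
    refine ⟨hns, Nat.eq_of_mul_eq_mul_left (Nat.card_pos (α := F)) ?_⟩
    rw [← hLS, ← hsum]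
    refine (Finset.sum_subset (Finset.subset_univ _) fun v _ hv => ?_).symm
    rw [Finset.mem_union, not_or, hL, hS₀, Finset.mem_filter, Finset.mem_filter] at hv
    by_cases hav : polar Q a v = 0
    · exact hns v hav fun hQ => hv.2 ⟨Finset.mem_univ _, hav, fun h => hv.1 ⟨Finset.mem_univ _, h⟩, hQ⟩
    · exact cc_eq_zero hS (pair_sing hp) hav
  -- the two types
  have tri : ∀ {a : V} (ha : Q a = 0), a ≠ 0 → ∀ x : X, Full (Q := Q) a x ∨
      (NsFree Q (subB hS ha x) ∧ m ≤ finrank F (Submodule.span F (subB hS ha x : Set V))) := by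
    intro a ha ha0 x
    rcases _root_.Classical.em (Full (Q := Q) a x) with h | h
    · exact Or.inl h
    rw [full_iff_subB hS ha] at h
    push Not at h
    obtain ⟨y, hy, hya⟩ := h
    obtain ⟨f, hp⟩ := OOmega.exists_pair hS.pnd ha0 ha
    have hy' := subB_perp hS ha hy
    have hQy : Q y = 0 := by
      by_contra hQy
      exact (cc_pos hS ha hy).ne' ((hsplit hp).1 y hy' hQy)
    obtain ⟨h1, h2, -⟩ := (hcov hp _ (proj_mem hp hy')
      (fun e => hya (Submodule.mem_span_singleton.2 ⟨_, (sub_eq_zero.1 e).symm⟩))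
      (by rw [sub_eq_add_neg, ← neg_smul, form_add_line hp hy', hQy])).2 (orb hS _ x) (orb hS _ x)
      (proj_mem_subB hS hp hy) (proj_mem_subB hS hp hy)
    exact Or.inr ⟨h1, h2⟩
  have sym : ∀ {a b : V} (ha : Q a = 0) (hb : Q b = 0), b ≠ 0 → ∀ x : X, NsFree Q (subB hS ha x) →
      ¬ Full (Q := Q) b x → b ∈ Submodule.span F (subB hS ha x : Set V) →
      a ∈ Submodule.span F (subB hS hb x : Set V) := by
    intro a b ha hb hb0 x hns hnf hmem
    obtain ⟨hns', hd'⟩ := (tri hb hb0 x).resolve_left hnf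
    have hab : polar Q a b = 0 := by
      have hle : Submodule.span F (subB hS ha x : Set V) ≤ LinearMap.ker (Q.polarBilin a) :=
        Submodule.span_le.2 fun w hw => by simpa using subB_perp hS ha hw
      simpa using hle hmem
    have hbS : ∀ w ∈ subB hS ha x, polar Q w b = 0 := fun w hw => by
      have hle : Submodule.span F (subB hS ha x : Set V) ≤ LinearMap.ker (Q.polarBilin w) :=
        Submodule.span_le.2 fun z hz => by simpa using hns.perp hw hz
      simpa using hle hmem
    have hsa : ∀ s : F, s • a ∈ stabA hS hb x := fun s => by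
      have h1 : Q (s • a) = 0 := by rw [QuadraticMap.map_smul, ha, smul_zero]
      have h2 : polar Q b (s • a) = 0 := by rw [polar_smul_right, polar_comm, hab, smul_zero]
      refine ⟨h2, ?_⟩
      rw [E_swap hS hb h2 h1, E_smul_left hS ha (by rw [polar_neg_right, hab, neg_zero])]
      exact (stabA_of_perp hS ha fun w hw => by rw [polar_smul_right, polar_neg_right, hbS w hw, neg_zero, smul_zero]).2
    refine mem_of_ts_max hS hts hns'.span_singular hd' ha fun w hw => ?_
    have hle : Submodule.span F (subB hS hb x : Set V) ≤ LinearMap.ker (Q.polarBilin a) :=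
      Submodule.span_le.2 fun z hz => by
        have := perp_subB_of_stabA hS hb hsa hz
        simpa using (polar_comm Q a z).trans this
    simpa using hle hw
  -- a bound for the fixed cosets and a linear orbit
  have stats : ∀ {a f : V} (hp : IsHPair Q (a, f)),
      Nat.card {x : X // Full (Q := Q) a x} + K * Nat.card F ^ (m - 1) ≤ Nat.card X ∧
      ∃ x : X, NsFree Q (subB hS (pair_sing hp) x) ∧
        m ≤ finrank F (Submodule.span F (subB hS (pair_sing hp) x : Set V)) ∧
        ∀ z ∈ Submodule.span F (subB hS (pair_sing hp) x : Set V), z ∈ subB hS (pair_sing hp) x := by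
    intro a f hp
    have ha0 : a ≠ 0 := fun e => one_ne_zero (α := F) (by
      rw [← show polar Q a f = 1 from hp.2.2, e, polar_zero_left])
    haveI := Fintype.ofFinite (Orb hS (pair_sing hp) X)
    haveI := Fintype.ofFinite X
    obtain ⟨O₁, hO₁⟩ : ∃ O₁, O₁ = Finset.univ.filter
        (fun o : Orb hS (pair_sing hp) X => ∀ y ∈ orbB hS (pair_sing hp) o, y ∈ F ∙ a) := ⟨_, rfl⟩
    obtain ⟨O₂, hO₂⟩ : ∃ O₂, O₂ = O₁ᶜ := ⟨_, rfl⟩
    have hcard : O₁.card + O₂.card = Nat.card (Orb hS (pair_sing hp) X) := by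
      rw [hO₂, Finset.card_add_card_compl, Nat.card_eq_fintype_card]
    have hN0 : Nat.card {x : X // Full (Q := Q) a x} ≤ O₁.card := by
      rw [← Fintype.card_coe, ← Nat.card_eq_fintype_card]
      refine Nat.card_le_card_of_injective (fun x => ⟨orb hS (pair_sing hp) x.1, ?_⟩) fun x y e => ?_
      · rw [hO₁, Finset.mem_filter]
        exact ⟨Finset.mem_univ _, (full_iff_subB hS (pair_sing hp)).1 x.2⟩
      · obtain ⟨w, hw, h⟩ := (orb_eq_iff hS (pair_sing hp)).1 (congrArg Subtype.val e)
        exact Subtype.ext ((x.2 w hw).symm.trans h)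
    have hB1 : ∀ o ∈ O₁, Nat.card (orbB hS (pair_sing hp) o) ≤ Nat.card F := fun o ho => by
      rw [hO₁, Finset.mem_filter] at ho
      calc Nat.card (orbB hS (pair_sing hp) o) ≤ Nat.card ↥(F ∙ a) :=
            Nat.card_le_card_of_injective (fun y => ⟨y.1, ho.2 y.1 y.2⟩)
              fun y z e => Subtype.ext (congrArg (fun w => w.1) e)
        _ = Nat.card F := (Nat.card_congr (LinearEquiv.toSpanNonzeroSingleton F V a ha0).toEquiv).symm
    have hB2 : ∀ o ∈ O₂, ∃ x, orb hS (pair_sing hp) x = o ∧ NsFree Q (subB hS (pair_sing hp) x) ∧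
        m ≤ finrank F (Submodule.span F (subB hS (pair_sing hp) x : Set V)) := fun o ho => by
      rw [hO₂, Finset.mem_compl, hO₁, Finset.mem_filter] at ho
      obtain ⟨x, rfl⟩ := Quotient.exists_rep o
      refine ⟨x, rfl, (tri (pair_sing hp) ha0 x).resolve_left fun h => ho ⟨Finset.mem_univ _, ?_⟩⟩
      exact (full_iff_subB hS (pair_sing hp)).1 h
    have hB3 : ∀ o ∈ O₂, Nat.card (orbB hS (pair_sing hp) o) ≤ Nat.card F ^ m ∧
        ((∀ z ∈ Submodule.span F (orbB hS (pair_sing hp) o : Set V), z ∈ orbB hS (pair_sing hp) o) ∨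
          2 * Nat.card (orbB hS (pair_sing hp) o) ≤ Nat.card F ^ m) := fun o ho => by
      obtain ⟨x, rfl, hns, -⟩ := hB2 o ho
      obtain ⟨T, hT⟩ : ∃ T, T = (Submodule.span F (subB hS (pair_sing hp) x : Set V)).toAddSubgroup := ⟨_, rfl⟩
      have hTc : Nat.card T ≤ Nat.card F ^ m := by
        rw [hT]
        change Nat.card ↥(Submodule.span F (subB hS (pair_sing hp) x : Set V)) ≤ _
        exact (natCard_eq_pow_finrank (K := F)).trans_le
          (Nat.pow_le_pow_right Nat.card_pos (hts _ hns.span_singular))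
      have hle : subB hS (pair_sing hp) x ≤ T := fun z hz => hT ▸ Submodule.subset_span hz
      have hle' := AddSubgroup.card_le_of_le hle
      refine ⟨le_trans hle' hTc, ?_⟩
      rw [orbB_mk]
      rcases hle.lt_or_eq with hlt | heq
      · refine Or.inr (le_trans ?_ hTc)
        have hdvd := AddSubgroup.card_dvd_of_le hle
        obtain ⟨k, hk⟩ := hdvd
        have hk1 : k ≠ 1 := fun e => hlt.ne (AddSubgroup.eq_of_le_of_card_ge hle (by rw [hk, e, mul_one]))
        have hk0 : k ≠ 0 := fun e => (Nat.card_pos (α := T)).ne' (by rw [hk, e, mul_zero])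
        rw [hk, mul_comm 2]
        exact Nat.mul_le_mul_left _ (by omega)
      · exact Or.inl fun z hz => heq ▸ hT ▸ hz
    have hsum := sum_card_orbB hS (pair_sing hp) (X := X) ha0
    rw [← Finset.sum_add_sum_compl O₁, ← hO₂] at hsum
    have h1 : ∑ o ∈ O₁, Nat.card (orbB hS (pair_sing hp) o) ≤ O₁.card * Nat.card F := by
      rw [← smul_eq_mul, ← Finset.sum_const]
      exact Finset.sum_le_sum hB1
    obtain ⟨-, hX⟩ := hsplit hp
    obtain ⟨hKe, hK2, -⟩ := hKf a f hp
    obtain ⟨r, hr⟩ : ∃ r, r = Nat.card F ^ (m - 1) - 1 := ⟨_, rfl⟩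
    have hqm : Nat.card F ^ m = Nat.card F * (r + 1) := by
      rw [hr, Nat.sub_add_cancel (Nat.one_le_pow _ _ Nat.card_pos), ← pow_succ', Nat.sub_add_cancel (by omega)]
    have hr0 : 0 < r := by
      rw [hr]
      have := Nat.one_lt_pow (n := m - 1) (a := Nat.card F) (by omega) (by omega)
      omega
    rw [← hr] at hKe
    have hstep : ∀ b : ℕ, (∀ o ∈ O₂, b * Nat.card (orbB hS (pair_sing hp) o) ≤ Nat.card F ^ m) →
        b * ((Nat.card F + 1) * compCount Q (a, f) (fun x => x = 0)) + b * O₂.card ≤ O₂.card * (r + 1) := by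
      intro b hb
      have h2 : b * ∑ o ∈ O₂, Nat.card (orbB hS (pair_sing hp) o) ≤ O₂.card * Nat.card F ^ m := by
        rw [Finset.mul_sum, ← smul_eq_mul (O₂.card), ← Finset.sum_const]
        exact Finset.sum_le_sum hb
      have h3 : Nat.card F * (b * (O₂.card + (Nat.card F + 1) * compCount Q (a, f) (fun x => x = 0))) ≤
          Nat.card F * (O₂.card * (r + 1)) := by
        have h4 : Nat.card F * (O₂.card + (Nat.card F + 1) * compCount Q (a, f) (fun x => x = 0)) ≤
            ∑ o ∈ O₂, Nat.card (orbB hS (pair_sing hp) o) := by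
          rw [hX, ← hcard] at hsum
          have : Nat.card F * (O₁.card + O₂.card + (Nat.card F + 1) * compCount Q (a, f) (fun x => x = 0)) =
              O₁.card * Nat.card F +
                Nat.card F * (O₂.card + (Nat.card F + 1) * compCount Q (a, f) (fun x => x = 0)) := by ring
          omega
        calc _ = b * (Nat.card F * (O₂.card + (Nat.card F + 1) * compCount Q (a, f) (fun x => x = 0))) := by ring
          _ ≤ b * ∑ o ∈ O₂, Nat.card (orbB hS (pair_sing hp) o) := Nat.mul_le_mul_left _ h4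
          _ ≤ O₂.card * Nat.card F ^ m := h2
          _ = _ := by rw [hqm]; ring
      have := Nat.le_of_mul_le_mul_left h3 Nat.card_pos
      rw [Nat.mul_add] at this
      omega
    have hK1 : K ≤ O₂.card := by
      have := hstep 1 fun o ho => by rw [one_mul]; exact (hB3 o ho).1
      rw [one_mul, one_mul, ← hKe, Nat.mul_add, mul_one] at this
      exact Nat.le_of_mul_le_mul_right (Nat.le_of_add_le_add_right this) hr0
    refine ⟨?_, ?_⟩
    · have hrK : K * Nat.card F ^ (m - 1) = K * r + K := by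
        rw [hr, ← Nat.mul_succ, Nat.succ_eq_add_one, Nat.sub_add_cancel (Nat.one_le_pow _ _ Nat.card_pos)]
      omega
    · by_contra hnone
      have h2 := hstep 2 fun o ho => by
        refine (hB3 o ho).2.resolve_left fun hlin => hnone ?_
        obtain ⟨x, rfl, hns, hdim⟩ := hB2 o ho
        exact ⟨x, hns, hdim, hlin⟩
      have h5 : 2 * ((Nat.card F + 1) * compCount Q (a, f) (fun x => x = 0)) + O₂.card ≤ O₂.card * r := by
        rw [Nat.mul_add, mul_one] at h2
        omega
      rw [← hKe] at h5 hX hK2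
      have h6 : 2 * K * r ≤ O₂.card * r := by
        calc 2 * K * r = 2 * (K * r) := by ring
          _ ≤ O₂.card * r := by omega
      have := Nat.le_of_mul_le_mul_right h6 hr0
      omega
  have twofull : ∀ {e e' : V}, Q e = 0 → Q e' = 0 → ∀ x : X, Full (Q := Q) e x → Full (Q := Q) e' x →
      polar Q e e' = 0 := by
    intro e e' he he' x h h'
    by_contra hne
    obtain ⟨g, hg⟩ := hmove x
    refine hg (fixed_of_two_full hS (a := (polar Q e e')⁻¹ • e) (a' := e') ⟨?_, he', ?_⟩
      ((full_smul hS he (inv_ne_zero hne)).2 h) h' g)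
    · change Q ((polar Q e e')⁻¹ • e) = 0
      rw [QuadraticMap.map_smul, he, smul_zero]
    · change polar Q ((polar Q e e')⁻¹ • e) e' = 1
      rw [polar_smul_left, smul_eq_mul, inv_mul_cancel₀ hne]
  -- no full point
  have nofull : ∀ (e : V) (x : X), Q e = 0 → e ≠ 0 → ¬ Full (Q := Q) e x := by
    intro e x he he0 hfull
    have hc' : ∀ c, Q c = 0 → polar Q c e = 1 → ∃ hc : Q c = 0, NsFree Q (subB hS hc x) ∧
        m ≤ finrank F (Submodule.span F (subB hS hc x : Set V)) := fun c hc hce => by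
      refine ⟨hc, (tri hc (fun e0 => one_ne_zero (α := F) (by rw [← hce, e0, polar_zero_left])) x).resolve_left
        fun h => one_ne_zero (α := F) (hce.symm.trans (twofull hc he x h hfull))⟩
    have himg : ∀ c, Q c = 0 → polar Q c e = 1 → ∀ (hc : Q c = 0) (t : V),
        (∀ y ∈ subB hS hc x, polar Q y t = 0) → polar Q t e = 0 → Full (Q := Q) (e + t - Q t • c) x := by
      intro c hc hce _ t ht hte
      have hct : polar Q c t = 0 := ht c (by simpa using line_le_subB hS hc x 1)
      have hE := E_partner hS hc hct hce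
      rw [hte, zero_add] at hE
      have := full_transport hS he ((stabA_of_perp hS hc ht).2) hfull
      rwa [hE] at this
    obtain ⟨f, hpf⟩ := OOmega.exists_pair hS.pnd he0 he
    have hfe : polar Q f e = 1 := by rw [polar_comm]; exact hpf.2.2
    obtain ⟨hf, hns, hdim⟩ := hc' f hpf.2.1 hfe
    obtain ⟨T, hT⟩ : ∃ T, T = Submodule.span F (subB hS hf x : Set V) := ⟨_, rfl⟩
    have hTs : ∀ z ∈ T, Q z = 0 := hT ▸ hns.span_singular
    rw [← hT] at hdim
    have hTm : finrank F T = m := le_antisymm (hts T hTs) hdim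
    have hfT : f ∈ T := hT ▸ Submodule.subset_span (by simpa using line_le_subB hS hf x 1)
    have hn2 : 2 * m ≤ finrank F V := by
      rw [← hTm]; exact Witt.finrank_le_half Q (ORefl.nondeg hS.pnd) hTs
    rcases eq_or_lt_of_le hn2 with hn | hn
    swap
    · -- an anisotropic translation
      obtain ⟨U, hU⟩ : ∃ U, U = LinearMap.BilinForm.orthogonal Q.polarBilin T ⊓ LinearMap.ker (Q.polarBilin e) :=
        ⟨_, rfl⟩
      have hUd : m ≤ finrank F U := by
        have h1 := LinearMap.BilinForm.finrank_orthogonal (ORefl.nondeg hS.pnd) T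
        have h2 := finrank_perpIn (Q := Q) (LinearMap.BilinForm.orthogonal Q.polarBilin T) e
        rw [hU]
        change m ≤ finrank F (perpIn Q (LinearMap.BilinForm.orthogonal Q.polarBilin T) e)
        omega
      have hUm : ∀ {z}, z ∈ U → (∀ y ∈ T, polar Q y z = 0) ∧ polar Q e z = 0 := fun {z} hz => by
        rw [hU, Submodule.mem_inf, LinearMap.mem_ker] at hz
        exact ⟨fun y hy => hz.1 y hy, hz.2⟩
      obtain ⟨t, ht, hQt⟩ : ∃ t ∈ U, Q t ≠ 0 := by
        by_contra! hc
        have h1 : ∀ z ∈ U ⊔ F ∙ f, Q z = 0 := fun z hz => by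
          obtain ⟨w, hw, s, hs, rfl⟩ := Submodule.mem_sup.1 hz
          obtain ⟨c, rfl⟩ := Submodule.mem_span_singleton.1 hs
          rw [map_two, hc w hw, QuadraticMap.map_smul, hf, polar_smul_right, polar_comm, (hUm hw).1 f hfT]
          simp
        have h2 : U < U ⊔ F ∙ f := lt_of_le_not_ge le_sup_left fun h => by
          have := (hUm (h (Submodule.mem_sup_right (Submodule.mem_span_singleton_self f)))).2
          rw [show polar Q e f = 1 from hpf.2.2] at this
          exact one_ne_zero this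
        have := Submodule.finrank_lt_finrank_of_lt h2
        have := hts _ h1
        omega
      obtain ⟨ht1, ht2⟩ := hUm ht
      have h := himg f hf hfe hf t (fun y hy => ht1 y (hT ▸ Submodule.subset_span hy)) (by rw [polar_comm]; exact ht2)
      have hQ' : Q (e + t - Q t • f) = 0 := by
        rw [ORefl.map_sub_two, map_two, he, ht2, QuadraticMap.map_smul, hf, polar_smul_right, polar_add_left,
          show polar Q e f = 1 from hpf.2.2, polar_comm Q t f, ht1 f hfT]
        simp
      have h2 := twofull he hQ' x hfull h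
      rw [polar_sub_right, polar_add_right, polar_self_zero he, ht2, polar_smul_right,
        show polar Q e f = 1 from hpf.2.2] at h2
      simp only [smul_eq_mul, mul_one, zero_add, zero_sub, neg_eq_zero] at h2
      exact hQt h2
    -- hyperbolic: a whole maximal space of full points
    obtain ⟨hN, hlt⟩ := hKn hn.symm
    obtain ⟨M, hM⟩ : ∃ M, M = perpIn Q T e ⊔ F ∙ e := ⟨_, rfl⟩
    have hMs : ∀ z ∈ M, Q z = 0 := fun z hz => by
      rw [hM] at hz
      obtain ⟨w, hw, s, hs, rfl⟩ := Submodule.mem_sup.1 hz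
      obtain ⟨c, rfl⟩ := Submodule.mem_span_singleton.1 hs
      rw [map_two, hTs w (mem_perpIn.1 hw).1, QuadraticMap.map_smul, he, polar_smul_right, polar_comm,
        (mem_perpIn.1 hw).2]
      simp
    have hMd : m ≤ finrank F M := by
      have h1 := finrank_perpIn (Q := Q) T e
      have h2 : perpIn Q T e < M := hM ▸ lt_of_le_not_ge le_sup_left fun h => by
        have h3 := (mem_perpIn.1 (h (Submodule.mem_sup_right (Submodule.mem_span_singleton_self e)))).1
        have h4 : polar Q f e = 0 := by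
          rw [polar, hTs _ (T.add_mem hfT h3), hf, he, sub_zero, sub_zero]
        exact one_ne_zero (hfe.symm.trans h4)
      have := Submodule.finrank_lt_finrank_of_lt h2
      omega
    have htrans' : ∀ c, Q c = 0 → polar Q c e = 1 → ∀ (hc : Q c = 0), NsFree Q (subB hS hc x) →
        ∀ t ∈ Submodule.span F (subB hS hc x : Set V), polar Q t e = 0 →
        Full (Q := Q) (e + t) x ∧ Q (e + t) = 0 := by
      intro c hc hce _ hns t ht hte
      have hQt := hns.span_singular t ht
      have hy : ∀ y ∈ subB hS hc x, polar Q y t = 0 := fun y hy => by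
        have hle : Submodule.span F (subB hS hc x : Set V) ≤ LinearMap.ker (Q.polarBilin y) :=
          Submodule.span_le.2 fun z hz => by simpa using hns.perp hy hz
        simpa using hle ht
      have := himg c hc hce hc t hy hte
      rw [hQt, zero_smul, sub_zero] at this
      exact ⟨this, by rw [map_two, he, hQt, polar_comm, hte, add_zero, add_zero]⟩
    have hmemM : ∀ c, Q c = 0 → polar Q c e = 1 → ∀ (hc : Q c = 0), NsFree Q (subB hS hc x) →
        ∀ t ∈ Submodule.span F (subB hS hc x : Set V), polar Q t e = 0 → t ∈ M := by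
      intro c hc hce _ hns' t ht hte
      refine mem_of_ts_max hS hts hMs hMd (hns'.span_singular t ht) fun w hw => ?_
      rw [hM] at hw
      obtain ⟨u, hu, s, hs, rfl⟩ := Submodule.mem_sup.1 hw
      obtain ⟨k, rfl⟩ := Submodule.mem_span_singleton.1 hs
      obtain ⟨huT, hue⟩ := mem_perpIn.1 hu
      obtain ⟨f1, q1⟩ := htrans' c hc hce hc hns' t ht hte
      obtain ⟨f2, q2⟩ := htrans' f hf hfe hf hns u (hT ▸ huT) (by rw [polar_comm]; exact hue)
      have h := twofull q1 q2 x f1 f2
      rw [polar_add_left, polar_add_right, polar_add_right, polar_self_zero he, hue, hte] at h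
      rw [polar_add_right, polar_smul_right, hte, smul_zero, add_zero]
      simpa using h
    have hall : ∀ y ∈ M, y ≠ 0 → Full (Q := Q) y x := by
      intro y hy hy0
      obtain ⟨k, -, hQk, hke, hky⟩ := exists_common (Q := Q) (U := ⊤) (nonDeg_top hS.pnd)
        (by rw [finrank_top]; have := hS.seven; omega) Submodule.mem_top Submodule.mem_top he0 hy0 he (hMs y hy)
      obtain ⟨c, hcdef⟩ : ∃ c, c = (polar Q k e)⁻¹ • k := ⟨_, rfl⟩
      have hce : polar Q c e = 1 := by rw [hcdef, polar_smul_left, smul_eq_mul, inv_mul_cancel₀ hke]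
      have hQc : Q c = 0 := by rw [hcdef, QuadraticMap.map_smul, hQk, smul_zero]
      obtain ⟨hc, hnsc, hdimc⟩ := hc' c hQc hce
      obtain ⟨lam, hlam⟩ : ∃ lam, lam = polar Q c y := ⟨_, rfl⟩
      have hlam0 : lam ≠ 0 := by
        rw [hlam, hcdef, polar_smul_left]; exact mul_ne_zero (inv_ne_zero hke) hky
      obtain ⟨t, htd⟩ : ∃ t, t = lam⁻¹ • y - e := ⟨_, rfl⟩
      have heM : e ∈ M := hM ▸ Submodule.mem_sup_right (Submodule.mem_span_singleton_self e)
      have htM : t ∈ perpIn Q M c := mem_perpIn.2 ⟨htd ▸ M.sub_mem (M.smul_mem _ hy) heM, by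
        rw [htd, polar_sub_right, polar_smul_right, ← hlam, hce, smul_eq_mul, inv_mul_cancel₀ hlam0, sub_self]⟩
      obtain ⟨L, hL⟩ : ∃ L, L = perpIn Q (Submodule.span F (subB hS hc x : Set V)) e := ⟨_, rfl⟩
      have hcT : c ∈ Submodule.span F (subB hS hc x : Set V) :=
        Submodule.subset_span (by simpa using line_le_subB hS hc x 1)
      have hLle : L ≤ perpIn Q M c := fun z hz => by
        rw [hL] at hz
        obtain ⟨h1, h2⟩ := mem_perpIn.1 hz
        refine mem_perpIn.2 ⟨hmemM c hQc hce hc hnsc z h1 (by rw [polar_comm]; exact h2), ?_⟩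
        rw [polar, hnsc.span_singular _ (Submodule.add_mem _ hcT h1), hQc, hnsc.span_singular _ h1, sub_zero, sub_zero]
      have hLd : m ≤ finrank F L + 1 := by
        have := finrank_perpIn (Q := Q) (Submodule.span F (subB hS hc x : Set V)) e
        rw [hL]; omega
      have hMc : finrank F (perpIn Q M c) < m := by
        have h1 : perpIn Q M c < M := lt_of_le_not_ge inf_le_left fun h => one_ne_zero (α := F)
          (hce.symm.trans (mem_perpIn.1 (h heM)).2)
        have := Submodule.finrank_lt_finrank_of_lt h1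
        have := hts M hMs
        omega
      have heq := Submodule.eq_of_le_of_finrank_le hLle (by omega)
      rw [← heq, hL] at htM
      obtain ⟨h1, h2⟩ := mem_perpIn.1 htM
      have hf1 := (htrans' c hQc hce hc hnsc t h1 (by rw [polar_comm]; exact h2)).1
      rw [show e + t = lam⁻¹ • y by rw [htd]; abel] at hf1
      exact (full_smul hS (hMs y hy) (inv_ne_zero hlam0)).1 hf1
    have hcountx : ∀ x' : X,
        Nat.card F ^ m - 1 ≤ Nat.card {v : {v : V // v ≠ 0 ∧ Q v = 0} // Full (Q := Q) v.1 x'} := by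
      intro x'
      obtain ⟨g, hg⟩ := htrans x x'
      calc Nat.card F ^ m - 1 ≤ Nat.card {s : V // s ∈ M ∧ s ≠ 0} := by
            rw [card_ne_zero_submodule hS]
            exact Nat.sub_le_sub_right (Nat.pow_le_pow_right Nat.card_pos hMd) 1
        _ ≤ _ := Nat.card_le_card_of_injective
            (fun s => ⟨⟨g • s.1, fun e0 => s.2.2 (smul_inj g (by rw [e0, smul_zero'])),
              (form_smul g s.1).trans (hMs _ s.2.1)⟩, hg ▸ full_move hS (hMs _ s.2.1) g (hall s.1 s.2.1 s.2.2)⟩)
            fun s s' h => Subtype.ext (smul_inj g (congrArg (fun z => z.1.1) h))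
    have hN0 : ∀ v : {v : V // v ≠ 0 ∧ Q v = 0},
        Nat.card {x' : X // Full (Q := Q) v.1 x'} = Nat.card {x' : X // Full (Q := Q) e x'} := by
      intro v
      obtain ⟨g, hg⟩ := exists_move_vector hS he he0 v.2.2 v.2.1
      refine (Nat.card_congr ((MulAction.toPerm g).subtypeEquiv fun z => ?_)).symm
      rw [MulAction.toPerm_apply, ← hg]
      refine ⟨full_move hS he g, fun h => ?_⟩
      have := full_move hS ((form_smul g e).trans he) g⁻¹ h
      rwa [inv_smul_smul, inv_smul_smul] at this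
    haveI := Fintype.ofFinite X
    haveI := Fintype.ofFinite {v : V // v ≠ 0 ∧ Q v = 0}
    have hdouble : ∑ x' : X, Nat.card {v : {v : V // v ≠ 0 ∧ Q v = 0} // Full (Q := Q) v.1 x'} =
        ∑ v : {v : V // v ≠ 0 ∧ Q v = 0}, Nat.card {x' : X // Full (Q := Q) v.1 x'} := by
      rw [← Nat.card_sigma, ← Nat.card_sigma]
      exact Nat.card_congr
        { toFun := fun p => ⟨p.2.1, p.1, p.2.2⟩
          invFun := fun p => ⟨p.2.1, p.1, p.2.2⟩
          left_inv := fun p => rfl
          right_inv := fun p => rfl }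
    rw [Finset.sum_congr rfl (fun v _ => hN0 v), Finset.sum_const, Finset.card_univ, ← Nat.card_eq_fintype_card,
      smul_eq_mul, hN] at hdouble
    have h1 : Nat.card X * (Nat.card F ^ m - 1) ≤
        (Nat.card F ^ m - 1) * (Nat.card F ^ (m - 1) + 1) * Nat.card {x' : X // Full (Q := Q) e x'} := by
      rw [← hdouble, Nat.card_eq_fintype_card (α := X), ← Finset.card_univ, ← smul_eq_mul, ← Finset.sum_const]
      exact Finset.sum_le_sum fun x' _ => hcountx x'
    have hpos : 0 < Nat.card F ^ m - 1 := by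
      have := Nat.one_lt_pow (n := m) (a := Nat.card F) (by omega) (by omega)
      omega
    rw [mul_comm (Nat.card X), mul_assoc] at h1
    have h2 := Nat.le_of_mul_le_mul_left h1 hpos
    have h3 := (stats hpf).1
    have hp0 : 0 < Nat.card F ^ (m - 1) := pow_pos Nat.card_pos _
    have h4 : (Nat.card F ^ (m - 1) + 1) * Nat.card {x' : X // Full (Q := Q) e x'} +
        (Nat.card F ^ (m - 1) + 1) * (K * Nat.card F ^ (m - 1)) ≤ (Nat.card F ^ (m - 1) + 1) * Nat.card X := by
      rw [← Nat.mul_add]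
      exact Nat.mul_le_mul_left _ h3
    have h5 : (K * (Nat.card F ^ (m - 1) + 1)) * Nat.card F ^ (m - 1) ≤ Nat.card X * Nat.card F ^ (m - 1) := by
      nlinarith [h2, h4]
    exact absurd (Nat.le_of_mul_le_mul_right h5 hp0) (by omega)
  -- a point with a linear orbit
  obtain ⟨f₁, hp₁⟩ := OOmega.exists_pair hS.pnd ha₁0 ha₁
  obtain ⟨-, x₀, hns₀, hdim₀, hlin₀⟩ := stats hp₁
  obtain ⟨a, f, hp⟩ : ∃ a f, a = a₁ ∧ f = f₁ := ⟨a₁, f₁, rfl, rfl⟩
  obtain ⟨rfl, rfl⟩ := hp
  have ha : Q a = 0 := pair_sing hp₁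
  obtain ⟨P, hP⟩ : ∃ P, P = Submodule.span F (subB hS ha x₀ : Set V) := ⟨_, rfl⟩
  rw [← hP] at hdim₀ hlin₀
  have hPs : ∀ z ∈ P, Q z = 0 := hP ▸ hns₀.span_singular
  have hPmem : ∀ z, z ∈ P ↔ z ∈ subB hS ha x₀ := fun z => ⟨hlin₀ z, fun h => hP ▸ Submodule.subset_span h⟩
  have haP : a ∈ P := (hPmem a).2 (by simpa using line_le_subB hS ha x₀ 1)
  obtain ⟨W, hW⟩ : ∃ W, W = P ⊓ comp Q (a, f) := ⟨_, rfl⟩
  have hWd : m - 1 ≤ finrank F W := by
    have hd := finrank_perpIn (Q := Q) P f
    have e : perpIn Q P f ≤ W := fun z hz => by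
      obtain ⟨h1, h2⟩ := mem_perpIn.1 hz
      exact hW ▸ ⟨h1, mem_comp.2 ⟨subB_perp hS ha ((hPmem z).1 h1), h2⟩⟩
    have := Submodule.finrank_mono e
    omega
  obtain ⟨t, g, hF, htW⟩ := exists_ts_frame hS (m - 1) (U := comp Q (a, f)) (T := W) (nonDeg_comp_top hS hp₁)
    (hW ▸ inf_le_right) (fun z hz => hPs z ((hW ▸ hz : z ∈ P ⊓ comp Q (a, f))).1) hWd
  have htP : ∀ i, t i ∈ P := fun i => ((hW ▸ htW i : t i ∈ P ⊓ comp Q (a, f))).1
  have hspan : ∀ z ∈ P, z ∈ Submodule.span F (insert a (Set.range t)) := by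
    have hsub : Submodule.span F (insert a (Set.range t)) ≤ P := Submodule.span_le.2
      (Set.insert_subset_iff.2 ⟨haP, by rintro - ⟨i, rfl⟩; exact htP i⟩)
    have hli : LinearIndependent F (Fin.cons a t : Fin (m - 1 + 1) → V) := by
      refine Fintype.linearIndependent_iff.2 fun c hc => ?_
      have h0 : c 0 = 0 := by
        have := congrArg (polar Q f) hc
        rw [polar_zero_right, ← polarBilin_apply_apply, map_sum, Fin.sum_univ_succ] at this
        simp only [map_smul, polarBilin_apply_apply, Fin.cons_zero, Fin.cons_succ, smul_eq_mul,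
          (show polar Q f a = 1 by rw [polar_comm]; exact hp₁.2.2)] at this
        simpa [fun i => (mem_comp.1 (hF.he i)).2] using this
      intro i
      cases i using Fin.cases with
      | zero => exact h0
      | succ i =>
        have := congrArg (polar Q (g i)) hc
        rw [polar_zero_right, ← polarBilin_apply_apply, map_sum, Fin.sum_univ_succ] at this
        simp only [map_smul, polarBilin_apply_apply, Fin.cons_zero, Fin.cons_succ, smul_eq_mul, h0, zero_mul,
          zero_add] at this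
        simpa [fun j => (polar_comm Q (g i) (t j)).trans (hF.ef j i)] using this
    have hd := finrank_span_eq_card hli
    rw [Fin.range_cons, Fintype.card_fin] at hd
    have := hts P hPs
    exact fun z hz => Submodule.eq_of_le_of_finrank_le hsub (by omega) ▸ hz
  obtain ⟨κ, hκ0, hκ⟩ := exists_scalar_sq_ne hS hq4
  obtain ⟨i₀, hi₀⟩ : ∃ i : Fin (m - 1), (i : ℕ) = 0 := ⟨⟨0, by omega⟩, rfl⟩
  obtain ⟨i₁, hi₁⟩ : ∃ i : Fin (m - 1), (i : ℕ) = 1 := ⟨⟨1, by omega⟩, rfl⟩
  obtain ⟨k, hk⟩ : ∃ k : Fin (m - 1) → F, k = fun i => if i = i₀ then κ else κ⁻¹ := ⟨_, rfl⟩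
  have hk0 : ∀ i, k i ≠ 0 := fun i => by
    rw [hk]; dsimp only
    split_ifs
    · exact hκ0
    · exact inv_ne_zero hκ0
  have hk1 : ∀ i, k i ^ 2 ≠ 1 := fun i => by
    rw [hk]; dsimp only
    split_ifs
    · exact hκ
    · rw [inv_pow]; exact fun e => hκ (inv_eq_one.1 e)
  obtain ⟨l, l1, l2, l3⟩ := exists_torus_frame hS hF hk0
  have hla : l • a = a := l3 a fun i =>
    ⟨by rw [polar_comm]; exact (mem_comp.1 (hF.he i)).1, by rw [polar_comm]; exact (mem_comp.1 (hF.hf i)).1⟩
  have hperpP : ∀ w, polar Q a w = 0 → (∀ i, polar Q (t i) w = 0) → ∀ z ∈ P, polar Q z w = 0 := by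
    intro w h1 h2 z hz
    have hle : Submodule.span F (insert a (Set.range t)) ≤ LinearMap.ker (Q.polarBilin w) := Submodule.span_le.2
      (Set.insert_subset_iff.2 ⟨by simpa using (polar_comm Q w a).trans h1, by
        rintro - ⟨i, rfl⟩; simpa using (polar_comm Q w (t i)).trans (h2 i)⟩)
    rw [polar_comm]
    simpa using hle (hspan z hz)
  have hstab : ∀ w, polar Q a w = 0 → (∀ i, polar Q (t i) w = 0) → (E a w : Om Q) • x₀ = x₀ := fun w h1 h2 =>
    (stabA_of_perp hS ha fun z hz => hperpP w h1 h2 z ((hPmem z).2 hz)).2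
  have hstab' : ∀ {w}, (E a w : Om Q) • x₀ = x₀ → polar Q a w = 0 → ∀ i, polar Q (t i) w = 0 := fun {w} h h1 i => by
    refine eq_zero_of_chi fun s => ?_
    have := mem_dual.1 ((hPmem (s • t i)).1 (P.smul_mem s (htP i))) w ⟨h1, h⟩
    rwa [polar_smul_left, smul_eq_mul] at this
  -- elements fixing `a` and preserving `P` preserve the orbit
  have horb : ∀ h : Om Q, h • a = a → (∀ z ∈ P, h • z ∈ P) → ∃ δ, polar Q a δ = 0 ∧ h • x₀ = (E a δ : Om Q) • x₀ := by
    intro h hha hhP
    have hmv : ∀ w, h • w ∈ subB hS ha (h • x₀) ↔ w ∈ subB hS ha x₀ := fun w => by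
      have := mem_subB_move hS ha h one_ne_zero (by rw [one_smul]; exact hha) x₀ (v := w)
      rwa [inv_one, one_smul] at this
    have hsurj : ∀ z ∈ P, ∃ z' ∈ P, h • z' = z := fun z hz => by
      have hinj : Function.Injective (fun z' : P => (⟨h • z'.1, hhP _ z'.2⟩ : P)) :=
        fun u w e => Subtype.ext (smul_inj h (congrArg Subtype.val e))
      obtain ⟨z', hz'⟩ := Finite.injective_iff_surjective.1 hinj ⟨z, hz⟩
      exact ⟨z'.1, z'.2, congrArg Subtype.val hz'⟩
    have hBeq : ∀ z, z ∈ subB hS ha (h • x₀) ↔ z ∈ P := fun z => by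
      constructor
      · intro hz
        rw [← smul_inv_smul h z] at hz ⊢
        exact hhP _ ((hPmem _).2 ((hmv _).1 hz))
      · intro hz
        obtain ⟨z', hz', rfl⟩ := hsurj z hz
        exact (hmv z').2 ((hPmem z').1 hz')
    have hset : subB hS ha (h • x₀) = subB hS ha x₀ :=
      AddSubgroup.ext fun z => (hBeq z).trans (hPmem z)
    have hu0 : t i₀ ≠ 0 := fun e => one_ne_zero (α := F) (by
      have := hF.ef i₀ i₀; rw [e, polar_zero_left, if_pos rfl] at this; exact this.symm)
    obtain ⟨-, hp3⟩ := hcov hp₁ (t i₀) (hF.he i₀) hu0 (hF.qe i₀)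
    have heq := (hp3 (orb hS _ x₀) (orb hS _ (h • x₀)) ((hPmem _).1 (htP i₀))
      (by rw [orbB_mk]; exact (hBeq _).2 (htP i₀))).2.2 (by rw [orbB_mk, orbB_mk, hset])
    obtain ⟨δ, hδ, hx⟩ := (orb_eq_iff hS _).1 heq
    exact ⟨δ, hδ, hx.symm⟩
  have hlP : ∀ z ∈ P, l • z ∈ P := fun z hz => by
    have h := hspan z hz
    induction h using Submodule.span_induction with
    | mem z hz' =>
      rcases Set.mem_insert_iff.1 hz' with rfl | ⟨i, rfl⟩
      · rwa [hla]
      · rw [l1]; exact P.smul_mem _ (htP i)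
    | zero => rw [smul_zero']; exact P.zero_mem
    | add u w hu hw ihu ihw =>
      rw [smul_add]
      have hmem : ∀ {u}, u ∈ Submodule.span F (insert a (Set.range t)) → u ∈ P := fun hu =>
        (Submodule.span_le.2 (Set.insert_subset_iff.2 ⟨haP, by rintro - ⟨i, rfl⟩; exact htP i⟩)) hu
      exact P.add_mem (ihu (hmem hu)) (ihw (hmem hw))
    | smul c u hu ih =>
      rw [smul_scalar]
      have hmem : u ∈ P := (Submodule.span_le.2
        (Set.insert_subset_iff.2 ⟨haP, by rintro - ⟨i, rfl⟩; exact htP i⟩)) hu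
      exact P.smul_mem _ (ih hmem)
  obtain ⟨δ, hδ, hlx⟩ := horb l hla hlP
  have hlpol : ∀ (w : V) i, polar Q (t i) (l • w) = (k i ^ 2)⁻¹ * polar Q (t i) w := fun w i => by
    have h := polar_smul l (t i) w
    rw [l1, polar_smul_left, smul_eq_mul] at h
    rw [← h, ← mul_assoc, inv_mul_cancel₀ (pow_ne_zero 2 (hk0 i)), one_mul]
  have hconj : ∀ {w}, polar Q a w = 0 → l * E a w = E a (l • w) * l := fun {w} hw => by
    have := conj_E hS ha hw l
    rw [hla] at this
    rw [← this, inv_mul_cancel_right]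
  have hla' : ∀ {w}, polar Q a w = 0 → polar Q a (l • w) = 0 := fun {w} hw => by rw [← hla, polar_smul, hw]
  obtain ⟨ω, hω⟩ : ∃ ω, ω = ∑ i, (polar Q (t i) δ / (1 - (k i ^ 2)⁻¹)) • g i := ⟨_, rfl⟩
  have hωa : polar Q a ω = 0 := by
    rw [hω, ← polarBilin_apply_apply, map_sum]
    refine Finset.sum_eq_zero fun i _ => ?_
    rw [map_smul, polarBilin_apply_apply, show polar Q a (g i) = 0 from (mem_comp.1 (hF.hf i)).1, smul_zero]
  have hωt : ∀ j, polar Q (t j) ω = polar Q (t j) δ / (1 - (k j ^ 2)⁻¹) := fun j => by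
    rw [hω, ← polarBilin_apply_apply, map_sum, Finset.sum_eq_single j (fun i _ hij => by
      rw [map_smul, polarBilin_apply_apply, hF.ef, if_neg (Ne.symm hij), smul_zero]) (fun h => absurd (Finset.mem_univ j) h),
      map_smul, polarBilin_apply_apply, hF.ef, if_pos rfl, smul_eq_mul, mul_one]
  obtain ⟨y, hy⟩ : ∃ y, y = (E a ω : Om Q) • x₀ := ⟨_, rfl⟩
  have h1i : ∀ i, 1 - (k i ^ 2)⁻¹ ≠ 0 := fun i e => hk1 i (inv_eq_one.1 (sub_eq_zero.1 e).symm)
  have hly : l • y = y := by
    have hlω := hla' hωa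
    have hneg : polar Q a (-ω) = 0 := by rw [polar_neg_right, hωa, neg_zero]
    have hsum : polar Q a (l • ω + δ) = 0 := by rw [polar_add_right, hlω, hδ, add_zero]
    have h := hstab (-ω + (l • ω + δ)) (by rw [polar_add_right, hneg, hsum, add_zero]) fun i => by
      rw [polar_add_right, polar_add_right, polar_neg_right, hlpol, hωt]
      have := h1i i
      field_simp at this ⊢
      ring
    have e : l • y = (E a (l • ω + δ) : Om Q) • x₀ := by
      rw [hy, ← mul_smul, hconj hωa, mul_smul, hlx, ← mul_smul, E_mul hS ha hlω hδ]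
    rw [← E_mul hS ha hneg hsum, mul_smul, ← e, ← E_inv hS ha hωa, inv_smul_eq_iff, ← hy] at h
    exact h
  have hysB : subB hS ha y = subB hS ha x₀ := by rw [hy, subB, subB, stabA_E hS ha x₀ hωa]
  -- the root elements commuting with the torus fix `y`
  have hz : ∀ i, i ≠ i₀ → ∀ s : F, (E (t i₀) (s • t i) : Om Q) • y = y := by
    intro i hi s
    have hw : polar Q (t i₀) (s • t i) = 0 := by rw [polar_smul_right, hF.ee, smul_zero]
    have ha1 : ∀ j, polar Q (t j) a = 0 := fun j => by rw [polar_comm]; exact (mem_comp.1 (hF.he j)).1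
    have za : (E (t i₀) (s • t i) : Om Q) • a = a :=
      E_fix hS (hF.qe i₀) hw (ha1 i₀) (by rw [polar_smul_left, ha1, smul_zero])
    have zP : ∀ z ∈ P, (E (t i₀) (s • t i) : Om Q) • z = z := fun z hz => by
      have hpp : ∀ j, polar Q (t j) z = 0 := fun j => by
        rw [polar, hPs _ (P.add_mem (htP j) hz), hPs _ (htP j), hPs z hz, sub_zero, sub_zero]
      exact E_fix hS (hF.qe i₀) hw (hpp i₀) (by rw [polar_smul_left, hpp, smul_zero])
    obtain ⟨δ', hδ', hzx⟩ := horb _ za fun z hz => by rw [zP z hz]; exact hz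
    have hzω : polar Q a ((E (t i₀) (s • t i) : Om Q) • ω) = 0 := by rw [← za, polar_smul, hωa]
    have hzc : (E (t i₀) (s • t i) : Om Q) * E a ω =
        E a ((E (t i₀) (s • t i) : Om Q) • ω) * E (t i₀) (s • t i) := by
      have := conj_E hS ha hωa (E (t i₀) (s • t i))
      rw [za] at this
      rw [← this, inv_mul_cancel_right]
    obtain ⟨w, hwdef⟩ : ∃ w, w = (E (t i₀) (s • t i) : Om Q) • ω + δ' + -ω := ⟨_, rfl⟩
    have hw0 : polar Q a w = 0 := by
      rw [hwdef, polar_add_right, polar_add_right, polar_neg_right, hzω, hδ', hωa]; simp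
    have hzy : (E (t i₀) (s • t i) : Om Q) • y = (E a w : Om Q) • y := by
      rw [hy, ← mul_smul, hzc, mul_smul, hzx, ← mul_smul, E_mul hS ha hzω hδ', ← mul_smul, E_mul hS ha hw0 hωa,
        hwdef, neg_add_cancel_right]
    have hcomm : l * E (t i₀) (s • t i) = E (t i₀) (s • t i) * l := by
      have := conj_E hS (hF.qe i₀) hw l
      rw [l1, smul_scalar, l1, E_smul_left hS (hF.qe i₀) (by simp [polar_smul_right, hF.ee]), smul_comm (k i₀ ^ 2),
        smul_smul (k i₀ ^ 2), show k i₀ ^ 2 * k i ^ 2 = 1 by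
          rw [hk]; dsimp only
          rw [if_pos rfl, if_neg hi, inv_pow, mul_inv_cancel₀ (pow_ne_zero 2 hκ0)], one_smul] at this
      exact mul_inv_eq_iff_eq_mul.1 this
    have hfixed : l • (E a w : Om Q) • y = (E a w : Om Q) • y := by
      rw [← hzy, ← mul_smul, hcomm, mul_smul, hly]
    rw [← mul_smul, hconj hw0, mul_smul, hly] at hfixed
    have hneg : polar Q a (-w) = 0 := by rw [polar_neg_right, hw0, neg_zero]
    have hlw := hla' hw0
    have hyst : (E a (-w + l • w) : Om Q) • y = y := by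
      rw [← E_mul hS ha hneg hlw, mul_smul, hfixed, ← E_inv hS ha hw0, inv_smul_smul]
    have hyst' : (E a (-w + l • w) : Om Q) • x₀ = x₀ := by
      have h2 : polar Q a (-w + l • w) = 0 := by rw [polar_add_right, hneg, hlw, add_zero]
      rw [hy, ← mul_smul, E_mul hS ha h2 hωa, add_comm, ← E_mul hS ha hωa h2, mul_smul, smul_left_cancel_iff] at hyst
      exact hyst
    have hwt : ∀ j, polar Q (t j) w = 0 := fun j => by
      have h := hstab' hyst' (by rw [polar_add_right, hneg, hlw, add_zero]) j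
      rw [polar_add_right, polar_neg_right, hlpol] at h
      have h' : (1 - (k j ^ 2)⁻¹) * polar Q (t j) w = 0 := by linear_combination -h
      exact (mul_eq_zero.1 h').resolve_left (h1i j)
    rw [hzy, hy, ← mul_smul, E_mul hS ha hw0 hωa, add_comm, ← E_mul hS ha hωa hw0, mul_smul, hstab w hw0 hwt]
  have hay : ∀ w ∈ P, (E a w : Om Q) • y = y := fun w hw => (stabA_of_perp hS ha fun z hz => by
    rw [hysB, ← hPmem] at hz
    rw [polar, hPs _ (P.add_mem hz hw), hPs z hz, hPs w hw, sub_zero, sub_zero]).2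
  have htfix : ∀ w ∈ P, (E (t i₀) w : Om Q) • y = y := by
    intro w hw
    have hmem : ∀ {u}, u ∈ Submodule.span F (insert a (Set.range t)) → u ∈ P := fun hu =>
      (Submodule.span_le.2 (Set.insert_subset_iff.2 ⟨haP, by rintro - ⟨i, rfl⟩; exact htP i⟩)) hu
    have hpp : ∀ u ∈ P, polar Q (t i₀) u = 0 := fun u hu => by
      rw [polar, hPs _ (P.add_mem (htP i₀) hu), hPs _ (htP i₀), hPs u hu, sub_zero, sub_zero]
    suffices H : ∀ u ∈ Submodule.span F (insert a (Set.range t)), ∀ s : F, (E (t i₀) (s • u) : Om Q) • y = y by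
      simpa using H w (hspan w hw) 1
    intro u hu
    induction hu using Submodule.span_induction with
    | mem u hu =>
      intro s
      rcases Set.mem_insert_iff.1 hu with rfl | ⟨i, rfl⟩
      · have h1 : Q (s • u) = 0 := by rw [QuadraticMap.map_smul, ha, smul_zero]
        have h0 : polar Q u (t i₀) = 0 := by rw [polar_comm]; exact hpp u haP
        rw [E_swap hS (hF.qe i₀) (by rw [polar_smul_right, hpp u haP, smul_zero]) h1,
          E_smul_left hS ha (by rw [polar_neg_right, h0, neg_zero])]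
        exact hay _ (P.smul_mem _ (P.neg_mem (htP i₀)))
      · by_cases hi : i = i₀
        · subst hi
          rw [(E_eq_one_iff hS (hF.qe i) (by simp [polar_smul_right, hF.ee])).2
            (Or.inr (Submodule.smul_mem _ _ (Submodule.mem_span_singleton_self _))), one_smul]
        · exact hz i hi s
    | zero => intro s; rw [smul_zero, E_zero hS (hF.qe i₀), one_smul]
    | add u v hu hv ihu ihv =>
      intro s
      rw [smul_add, ← E_mul hS (hF.qe i₀) (hpp _ (P.smul_mem s (hmem hu))) (hpp _ (P.smul_mem s (hmem hv))),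
        mul_smul, ihv, ihu]
    | smul c u _ ih => intro s; rw [smul_smul]; exact ih _
  have hyP : Submodule.span F (subB hS ha y : Set V) = P := by rw [hysB, hP]
  have hyns : NsFree Q (subB hS ha y) := hysB ▸ hns₀
  -- a singular point off `P` orthogonal to `a` and the first vector
  have hca : polar Q a (g i₁) = 0 := (mem_comp.1 (hF.hf i₁)).1
  have hct : polar Q (t i₁) (g i₁) = 1 := by simpa using hF.ef i₁ i₁
  have hct0 : polar Q (t i₀) (g i₁) = 0 := by
    rw [hF.ef, if_neg]
    intro e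
    have := congrArg Fin.val e
    omega
  obtain ⟨c, hcdef⟩ : ∃ c, c = g i₁ := ⟨_, rfl⟩
  have hQc : Q c = 0 := hcdef ▸ hF.qf i₁
  have hc0 : c ≠ 0 := fun e => one_ne_zero (α := F) (by rw [← hct, ← hcdef, e, polar_zero_right])
  obtain ⟨hnsc, hdimc⟩ := (tri hQc hc0 y).resolve_left (nofull c y hQc hc0)
  obtain ⟨L, hL⟩ : ∃ L, L = perpIn Q (perpIn Q (Submodule.span F (subB hS hQc y : Set V)) a) (t i₁) := ⟨_, rfl⟩
  have hcL : c ∈ Submodule.span F (subB hS hQc y : Set V) :=
    Submodule.subset_span (by simpa using line_le_subB hS hQc y 1)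
  have hti : polar Q a (t i₁) = 0 := (mem_comp.1 (hF.he i₁)).1
  have hLP : L ≤ perpIn Q P c := fun d hdL => by
    rw [hL] at hdL
    obtain ⟨⟨hd1, hda⟩, hdt⟩ := (mem_perpIn.1 hdL).imp_left mem_perpIn.1
    have hQd := hnsc.span_singular d hd1
    refine mem_perpIn.2 ⟨?_, ?_⟩
    swap
    · rw [polar, hnsc.span_singular _ (Submodule.add_mem _ hcL hd1), hQc, hQd, sub_zero, sub_zero]
    rcases eq_or_ne d 0 with rfl | hd0
    · exact P.zero_mem
    have hdnf := nofull d y hQd hd0
    obtain ⟨hnsd, -⟩ := (tri hQd hd0 y).resolve_left hdnf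
    have hcd := sym hQc hQd hd0 y hnsc hdnf hd1
    have hgd : (E a (t i₁) : Om Q) • d = d := E_fix hS ha hti hda hdt
    have hgy := hay (t i₁) (htP i₁)
    have hmv : ∀ z ∈ Submodule.span F (subB hS hQd y : Set V),
        (E a (t i₁) : Om Q) • z ∈ Submodule.span F (subB hS hQd y : Set V) := fun z hz => by
      induction hz using Submodule.span_induction with
      | mem z hz =>
        refine Submodule.subset_span ?_
        have := (mem_subB_move hS hQd (E a (t i₁)) one_ne_zero (by rw [one_smul]; exact hgd) y (v := z)).2 hz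
        rwa [inv_one, one_smul, hgy] at this
      | zero => rw [smul_zero']; exact Submodule.zero_mem _
      | add u v _ _ h1 h2 => rw [smul_add]; exact Submodule.add_mem _ h1 h2
      | smul r u _ h1 => rw [smul_scalar]; exact Submodule.smul_mem _ _ h1
    have had := Submodule.sub_mem _ hcd (hmv c hcd)
    rw [E_apply_perp hS ha hti (by rw [hcdef]; exact hca), sub_sub_cancel, hcdef, hct, one_smul] at had
    rw [← hyP]
    exact sym hQd ha ha₁0 y hnsd (nofull a y ha ha₁0) had
  have hLd : m ≤ finrank F L + 2 := by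
    have := finrank_comp_in (Q := Q) (U := Submodule.span F (subB hS hQc y : Set V)) a (t i₁)
    rw [hL]
    omega
  obtain ⟨ℓ, hℓ⟩ : ∃ ℓ, ℓ = Submodule.span F ({a, t i₀} : Set V) := ⟨_, rfl⟩
  have hℓd : finrank F ℓ = 2 := by
    have h : LinearIndependent F ![a, t i₀] := LinearIndependent.pair_iff.2 fun u v e => by
      have h1 := congrArg (polar Q f) e
      rw [polar_add_right, polar_smul_right, polar_smul_right, show polar Q f a = 1 by rw [polar_comm]; exact hp₁.2.2,
        show polar Q f (t i₀) = 0 from (mem_comp.1 (hF.he i₀)).2, polar_zero_right] at h1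
      simp only [smul_eq_mul, mul_one, mul_zero, add_zero] at h1
      rw [h1, zero_smul, zero_add] at e
      refine ⟨h1, (smul_eq_zero.1 e).resolve_right fun e0 => ?_⟩
      have := hF.ef i₀ i₀
      rw [e0, polar_zero_left, if_pos rfl] at this
      exact zero_ne_one this
    have := finrank_span_eq_card h
    rwa [Matrix.range_cons_cons_empty, Fintype.card_fin, ← hℓ] at this
  have hℓP : ℓ ≤ perpIn Q P c := hℓ ▸ Submodule.span_le.2 (by
    rintro z (rfl | rfl)
    · exact mem_perpIn.2 ⟨haP, by rw [hcdef, polar_comm]; exact hca⟩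
    · exact mem_perpIn.2 ⟨htP i₀, by rw [hcdef, polar_comm]; exact hct0⟩)
  have hH : finrank F (perpIn Q P c) < m := by
    have h1 : perpIn Q P c < P := lt_of_le_not_ge inf_le_left fun h => by
      have := (mem_perpIn.1 (h (htP i₁))).2
      rw [hcdef, polar_comm, hct] at this
      exact one_ne_zero this
    have := Submodule.finrank_lt_finrank_of_lt h1
    have := hts P hPs
    omega
  obtain ⟨d, hd, hd0⟩ := Submodule.exists_mem_ne_zero_of_ne_bot (p := L ⊓ ℓ) fun e => by
    have h1 := Submodule.finrank_sup_add_finrank_inf_eq L ℓ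
    have h2 := Submodule.finrank_mono (sup_le hLP hℓP)
    rw [e, finrank_bot, hℓd] at h1
    omega
  obtain ⟨hdL, hdℓ⟩ := hd
  have hdP := (mem_perpIn.1 (hLP hdL)).1
  have hQd := hPs d hdP
  have hdnf := nofull d y hQd hd0
  obtain ⟨hnsd, hdimd⟩ := (tri hQd hd0 y).resolve_left hdnf
  have hPle : P ≤ Submodule.span F (subB hS hQd y : Set V) := fun w hw => by
    refine mem_of_ts_max hS hts hnsd.span_singular hdimd (hPs w hw) fun z hz => ?_
    have hall : ∀ s : F, s • w ∈ stabA hS hQd y := fun s => by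
      have hws := P.smul_mem s hw
      refine ⟨by rw [polar, hPs _ (P.add_mem hdP hws), hQd, hPs _ hws, sub_zero, sub_zero], ?_⟩
      obtain ⟨α, β, rfl⟩ := Submodule.mem_span_pair.1 (hℓ ▸ hdℓ : d ∈ Submodule.span F ({a, t i₀} : Set V))
      have hA := P.smul_mem α haP
      have hB := P.smul_mem β (htP i₀)
      have pp : ∀ {u v}, u ∈ P → v ∈ P → polar Q u v = 0 := fun {u v} hu hv => by
        rw [polar, hPs _ (P.add_mem hu hv), hPs u hu, hPs v hv, sub_zero, sub_zero]
      rw [E_add_left hS (hPs _ hA) (hPs _ hB) (pp hA hB) (hPs _ hws) (pp hA hws) (pp hB hws),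
        E_smul_left hS ha (pp haP hws), E_smul_left hS (hF.qe i₀) (pp (htP i₀) hws), mul_smul,
        htfix _ (P.smul_mem _ hws), hay _ (P.smul_mem _ hws)]
    have hle : Submodule.span F (subB hS hQd y : Set V) ≤ LinearMap.ker (Q.polarBilin w) :=
      Submodule.span_le.2 fun u hu => by simpa using (polar_comm Q w u).trans (perp_subB_of_stabA hS hQd hall hu)
    simpa using hle hz
  rw [hL] at hdL
  have hcd := sym hQc hQd hd0 y hnsc hdnf (mem_perpIn.1 (mem_perpIn.1 hdL).1).1
  rw [← Submodule.eq_of_le_of_finrank_le hPle ((hts _ hnsd.span_singular).trans hdim₀)] at hcd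
  have hbad : polar Q (t i₁) c = 0 := by
    rw [polar, hPs _ (P.add_mem (htP i₁) hcd), hPs _ (htP i₁), hQc, sub_zero, sub_zero]
  rw [hcdef, hct] at hbad
  exact one_ne_zero hbad

end Cfsg.Agent.Small.OMinIndex
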