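import Cfsg.Agent.Lib.Small.OMinIndex.Main
import Cfsg.Agent.Lib.Classical.OrthIndex
import Cfsg.Agent.Lib.Classical.OrthCenter

/-!
# From `Ω` to `PΩ`
-/

set_option autoImplicit false
set_option linter.unusedSectionVars false

namespace Cfsg.Agent.Small.OMinIndex

open Module QuadraticMap Cfsg.Agent.Classical Cfsg.Agent.Classical.OCount

section Line

variable {F : Type*} [Field F] [Finite F] {V : Type*} [AddCommGroup V] [Module F V] [FiniteDimensional F V]
  {Q : QuadraticForm F V}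

/-- The stabiliser of the line through `v`. -/
def lineStab (Q : QuadraticForm F V) (v : V) : Subgroup (Om Q) where
  carrier := {g | ∃ t : F, t ≠ 0 ∧ g • v = t • v}
  one_mem' := ⟨1, one_ne_zero, by rw [one_smul, one_smul]⟩
  mul_mem' := fun {g h} ⟨s, hs, e⟩ ⟨t, ht, e'⟩ => ⟨t * s, mul_ne_zero ht hs, by
    rw [mul_smul, e', smul_scalar, e, smul_smul]⟩
  inv_mem' := fun {g} ⟨s, hs, e⟩ => ⟨s⁻¹, inv_ne_zero hs, by
    rw [inv_smul_eq_iff, smul_scalar, e, smul_smul, inv_mul_cancel₀ hs, one_smul]⟩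

theorem mem_lineStab {v : V} {g : Om Q} : g ∈ lineStab Q v ↔ ∃ t : F, t ≠ 0 ∧ g • v = t • v := Iff.rfl

/-- The vectors in the orbit of `v` lie evenly on the lines. -/
theorem index_lineStab_mul (hS : Space Q) {v : V} (hv : v ≠ 0) (W : Set V) (T : Set F) (hW : ∀ w ∈ W, ∃ g : Om Q, g • v = w)
    (hWg : ∀ (g : Om Q), ∀ t ∈ T, t • g • v ∈ W) (hT : ∀ (g : Om Q) (t : F), g • v = t • v → t ∈ T)
    (hT0 : (0 : F) ∉ T) : Nat.card W = (lineStab Q v).index * Nat.card T := by
  haveI : Finite V := Module.finite_of_finite F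
  haveI : Finite (V ≃ₗ[F] V) := Finite.of_injective _ DFunLike.coe_injective
  have hidx : Nat.card (Om Q ⧸ lineStab Q v) = (lineStab Q v).index := rfl
  refine le_antisymm ?_ ?_
  · rw [← hidx]
    refine card_orbit_le hS (x := ((1 : Om Q) : Om Q ⧸ lineStab Q v)) (fun g hg => ?_)
      (fun y => MulAction.exists_smul_eq _ _ y) T hT W hW
    rw [MulAction.Quotient.smul_coe, smul_eq_mul, mul_one, QuotientGroup.eq, mul_one, inv_mem_iff] at hg
    obtain ⟨t, -, e⟩ := hg
    exact Submodule.mem_span_singleton.2 ⟨t, e.symm⟩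
  · rw [← hidx, ← Nat.card_prod]
    refine Nat.card_le_card_of_injective (fun p => ⟨(p.2 : F) • p.1.out • v, hWg p.1.out p.2 p.2.2⟩)
      fun p p' e => ?_
    have e0 : (p.2 : F) • p.1.out • v = (p'.2 : F) • p'.1.out • v := congrArg Subtype.val e
    have hp : (p.2 : F) ≠ 0 := fun h => hT0 (h ▸ p.2.2)
    have hp' : (p'.2 : F) ≠ 0 := fun h => hT0 (h ▸ p'.2.2)
    have e1 : (p.1.out⁻¹ * p'.1.out) • v = ((p'.2 : F)⁻¹ * (p.2 : F)) • v := by
      rw [mul_smul, inv_smul_eq_iff, smul_scalar, ← smul_smul, e0, smul_smul, inv_mul_cancel₀ hp', one_smul]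
    have e2 : p.1 = p'.1 := by
      rw [← QuotientGroup.out_eq' p.1, ← QuotientGroup.out_eq' p'.1, QuotientGroup.eq]
      exact ⟨_, mul_ne_zero (inv_ne_zero hp') hp, e1⟩
    refine Prod.ext e2 (Subtype.ext ?_)
    rw [e2, inv_mul_cancel, one_smul] at e1
    have e3 : (p'.2 : F)⁻¹ * (p.2 : F) = 1 := (smul_left_injective F hv (e1.symm.trans (one_smul F v).symm))
    exact ((inv_mul_eq_one₀ hp').1 e3).symm

end Line

variable {F : Type*} [Field F] [Finite F] {ι : Type} [Fintype ι] [DecidableEq ι] {Q : QuadraticForm F (ι → F)}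

variable (hS : Space Q)
include hS

theorem exists_toP : ∃ φ : Om Q →* Cfsg.POmega F ⇑Q, Function.Surjective φ ∧
    ∀ g, φ g = 1 → ∀ v : ι → F, g • v = v ∨ g • v = -v := by
  have hmap : (OOmega.rootGroup Q).map (ORefl.toMat Q).toMonoidHom = Cfsg.Omega F ⇑Q := by
    rw [OOmega.omega_eq_map, hS.commutator_eq]
  obtain ⟨e, he⟩ : ∃ e : Om Q ≃* ↥(Cfsg.Omega F ⇑Q), e =
      ((OOmega.rootGroup Q).equivMapOfInjective _ (ORefl.toMat Q).injective).trans (MulEquiv.subgroupCongr hmap) :=
    ⟨_, rfl⟩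
  refine ⟨(QuotientGroup.mk' _).comp e.toMonoidHom, (QuotientGroup.mk'_surjective _).comp e.surjective,
    fun g hg v => ?_⟩
  rw [MonoidHom.comp_apply, QuotientGroup.mk'_apply, QuotientGroup.eq_one_iff, Subgroup.mem_center_iff] at hg
  have hc : ∀ h : Om Q, h * g = g * h := fun h => e.injective (by
    rw [map_mul, map_mul]; exact hg (e h))
  obtain ⟨p, hp, ⟨r1, r2⟩, hr⟩ := hS.exists_pair_in
  obtain h | h := OOmega.central_of_commute hS.pnd hp r1.2 r2.2 hr (by have := hS.seven; omega) (g := g.1)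
    fun a w ha hw x => by
      have := congrArg (fun k : Om Q => k • x) (hc (E a w))
      simp only [mul_smul] at this
      rw [E_apply hS ha hw, E_apply hS ha hw, ← ORefl.siegel_apply ha hw, ← ORefl.siegel_apply ha hw] at this
      exact this.symm
  · exact Or.inl (by rw [smul_def, h]; rfl)
  · exact Or.inr (by rw [smul_def, h]; rfl)

/-- The lower bound. -/
theorem le_index_POmega {m P : ℕ} (hb : Bounds Q m P) (H : Subgroup (Cfsg.POmega F ⇑Q)) (hH : H ≠ ⊤) :
    P ≤ H.index := by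
  obtain ⟨φ, hφ, -⟩ := exists_toP hS
  rw [← Subgroup.index_comap_of_surjective (H := H) hφ]
  refine le_index hS hb _ fun e => hH ?_
  rw [← Subgroup.map_comap_eq_self_of_surjective hφ H, e, Subgroup.map_top_of_surjective _ hφ]

/-- The stabiliser of a line gives a subgroup of the same index. -/
theorem exists_index_lineStab (v : ι → F) :
    ∃ H : Subgroup (Cfsg.POmega F ⇑Q), H.index = (lineStab Q v).index := by
  obtain ⟨φ, hφ, hker⟩ := exists_toP hS
  refine ⟨(lineStab Q v).map φ, Subgroup.index_map_eq _ hφ fun g hg => ?_⟩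
  rcases hker g hg v with h | h
  · exact ⟨1, one_ne_zero, by rw [one_smul, h]⟩
  · exact ⟨-1, neg_ne_zero.2 one_ne_zero, by rw [neg_one_smul, h]⟩

/-- Singular points. -/
theorem exists_index_singular :
    ∃ H : Subgroup (Cfsg.POmega F ⇑Q),
      Nat.card {v : ι → F // v ≠ 0 ∧ Q v = 0} = H.index * (Nat.card F - 1) := by
  obtain ⟨⟨v, f⟩, hp, -⟩ := hS.exists_pair_in
  have hQv : Q v = 0 := hp.1
  have hv : v ≠ 0 := fun e => one_ne_zero (α := F) (by
    rw [← show polar Q v f = 1 from hp.2.2, e, polar_zero_left])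
  obtain ⟨H, hH⟩ := exists_index_lineStab hS v
  refine ⟨H, ?_⟩
  have hc : Nat.card {t : F | t ≠ 0} = Nat.card F - 1 := by
    haveI := Fintype.ofFinite F
    classical
    rw [Nat.card_eq_fintype_card, Nat.card_eq_fintype_card, ← Fintype.card_units]
    exact Fintype.card_congr unitsEquivNeZero.symm
  rw [hH, ← hc]
  exact index_lineStab_mul hS hv {w | w ≠ 0 ∧ Q w = 0} _ (fun w hw => exists_move_vector hS hQv hv hw.2 hw.1)
    (fun g t ht => ⟨smul_ne_zero ht fun e => hv (smul_inj g (by rw [e, smul_zero'])),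
      by rw [QuadraticMap.map_smul, form_smul, hQv, smul_zero]⟩)
    (fun g t e ht => hv (smul_inj g (by rw [e, ht, zero_smul, smul_zero']))) fun h => h rfl

/-- Points of one value. -/
theorem exists_index_value {c : F} (hc : c ≠ 0) (hex : ∃ v, Q v = c) :
    ∃ H : Subgroup (Cfsg.POmega F ⇑Q),
      Nat.card {v : ι → F // Q v = c} = H.index * Nat.card {t : F // t * t = 1} := by
  obtain ⟨v, rfl⟩ := hex
  obtain ⟨H, hH⟩ := exists_index_lineStab hS v
  refine ⟨H, ?_⟩
  rw [hH]
  exact index_lineStab_mul hS (fun e => hc (by rw [e, QuadraticMap.map_zero])) {w | Q w = Q v} {t : F | t * t = 1}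
    (fun w hw => exists_move_value hS hc hw)
    (fun g t ht => by
      show Q (t • g • v) = Q v
      rw [QuadraticMap.map_smul, form_smul, show t * t = 1 from ht, one_smul])
    (fun g t e => by
      have h1 := form_smul g v
      rw [e, QuadraticMap.map_smul, smul_eq_mul] at h1
      exact mul_right_cancel₀ hc (h1.trans (one_mul _).symm))
    (fun h => zero_ne_one (α := F) ((zero_mul 0).symm.trans h))

end Cfsg.Agent.Small.OMinIndex
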