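import Cfsg.Agent.Lib.Small.OMinIndex.Numeric
import Cfsg.Agent.Lib.Small.OMinIndex.Transfer
import Cfsg.Agent.Lib.Classical.OrthForms

/-!
# The three standard forms
-/

set_option autoImplicit false
set_option linter.unusedSectionVars false

universe u

namespace Cfsg.Agent.Small.OMinIndex

open Module QuadraticMap Cfsg.Agent.Classical Cfsg.Agent.Classical.OCount

variable {F : Type u} [Field F] [Fintype F]

theorem model_formOf {R : Type} [Fintype R] [DecidableEq R] {ι : Type} [Fintype ι] [DecidableEq ι] {m : ℕ}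
    (e : ι ≃ (Fin m ⊕ Fin m) ⊕ R) (P : QuadraticForm F (R → F)) (hP : PND P) (h0 : ∀ z, P z = 0 → z = 0) :
    Model (OOmega.formOf m e P) m (Fintype.card R) (fun c => Nat.card {z : R → F // P z = c}) := by
  refine ⟨OOmega.formOf_pnd hP, (Elusive.OTs.shape_formOf e P hP h0).dim, fun c => ?_, ?_⟩
  · rw [← card_stdQ m P c]
    exact Nat.card_congr ((LinearEquiv.funCongrLeft F F e.symm).toEquiv.subtypeEquiv fun x => Iff.rfl)
  · rw [Nat.card_eq_one_iff_unique]
    exact ⟨⟨fun a b => Subtype.ext ((h0 _ a.2).trans (h0 _ b.2).symm)⟩, ⟨⟨0, QuadraticMap.map_zero P⟩⟩⟩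

theorem two_eq_zero (h : Fintype.card F = 2) : (2 : F) = 0 := by
  have h0 := FiniteField.cast_card_eq_zero F
  rw [h] at h0
  exact_mod_cast h0

theorem two_ne_zero_of_odd (h : Odd (Fintype.card F)) : (2 : F) ≠ 0 := fun h2 => by
  have h0 := FiniteField.cast_card_eq_zero F
  obtain ⟨k, hk⟩ := h
  rw [hk] at h0
  push_cast at h0
  exact one_ne_zero (α := F) (by linear_combination h0 - (k : F) * h2)

/-- An anisotropic binary form takes every value. -/
theorem plane_value {a b : F} (hab : ∀ z₁ z₂ : F, z₁ ^ 2 + a * z₁ * z₂ + b * z₂ ^ 2 = 0 → z₁ = 0 ∧ z₂ = 0) (c : F) :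
    0 < Nat.card {z : Fin 2 → F // planeForm a b z = c} := by
  obtain ⟨x, y, hxy⟩ := Small.SL2C.Qf_surjective (t := a) (d := b) (by
    by_cases h2 : (2 : F) = 0
    · exact Or.inl h2
    · refine Or.inr fun he => one_ne_zero (hab (-a / 2) 1 ?_).2
      field_simp
      linear_combination -he) c
  haveI : Nonempty {z : Fin 2 → F // planeForm a b z = c} := ⟨⟨![x, y], by
    rw [planeForm_apply, ← hxy, Small.SL2C.Qf]
    simp only [Matrix.cons_val_zero, Matrix.cons_val_one]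
    ring⟩⟩
  exact Nat.card_pos

theorem min_index_odd {q : ℕ} (hF : Fintype.card F = q) (hodd : Odd q) (h5 : 5 ≤ q) (m : ℕ) (hm : 3 ≤ m) :
    (∀ H : Subgroup (Cfsg.POmega F (Cfsg.quadFormOdd m F)), H ≠ ⊤ → (q ^ (2 * m) - 1) / (q - 1) ≤ H.index) ∧
      (∃ H : Subgroup (Cfsg.POmega F (Cfsg.quadFormOdd m F)), H.index = (q ^ (2 * m) - 1) / (q - 1)) := by
  rw [← OOmega.coe_odd]
  have h := model_formOf (Equiv.sumComm Unit (Fin m ⊕ Fin m)) (lineForm F)
    (OOmega.pnd_line (two_ne_zero_of_odd (hF ▸ hodd))) fun z hz => funext fun _ => mul_self_eq_zero.1 hz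
  rw [Fintype.card_unit] at h
  have hS : Space (OOmega.formOf m (Equiv.sumComm Unit (Fin m ⊕ Fin m)) (lineForm F)) := h.space (by omega)
  have hb := bounds_odd h hm hF h5 (Nat.div_mul_le_self (q ^ (2 * m) - 1) (q - 1))
  refine ⟨fun H hH => le_index_POmega hS hb H hH, ?_⟩
  obtain ⟨H, hH⟩ := exists_index_singular hS
  refine ⟨H, ?_⟩
  rw [card_singular h, Nat.card_eq_fintype_card, hF, show m - 1 + 1 = m by omega, mul_comm,
    ← Nat.sq_sub_sq] at hH
  rw [one_pow, ← pow_mul, mul_comm m] at hH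
  rw [hH, Nat.mul_div_cancel _ (by omega)]

theorem min_index_odd_three (hF : Fintype.card F = 3) (m : ℕ) (hm : 3 ≤ m) :
    (∀ H : Subgroup (Cfsg.POmega F (Cfsg.quadFormOdd m F)), H ≠ ⊤ → 3 ^ m * (3 ^ m - 1) / 2 ≤ H.index) ∧
      (∃ H : Subgroup (Cfsg.POmega F (Cfsg.quadFormOdd m F)), H.index = 3 ^ m * (3 ^ m - 1) / 2) := by
  rw [← OOmega.coe_odd]
  have h2 : (2 : F) ≠ 0 := two_ne_zero_of_odd (hF ▸ by decide)
  have h := model_formOf (Equiv.sumComm Unit (Fin m ⊕ Fin m)) (lineForm F)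
    (OOmega.pnd_line h2) fun z hz => funext fun _ => mul_self_eq_zero.1 hz
  rw [Fintype.card_unit] at h
  have hS : Space (OOmega.formOf m (Equiv.sumComm Unit (Fin m ⊕ Fin m)) (lineForm F)) := h.space (by omega)
  have hb := bounds_odd_three h hm hF (Nat.div_mul_le_self (3 ^ m * (3 ^ m - 1)) 2)
  refine ⟨fun H hH => le_index_POmega hS hb H hH, ?_⟩
  have h3 : (3 : F) = 0 := by
    have h0 := FiniteField.cast_card_eq_zero F
    rw [hF] at h0
    exact_mod_cast h0
  have hc0 : (-1 : F) ≠ 0 := neg_ne_zero.2 one_ne_zero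
  have hN : Nat.card {z : Unit → F // lineForm F z = -1} = 0 := by
    refine Nat.card_eq_zero.2 (Or.inl ⟨fun ⟨z, hz⟩ => ?_⟩)
    change z () * z () = -1 at hz
    have hz0 : z () ≠ 0 := fun e => by rw [e, zero_mul] at hz; exact hc0 hz.symm
    have := FiniteField.pow_card_sub_one_eq_one (z ()) hz0
    rw [hF] at this
    exact h2 (by linear_combination hz - this)
  have hcard : Nat.card {v // OOmega.formOf m (Equiv.sumComm Unit (Fin m ⊕ Fin m)) (lineForm F) v = -1} =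
      3 ^ m * (3 ^ m - 1) := by
    rw [h.values, hF, valNum, hN, show m - 1 + 1 = m by omega, mul_zero, add_zero, mul_comm]
  obtain ⟨H, hH⟩ := exists_index_value hS hc0 (by
    by_contra hne
    haveI : IsEmpty {v // OOmega.formOf m (Equiv.sumComm Unit (Fin m ⊕ Fin m)) (lineForm F) v = -1} :=
      ⟨fun v => hne ⟨v.1, v.2⟩⟩
    rw [Nat.card_of_isEmpty] at hcard
    have h9 : 1 < 3 ^ m := Nat.one_lt_pow (by omega) (by norm_num)
    exact absurd hcard (Nat.mul_pos (by omega) (by omega)).ne)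
  refine ⟨H, ?_⟩
  have hT : Nat.card {t : F // t * t = 1} = 2 := by
    classical
    refine le_antisymm roots_le_two ?_
    haveI := Fintype.ofFinite {t : F // t * t = 1}
    rw [Nat.card_eq_fintype_card]
    exact Fintype.one_lt_card_iff.2 ⟨⟨1, mul_one 1⟩, ⟨-1, by ring⟩, fun e => h2 (by
      linear_combination congrArg Subtype.val e)⟩
  rw [hcard, hT] at hH
  rw [hH, Nat.mul_div_cancel _ (by norm_num)]

theorem min_index_plus {q : ℕ} (hF : Fintype.card F = q) (hq : 4 ≤ q) (m : ℕ) (hm : 4 ≤ m) :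
    (∀ H : Subgroup (Cfsg.POmega F (Cfsg.quadFormPlus m F)), H ≠ ⊤ →
        (q ^ m - 1) * (q ^ (m - 1) + 1) / (q - 1) ≤ H.index) ∧
      (∃ H : Subgroup (Cfsg.POmega F (Cfsg.quadFormPlus m F)),
        H.index = (q ^ m - 1) * (q ^ (m - 1) + 1) / (q - 1)) := by
  rw [← OOmega.coe_plus]
  have h := model_formOf (Equiv.sumEmpty (Fin m ⊕ Fin m) Empty).symm (0 : QuadraticForm F (Empty → F))
    OOmega.pnd_empty fun z _ => funext fun r => r.elim
  rw [Fintype.card_empty] at h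
  have hS : Space (OOmega.formOf m (Equiv.sumEmpty (Fin m ⊕ Fin m) Empty).symm (0 : QuadraticForm F (Empty → F))) :=
    h.space (by omega)
  have hb := bounds_plus h hm hF hq (Nat.div_mul_le_self ((q ^ m - 1) * (q ^ (m - 1) + 1)) (q - 1))
  refine ⟨fun H hH => le_index_POmega hS hb H hH, ?_⟩
  obtain ⟨H, hH⟩ := exists_index_singular hS
  refine ⟨H, ?_⟩
  rw [card_singular h, Nat.card_eq_fintype_card, hF, show m - 1 + 0 = m - 1 by omega] at hH
  rw [hH, Nat.mul_div_cancel _ (by omega)]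

theorem min_index_plus_two (hF : Fintype.card F = 2) (m : ℕ) (hm : 4 ≤ m) :
    (∀ H : Subgroup (Cfsg.POmega F (Cfsg.quadFormPlus m F)), H ≠ ⊤ → 2 ^ (m - 1) * (2 ^ m - 1) ≤ H.index) ∧
      (∃ H : Subgroup (Cfsg.POmega F (Cfsg.quadFormPlus m F)), H.index = 2 ^ (m - 1) * (2 ^ m - 1)) := by
  rw [← OOmega.coe_plus]
  have h := model_formOf (Equiv.sumEmpty (Fin m ⊕ Fin m) Empty).symm (0 : QuadraticForm F (Empty → F))
    OOmega.pnd_empty fun z _ => funext fun r => r.elim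
  rw [Fintype.card_empty] at h
  have hS : Space (OOmega.formOf m (Equiv.sumEmpty (Fin m ⊕ Fin m) Empty).symm (0 : QuadraticForm F (Empty → F))) :=
    h.space (by omega)
  have h2 := two_eq_zero hF
  have hb := bounds_plus_two h hm hF h2 (le_refl _)
  refine ⟨fun H hH => le_index_POmega hS hb H hH, ?_⟩
  have hcard : Nat.card {v // OOmega.formOf m (Equiv.sumEmpty (Fin m ⊕ Fin m) Empty).symm
      (0 : QuadraticForm F (Empty → F)) v = 1} = 2 ^ (m - 1) * (2 ^ m - 1) := by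
    rw [h.values, hF, valNum, Nat.add_zero, mul_comm]
    haveI : IsEmpty {z : Empty → F // (0 : QuadraticForm F (Empty → F)) z = 1} := ⟨fun z => zero_ne_one z.2⟩
    rw [Nat.card_of_isEmpty, mul_zero, add_zero]
  obtain ⟨H, hH⟩ := exists_index_value hS (one_ne_zero (α := F)) (by
    by_contra hne
    haveI : IsEmpty {v // OOmega.formOf m (Equiv.sumEmpty (Fin m ⊕ Fin m) Empty).symm
      (0 : QuadraticForm F (Empty → F)) v = 1} := ⟨fun v => hne ⟨v.1, v.2⟩⟩
    rw [Nat.card_of_isEmpty] at hcard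
    have h9 : 1 < 2 ^ m := Nat.one_lt_pow (by omega) (by norm_num)
    exact absurd hcard (Nat.mul_pos (pow_pos (by norm_num) _) (by omega)).ne)
  rw [hcard, roots_two h2, mul_one] at hH
  exact ⟨H, hH.symm⟩

theorem min_index_minus {q : ℕ} (hF : Fintype.card F = q) (m : ℕ) (hm : 4 ≤ m) (a b : F)
    (hab : ∀ z₁ z₂ : F, z₁ ^ 2 + a * z₁ * z₂ + b * z₂ ^ 2 = 0 → z₁ = 0 ∧ z₂ = 0) :
    (∀ H : Subgroup (Cfsg.POmega F (Cfsg.quadFormMinus (m - 1) F a b)), H ≠ ⊤ →
        (q ^ m + 1) * (q ^ (m - 1) - 1) / (q - 1) ≤ H.index) ∧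
      (∃ H : Subgroup (Cfsg.POmega F (Cfsg.quadFormMinus (m - 1) F a b)),
        H.index = (q ^ m + 1) * (q ^ (m - 1) - 1) / (q - 1)) := by
  obtain ⟨j, rfl⟩ : ∃ j, m = j + 1 := ⟨m - 1, by omega⟩
  simp only [Nat.add_sub_cancel]
  rw [← OOmega.coe_minus]
  have h := model_formOf (Equiv.refl ((Fin j ⊕ Fin j) ⊕ Fin 2)) (planeForm a b) (OOmega.pnd_plane hab) fun z hz => by
    rw [planeForm_apply] at hz
    obtain ⟨e0, e1⟩ := hab _ _ hz
    funext i
    fin_cases i <;> assumption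
  rw [Fintype.card_fin] at h
  have hS : Space (OOmega.formOf j (Equiv.refl ((Fin j ⊕ Fin j) ⊕ Fin 2)) (planeForm a b)) := h.space (by omega)
  obtain ⟨T, hT, hTq⟩ : ∃ T, Nat.card {t : F // t * t = 1} ≤ T ∧ (T = 1 ∧ q = 2 ∨ T = 2 ∧ 3 ≤ q) := by
    rcases eq_or_ne q 2 with e | e
    · exact ⟨1, (roots_two (two_eq_zero (hF.trans e))).le, Or.inl ⟨rfl, e⟩⟩
    · refine ⟨2, roots_le_two, Or.inr ⟨rfl, ?_⟩⟩
      have : 1 < q := hF ▸ Fintype.one_lt_card
      omega
  have hb := bounds_minus h (by omega) hF hT hTq (fun c _ => plane_value hab c)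
    (Nat.div_mul_le_self ((q ^ (j + 1) + 1) * (q ^ j - 1)) (q - 1))
  refine ⟨fun H hH => le_index_POmega hS hb H hH, ?_⟩
  obtain ⟨H, hH⟩ := exists_index_singular hS
  refine ⟨H, ?_⟩
  rw [card_singular h, Nat.card_eq_fintype_card, hF, show j - 1 + 2 = j + 1 by omega, mul_comm] at hH
  have : 1 < q := hF ▸ Fintype.one_lt_card
  rw [hH, Nat.mul_div_cancel _ (by omega)]

end Cfsg.Agent.Small.OMinIndex
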